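import Mathlib
import Cfsg.Prelude.Def_GeometricClasses

/-!
# S5877 lemma server "ES" (helper97): shared definitions

`R ≤ GL_n(F)` absolutely irreducible extraspecial `r`-group, `g` normalising `R ⊔ scalars`.
-/

set_option autoImplicit false

namespace Cfsg.Agent.Helper97.ES

open Cfsg Cfsg.Geo
open scoped MatrixGroups

variable {F : Type*} [Field F] {n : ℕ}

/-- the hypotheses of S5877 on `R` -/
structure Setup (r : ℕ) (R : Subgroup (GL (Fin n) F)) : Prop where
  hr : r.Prime
  hR : IsPGroup r R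
  hZ : Nat.card (Subgroup.center R) = r
  hext : commutator R = Subgroup.center R
  hexp : Monoid.exponent R = r ∨ Monoid.exponent R = 4
  hirr : ActsAbsolutelyIrreducibly (matrixSet R)

/-- the group `R ⊔ scalars` -/
abbrev HZ (R : Subgroup (GL (Fin n) F)) : Subgroup (GL (Fin n) F) := R ⊔ scalars (Fin n) F

/-- dimension of the `c`-eigenspace of `g` -/
noncomputable def eDim (g : GL (Fin n) F) (c : F) : ℕ :=
  Module.finrank F (Module.End.eigenspace (Matrix.toLin' (g : Matrix (Fin n) (Fin n) F)) c)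

/-- `g` centralises `R` modulo scalars -/
def Triv (R : Subgroup (GL (Fin n) F)) (g : GL (Fin n) F) : Prop :=
  ∀ x ∈ R, g * x * g⁻¹ * x⁻¹ ∈ scalars (Fin n) F

/-- a basis of the matrix algebra consisting of elements of `R`, one for each coset of the scalars in `R ⊔ scalars` -/
structure NiceBasis (R : Subgroup (GL (Fin n) F)) (x : Fin (n * n) → Matrix (Fin n) (Fin n) F) : Prop where
  li : LinearIndependent F x
  mem : ∀ t, ∃ y ∈ R, ((y : GL (Fin n) F) : Matrix (Fin n) (Fin n) F) = x t
  cover : ∀ y ∈ HZ R, ∃ t, ∃ c : F, ((y : GL (Fin n) F) : Matrix (Fin n) (Fin n) F) = c • x t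

/-- conjugation by `g` as a linear map on matrices: `A ↦ g * A * g⁻¹` -/
noncomputable def conjLin (g : GL (Fin n) F) :
    Matrix (Fin n) (Fin n) F →ₗ[F] Matrix (Fin n) (Fin n) F :=
  (LinearMap.mulLeft F (g : Matrix (Fin n) (Fin n) F)).comp
    (LinearMap.mulRight F ((g⁻¹ : GL (Fin n) F) : Matrix (Fin n) (Fin n) F))

theorem conjLin_apply (g : GL (Fin n) F) (A : Matrix (Fin n) (Fin n) F) :
    conjLin g A = (g : Matrix (Fin n) (Fin n) F) * A * ((g⁻¹ : GL (Fin n) F) : Matrix (Fin n) (Fin n) F) := by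
  simp [conjLin, mul_assoc]

/-- dimension of the commutant `{A | g A g⁻¹ = A}` of `g` in the matrix algebra -/
noncomputable def cDim (g : GL (Fin n) F) : ℕ :=
  Module.finrank F (LinearMap.ker (conjLin g - LinearMap.id))

end Cfsg.Agent.Helper97.ES
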