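import Mathlib
import Cfsg.Prelude.Def_OddOrderLocal

/-!
# Small general facts for the Bender–Glauberman chain (disjointness of the cosets `x R(x)`)

* `mem_sigma_iff` : membership in `σ(M)` in terms of subgroups of the ambient group;
* `sigma_map_conj` : `σ(M^g) = σ(M)`;
* `mem_sigmaCore_of_pi` : a `σ(L)`-element of `L` lies in `L_σ` when `L_σ` is a Hall subgroup;
* `eq_of_mul_eq_mul`, `exists_zpow_left`, `exists_zpow_right` : uniqueness of the decomposition of
  an element into commuting parts of coprime orders.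
-/

set_option autoImplicit false

namespace Cfsg.Agent.Helper97.BG144

open Subgroup

variable {G : Type*} [Group G]

theorem mem_sigma_iff [Finite G] (M : Subgroup G) (p : ℕ) :
    p ∈ Cfsg.sigma M ↔ p.Prime ∧ p ∣ Nat.card M ∧ ∃ Q : Subgroup G, Q ≤ M ∧ IsPGroup p Q ∧
      ¬ p ∣ Q.relIndex M ∧ normalizer (Q : Set G) ≤ M := by
  constructor
  · rintro ⟨hp, hd, P, hP⟩
    have := Fact.mk hp
    refine ⟨hp, hd, (P : Subgroup M).map M.subtype, ?_, ?_, ?_, hP⟩
    · exact Subgroup.map_subtype_le _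
    · exact P.2.map _
    · have h : ((P : Subgroup M).map M.subtype).relIndex M = (P : Subgroup M).index := by
        unfold Subgroup.relIndex Subgroup.subgroupOf
        rw [Subgroup.comap_map_eq_self_of_injective M.subtype_injective]
      rw [h]
      exact P.not_dvd_index
  · rintro ⟨hp, hd, Q, hQM, hQ, hidx, hN⟩
    have := Fact.mk hp
    have hQ' : IsPGroup p (Q.subgroupOf M) := hQ.comap_subtype
    have hidx' : ¬ p ∣ (Q.subgroupOf M).index := hidx
    refine ⟨hp, hd, hQ'.toSylow hidx', ?_⟩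
    have h : ((hQ'.toSylow hidx' : Sylow p M) : Subgroup M).map M.subtype = Q := by
      rw [IsPGroup.toSylow_coe, Subgroup.subgroupOf_map_subtype, inf_eq_left.mpr hQM]
    rw [h]
    exact hN

theorem sigma_map_le [Finite G] (M : Subgroup G) (g : G) :
    Cfsg.sigma M ⊆ Cfsg.sigma (M.map (MulAut.conj g).toMonoidHom) := by
  intro p hp
  rw [mem_sigma_iff] at hp ⊢
  obtain ⟨hpp, hd, Q, hQM, hQ, hidx, hN⟩ := hp
  have hinj : Function.Injective (MulAut.conj g).toMonoidHom := (MulAut.conj g).injective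
  refine ⟨hpp, ?_, Q.map (MulAut.conj g).toMonoidHom, Subgroup.map_mono hQM, hQ.map _, ?_, ?_⟩
  · rwa [Subgroup.card_map_of_injective hinj]
  · rwa [Subgroup.relIndex_map_map_of_injective _ _ hinj]
  · rw [← Subgroup.map_equiv_normalizer_eq]
    exact Subgroup.map_mono hN

theorem map_conj_inv_map_conj (M : Subgroup G) (g : G) :
    (M.map (MulAut.conj g).toMonoidHom).map (MulAut.conj g⁻¹).toMonoidHom = M := by
  ext x
  simp only [Subgroup.mem_map, MulEquiv.coe_toMonoidHom, MulAut.conj_apply, exists_exists_and_eq_and]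
  constructor
  · rintro ⟨a, ha, rfl⟩
    have : g⁻¹ * (g * a * g⁻¹) * g⁻¹⁻¹ = a := by group
    rw [this]; exact ha
  · intro hx
    exact ⟨x, hx, by group⟩

theorem sigma_map_conj [Finite G] (M : Subgroup G) (g : G) :
    Cfsg.sigma (M.map (MulAut.conj g).toMonoidHom) = Cfsg.sigma M := by
  apply Set.Subset.antisymm
  · have h := sigma_map_le (M.map (MulAut.conj g).toMonoidHom) g⁻¹
    rwa [map_conj_inv_map_conj] at h
  · exact sigma_map_le M g

/-- A `σ(L)`-element of `L` lies in `L_σ` when `L_σ` is a Hall `σ(L)`-subgroup of `L`. -/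
theorem mem_sigmaCore_of_pi [Finite G] {L : Subgroup G}
    (hHall : Cfsg.IsPiHallOf (Cfsg.sigma L) (Cfsg.sigmaCore L) L) {g : G} (hg : g ∈ L)
    (hπ : ∀ p : ℕ, p.Prime → p ∣ orderOf g → p ∈ Cfsg.sigma L) : g ∈ Cfsg.sigmaCore L := by
  set N : Subgroup L := Cfsg.piCore (Cfsg.sigma L) L with hN
  have hidx : N.index = (Cfsg.sigmaCore L).relIndex L := by
    unfold Cfsg.sigmaCore Subgroup.relIndex Subgroup.subgroupOf
    congr 1
    exact (Subgroup.comap_map_eq_self_of_injective L.subtype_injective _).symm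
  set y : L := ⟨g, hg⟩ with hy
  have hoy : orderOf y = orderOf g := Subgroup.orderOf_mk g hg
  have ho1 : orderOf ((QuotientGroup.mk' N) y) ∣ orderOf g := by
    rw [← hoy]; exact orderOf_map_dvd _ y
  have ho2 : orderOf ((QuotientGroup.mk' N) y) ∣ N.index := by
    rw [Subgroup.index_eq_card]; exact orderOf_dvd_natCard _
  have ho : orderOf ((QuotientGroup.mk' N) y) = 1 := by
    by_contra hne
    obtain ⟨p, hp, hpd⟩ := Nat.exists_prime_and_dvd hne
    have h1 : p ∈ Cfsg.sigma L := hπ p hp (hpd.trans ho1)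
    have h2 : p ∣ (Cfsg.sigmaCore L).relIndex L := by rw [← hidx]; exact hpd.trans ho2
    exact hHall.2.2 p hp h1 h2
  have hyN : y ∈ N := by
    have := orderOf_eq_one_iff.mp ho
    exact (QuotientGroup.eq_one_iff y).mp this
  unfold Cfsg.sigmaCore
  exact ⟨y, hyN, rfl⟩

/-- The prime divisors of the order of an element of `L_σ` lie in `σ(L)`. -/
theorem pi_of_mem_sigmaCore [Finite G] {L : Subgroup G}
    (hHall : Cfsg.IsPiHallOf (Cfsg.sigma L) (Cfsg.sigmaCore L) L) {g : G}
    (hg : g ∈ Cfsg.sigmaCore L) :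
    ∀ p : ℕ, p.Prime → p ∣ orderOf g → p ∈ Cfsg.sigma L := by
  intro p hp hpd
  exact hHall.2.1 p hp (hpd.trans (Subgroup.orderOf_dvd_natCard _ hg))

theorem exists_zpow_left {a b : G} (hab : Commute a b)
    (hc : (orderOf a).Coprime (orderOf b)) : ∃ j : ℤ, a = (a * b) ^ j := by
  have h1 : (a * b) ^ (orderOf b) = a ^ (orderOf b) := by
    rw [hab.mul_pow, pow_orderOf_eq_one, mul_one]
  have hg : Int.gcd (orderOf b : ℤ) (orderOf a : ℤ) = 1 := by
    rw [Int.gcd_natCast_natCast]; exact hc.symm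
  have hbez := Int.gcd_eq_gcd_ab (orderOf b : ℤ) (orderOf a : ℤ)
  rw [hg] at hbez
  refine ⟨(orderOf b : ℤ) * Int.gcdA (orderOf b : ℤ) (orderOf a : ℤ), ?_⟩
  rw [zpow_mul, zpow_natCast, h1]
  have h2 : a ^ ((1 : ℕ) : ℤ) = a := by simp
  conv_lhs => rw [← h2, hbez]
  rw [zpow_add, zpow_mul, zpow_mul, zpow_natCast, zpow_natCast, pow_orderOf_eq_one, one_zpow,
    mul_one]

theorem exists_zpow_right {a b : G} (hab : Commute a b)
    (hc : (orderOf a).Coprime (orderOf b)) : ∃ j : ℤ, b = (a * b) ^ j := by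
  obtain ⟨j, hj⟩ := exists_zpow_left hab.symm hc.symm
  exact ⟨j, by rw [hab.eq]; exact hj⟩

theorem eq_of_mul_eq_mul {a b c d : G} (hab : Commute a b) (hcd : Commute c d)
    (h : a * b = c * d)
    (h1 : (orderOf a).Coprime (orderOf b)) (h2 : (orderOf a).Coprime (orderOf d))
    (h3 : (orderOf c).Coprime (orderOf b)) (h4 : (orderOf c).Coprime (orderOf d)) :
    a = c ∧ b = d := by
  set k := orderOf b * orderOf d with hk
  set m := orderOf a * orderOf c with hm
  have hbk : b ^ k = 1 := by rw [hk, pow_mul, pow_orderOf_eq_one, one_pow]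
  have hdk : d ^ k = 1 := by rw [hk, mul_comm, pow_mul, pow_orderOf_eq_one, one_pow]
  have ham : a ^ m = 1 := by rw [hm, pow_mul, pow_orderOf_eq_one, one_pow]
  have hcm : c ^ m = 1 := by rw [hm, mul_comm, pow_mul, pow_orderOf_eq_one, one_pow]
  have hak : a ^ k = c ^ k := by
    have e1 : (a * b) ^ k = a ^ k := by rw [hab.mul_pow, hbk, mul_one]
    have e2 : (c * d) ^ k = c ^ k := by rw [hcd.mul_pow, hdk, mul_one]
    rw [← e1, ← e2, h]
  have hcop : Nat.Coprime k m := by
    rw [hk, hm]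
    exact Nat.Coprime.mul_left (Nat.Coprime.mul_right h1.symm h3.symm)
      (Nat.Coprime.mul_right h2.symm h4.symm)
  have hg : Int.gcd (k : ℤ) (m : ℤ) = 1 := by
    rw [Int.gcd_natCast_natCast]; exact hcop
  have hbez := Int.gcd_eq_gcd_ab (k : ℤ) (m : ℤ)
  rw [hg] at hbez
  have key : ∀ t : G, t ^ m = 1 → t = (t ^ k) ^ (Int.gcdA (k : ℤ) (m : ℤ)) := by
    intro t ht
    have h2 : t ^ ((1 : ℕ) : ℤ) = t := by simp
    conv_lhs => rw [← h2, hbez]
    rw [zpow_add, zpow_mul, zpow_mul, zpow_natCast, zpow_natCast, ht, one_zpow, mul_one]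
  have hac : a = c := by
    rw [key a ham, key c hcm, hak]
  refine ⟨hac, ?_⟩
  rw [hac] at h
  exact mul_left_cancel h

end Cfsg.Agent.Helper97.BG144
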