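import Mathlib

/-!
# S3818 lemma server "FX" (helper97): shared definitions

`fixDim T` = dimension of the fixed space `ker (T - 1)` of an operator;
`Irr ρ` = no proper nonzero invariant subspace (for `ρ : G →* Module.End K V`; a
`Representation K G V` IS such a monoid hom).
-/

set_option autoImplicit false

namespace Cfsg.Agent.Helper97.FX

variable {K : Type*} [Field K] {V : Type*} [AddCommGroup V] [Module K V]

/-- dimension of the fixed space `ker (T - 1)` -/
noncomputable def fixDim (T : Module.End K V) : ℕ :=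
  Module.finrank K (LinearMap.ker (T - 1))

theorem fixDim_def (T : Module.End K V) :
    fixDim T = Module.finrank K (LinearMap.ker (T - 1)) := rfl

/-- every invariant subspace is `⊥` or `⊤` -/
def Irr {G : Type*} [Monoid G] (ρ : G →* Module.End K V) : Prop :=
  ∀ W : Submodule K V, (∀ g, ∀ w ∈ W, ρ g w ∈ W) → W = ⊥ ∨ W = ⊤

/-- "clean": for every minimal normal subgroup `N₀` of `G` the order of `N₀` is invertible in `K`
and the sum of `ρ n` over `N₀` vanishes (so `N₀` has no nonzero fixed vector in any subquotient). -/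
def Clean {G : Type*} [Group G] (ρ : G →* Module.End K V) : Prop :=
  ∀ N₀ : Subgroup G, N₀.Normal → N₀ ≠ ⊥ → (∀ M : Subgroup G, M.Normal → M ≤ N₀ → M = ⊥ ∨ M = N₀) →
    ((Nat.card N₀ : K) ≠ 0 ∧ ∀ v : V, ∑ᶠ n : N₀, ρ (n : G) v = 0)

end Cfsg.Agent.Helper97.FX
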