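import Mathlib
import Cfsg.Agent.Lib.Helper97.FXDefs

/-!
# S3818 lemma server "FX" (helper97): shared definitions, part 2

`Inv ρ W` (invariant subspace), `subRep`, `quotRep`, `baseRep` (extension of scalars),
`WtOrbit ρ W₀` = the `G`-orbit of the subspace `W₀` (as a type with a transitive `G`-action).
-/

set_option autoImplicit false

namespace Cfsg.Agent.Helper97.FX

open TensorProduct

variable {K : Type*} [Field K] {V : Type*} [AddCommGroup V] [Module K V]
variable {G : Type*} [Group G]

/-- `W` is invariant under `ρ` -/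
def Inv (ρ : G →* Module.End K V) (W : Submodule K V) : Prop :=
  ∀ g, ∀ w ∈ W, ρ g w ∈ W

/-- the subrepresentation on an invariant subspace -/
def subRep (ρ : G →* Module.End K V) (W : Submodule K V) (hW : Inv ρ W) :
    G →* Module.End K W where
  toFun g := (ρ g).restrict (hW g)
  map_one' := by
    ext w
    simp
  map_mul' a b := by
    ext w
    simp

@[simp] theorem subRep_apply (ρ : G →* Module.End K V) (W : Submodule K V) (hW : Inv ρ W)
    (g : G) (w : W) : ((subRep ρ W hW g) w : V) = ρ g w := rfl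

/-- the quotient representation -/
def quotRep (ρ : G →* Module.End K V) (W : Submodule K V) (hW : Inv ρ W) :
    G →* Module.End K (V ⧸ W) where
  toFun g := W.mapQ W (ρ g) (fun w hw => hW g w hw)
  map_one' := by
    ext w
    simp
  map_mul' a b := by
    ext w
    simp

@[simp] theorem quotRep_mk (ρ : G →* Module.End K V) (W : Submodule K V) (hW : Inv ρ W)
    (g : G) (v : V) : (quotRep ρ W hW g) (Submodule.Quotient.mk v) = Submodule.Quotient.mk (ρ g v) :=
  rfl

/-- extension of scalars -/
noncomputable def baseRep (L : Type*) [Field L] [Algebra K L] (ρ : G →* Module.End K V) :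
    G →* Module.End L (L ⊗[K] V) :=
  ((Module.End.baseChangeHom K L V : Module.End K V →ₐ[K] Module.End L (L ⊗[K] V)) :
    Module.End K V →* Module.End L (L ⊗[K] V)).comp ρ

theorem baseRep_apply (L : Type*) [Field L] [Algebra K L] (ρ : G →* Module.End K V) (g : G) :
    baseRep L ρ g = (ρ g).baseChange L := rfl

/-- the orbit of the subspace `W₀` under `G` -/
def WtOrbit (ρ : G →* Module.End K V) (W₀ : Submodule K V) : Type _ :=
  {W : Submodule K V // ∃ g : G, W = W₀.map (ρ g)}

instance (ρ : G →* Module.End K V) (W₀ : Submodule K V) : MulAction G (WtOrbit ρ W₀) where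
  smul g W := ⟨W.1.map (ρ g), by
    obtain ⟨h, hh⟩ := W.2
    refine ⟨g * h, ?_⟩
    rw [hh, map_mul, Module.End.mul_eq_comp, Submodule.map_comp]⟩
  one_smul W := by
    apply Subtype.ext
    show W.1.map (ρ 1) = W.1
    rw [map_one, Module.End.one_eq_id, Submodule.map_id]
  mul_smul a b W := by
    apply Subtype.ext
    show W.1.map (ρ (a * b)) = (W.1.map (ρ b)).map (ρ a)
    rw [map_mul, Module.End.mul_eq_comp, Submodule.map_comp]

theorem WtOrbit.smul_val (ρ : G →* Module.End K V) (W₀ : Submodule K V) (g : G)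
    (W : WtOrbit ρ W₀) : (g • W).1 = W.1.map (ρ g) := rfl

instance (ρ : G →* Module.End K V) (W₀ : Submodule K V) :
    MulAction.IsPretransitive G (WtOrbit ρ W₀) where
  exists_smul_eq := by
    rintro ⟨W, a, ha⟩ ⟨W', b, hb⟩
    refine ⟨b * a⁻¹, ?_⟩
    apply Subtype.ext
    show W.map (ρ (b * a⁻¹)) = W'
    rw [ha, hb, ← Submodule.map_comp, ← Module.End.mul_eq_comp, ← map_mul, mul_assoc,
      inv_mul_cancel, mul_one]

instance [Finite G] (ρ : G →* Module.End K V) (W₀ : Submodule K V) : Finite (WtOrbit ρ W₀) :=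
  Finite.of_surjective (fun g : G => (⟨W₀.map (ρ g), g, rfl⟩ : WtOrbit ρ W₀))
    (by
      rintro ⟨W, g, hg⟩
      exact ⟨g, Subtype.ext hg.symm⟩)

/-- the base point of the orbit -/
def WtOrbit.base (ρ : G →* Module.End K V) (W₀ : Submodule K V) : WtOrbit ρ W₀ :=
  ⟨W₀, 1, by rw [map_one, Module.End.one_eq_id, Submodule.map_id]⟩

end Cfsg.Agent.Helper97.FX
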