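import Mathlib
import Cfsg.Agent.Lib.Helper97.FXDefs
import Cfsg.Agent.Lib.Helper48.SympRep
import Cfsg.Agent.Lib.Helper82.FXIDX
import Cfsg.Agent.Lib.Helper73.FXAR1
import Cfsg.Agent.Lib.Helper73.FXAR2
import Cfsg.Agent.Lib.Helper82.FXCOUNT
import Cfsg.Agent.Lib.Helper25.FXSHC
import Cfsg.Agent.Lib.Helper51.FXTRCCore
import Cfsg.Agent.Lib.Helper24.FXTRANSV

/-!
# S3818 (FX server): the symplectic-type core `symp_core`
-/

set_option autoImplicit false

namespace Cfsg.Agent.Helper97.FX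

open Cfsg.Agent.Helper48.SympRep

universe u

section SY
variable {K : Type*} [Field K] {M : Type u} [AddCommGroup M] [Module K M] [FiniteDimensional K M]
variable {Q : Type*} [Group Q] [Fintype Q]
variable {ρ : Q →* Module.End K M} {a : Q ≃* Q} {g g' : Module.End K M}

theorem transv_case [IsAlgClosed K] (hρ : Symp ρ) (hQ : (Fintype.card Q : K) ≠ 0)
    (h : Normalises ρ a g g') {p : ℕ} (hp : p.Prime) (hp2 : p ≠ 2) (hgp : g ^ p = 1)
    (hidx : Nat.card (Q ⧸ scalarSubgroup ρ) =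
      p * Nat.card {w : Q ⧸ scalarSubgroup ρ // sigma h w = w})
    (hσ : ∃ u : Q, a u * u⁻¹ ∉ scalarSubgroup ρ)
    (hns : ∀ m : Q, a m * m⁻¹ ∈ scalarSubgroup ρ → ρ (a m * m⁻¹) = 1) :
    p * fixDim g ≤ 2 * Module.finrank K M :=
  Cfsg.Agent.Helper51.FX.h51_transv_case_of hρ hQ h hp hgp hidx hσ hns
    (fun hpK T A P P' hPP' hP'P κ hκ1 hκp hTp hTA hPT hPA =>
      Cfsg.Agent.Helper24.FX.transv_bound T A P P' hPP' hP'P κ hp hp2 hpK hκ1 hκp hTp hTA hPT hPA)

theorem symp_core [IsAlgClosed K] [Nontrivial M] (hρ : Symp ρ) (hQ : (Fintype.card Q : K) ≠ 0)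
    (h : Normalises ρ a g g') {p r : ℕ} (hp : p.Prime) (hp5 : 5 ≤ p) (hr : r.Prime)
    (hgp : g ^ p = 1) (hcard : ∃ k, Nat.card (Q ⧸ scalarSubgroup ρ) = r ^ k)
    (hσ : ∃ u : Q, a u * u⁻¹ ∉ scalarSubgroup ρ) :
    2 * fixDim g < Module.finrank K M := by
  obtain ⟨I, f, j, hf, hj, hI, hcardIf, hfix, hmod⟩ :=
    Cfsg.Agent.Helper82.FX.index_facts h hp hr hgp hcard hσ
  have hD : 0 < Module.finrank K M := Module.finrank_pos
  have hw : fixDim g ≤ Module.finrank K M := by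
    rw [fixDim_def]
    exact Submodule.finrank_le _
  by_cases hex : r = 5 ∧ p = 5 ∧ j = 1
  · obtain ⟨rfl, rfl, rfl⟩ := hex
    by_cases hm : ∃ m : Q, a m * m⁻¹ ∈ scalarSubgroup ρ ∧ ρ (a m * m⁻¹) ≠ 1
    · obtain ⟨m, hm1, hm2⟩ := hm
      have h5 := Cfsg.Agent.Helper25.FX.shift_case h hp hgp m hm1 hm2
      omega
    · push Not at hm
      have hidx : Nat.card (Q ⧸ scalarSubgroup ρ) =
          5 * Nat.card {w : Q ⧸ scalarSubgroup ρ // sigma h w = w} := by
        rw [hcardIf, hfix, hI, pow_one]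
      have h5 := transv_case hρ hQ h hp (by norm_num) hgp hidx hσ hm
      omega
  · have har := Cfsg.Agent.Helper73.FX.arith_index p r I j hp hp5 hr hj hI hmod hex
    have hcount := Cfsg.Agent.Helper82.FX.count_ineq hρ hQ h hp hgp
    rw [hcardIf, hfix] at hcount
    exact Cfsg.Agent.Helper73.FX.arith_main p I f (fixDim g) (Module.finrank K M) hp5 har hf hD hw
      hcount

end SY

end Cfsg.Agent.Helper97.FX
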