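import Mathlib
import Cfsg.Agent.Lib.Helper97.FXDefs
import Cfsg.Agent.Lib.Helper97.FXDefs2
import Cfsg.Agent.Lib.Helper48.SympRep
import Cfsg.Agent.Lib.Helper97.FXCore
import Cfsg.Agent.Lib.Helper68.FXMINN
import Cfsg.Agent.Lib.Helper33.FXCENT
import Cfsg.Agent.Lib.Helper51.FXBSIG
import Cfsg.Agent.Lib.Helper51.FXBSYMP
import Cfsg.Agent.Lib.Helper33.FXCHARNE
import Cfsg.Agent.Lib.Helper8.FXCASEA

/-!
# S3818 (FX server): the irreducible faithful case over an algebraically closed field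
-/

set_option autoImplicit false

namespace Cfsg.Agent.Helper97.FX

open Cfsg.Agent.Helper48.SympRep

universe u

section RT
variable {K : Type*} [Field K] [IsAlgClosed K] {G : Type*} [Group G] [Finite G]
variable {V : Type u} [AddCommGroup V] [Module K V] [FiniteDimensional K V] [Nontrivial V]

theorem case_B [Group.IsSolvable G] (ρ : G →* Module.End K V) (hirr : Irr ρ)
    (hf : Function.Injective ρ) {p r : ℕ} (hp : p.Prime) (hp5 : 5 ≤ p) (hr : r.Prime) (x : G)
    (hx : orderOf x = p)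
    (hgen : Subgroup.normalClosure ({x} : Set G) = ⊤) (N : Subgroup G) [N.Normal]
    (hNr : IsPGroup r N) (hcard : (Nat.card N : K) ≠ 0)
    (hxN : ∃ n ∈ N, x * n ≠ n * x)
    (hmin : ∀ M : Subgroup G, M.Normal → M < N → M ≤ Subgroup.center G)
    (hnab : ¬ ∀ a ∈ N, ∀ b ∈ N, a * b = b * a) : 2 * fixDim (ρ x) < Module.finrank K V := by
  classical
  haveI : Fintype N := Fintype.ofFinite N
  haveI : Fact r.Prime := ⟨hr⟩
  have hsymp : Symp (ρ.comp N.subtype) :=
    Cfsg.Agent.Helper51.FX.symp_of_minimal ρ hirr hf N hmin hnab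
  have hQ : (Fintype.card N : K) ≠ 0 := by
    rwa [← Nat.card_eq_fintype_card]
  have hnorm : Normalises (ρ.comp N.subtype) (MulAut.conjNormal x : N ≃* N) (ρ x) (ρ x⁻¹) := by
    refine ⟨?_, ?_, ?_⟩
    · rw [← map_mul, mul_inv_cancel, map_one]
    · rw [← map_mul, inv_mul_cancel, map_one]
    · intro u
      show ρ x * ρ (u : G) = ρ ((MulAut.conjNormal x u : N) : G) * ρ x
      rw [MulAut.conjNormal_apply, ← map_mul, ← map_mul]
      congr 1
      group
  have hgp : ρ x ^ p = 1 := by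
    rw [← map_pow, ← hx, pow_orderOf_eq_one, map_one]
  have hcardq : ∃ k, Nat.card (N ⧸ scalarSubgroup (ρ.comp N.subtype)) = r ^ k :=
    (IsPGroup.iff_card).mp (hNr.to_quotient _)
  have hσ := Cfsg.Agent.Helper51.FX.exists_moved ρ hirr hf x hgen N hxN hmin hnab
  exact symp_core hsymp hQ hnorm hp hp5 hr hgp hcardq hσ

theorem irr_bound [Group.IsSolvable G] (ρ : G →* Module.End K V) (hirr : Irr ρ)
    (hf : Function.Injective ρ) (hc : Clean ρ) {p : ℕ} (hp : p.Prime) (hp5 : 5 ≤ p) (x : G)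
    (hx : orderOf x = p)
    (hgen : Subgroup.normalClosure ({x} : Set G) = ⊤) :
    2 * fixDim (ρ x) < Module.finrank K V := by
  by_cases hxc : x ∈ Subgroup.center G
  · exact Cfsg.Agent.Helper33.FX.central_case ρ hirr hf hp x hx hxc
  obtain ⟨N, r, hN, hr, hNr, hxN, hmin⟩ := Cfsg.Agent.Helper68.FX.exists_min_normal x hgen hxc
  haveI := hN
  have hne : N ≠ ⊥ := by
    rintro rfl
    obtain ⟨n, hn, hne⟩ := hxN
    rw [Subgroup.mem_bot] at hn
    subst hn
    simp at hne
  have hcard := Cfsg.Agent.Helper33.FX.card_ne_zero_of_clean ρ hc N hr hNr hne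
  by_cases hab : ∀ a ∈ N, ∀ b ∈ N, a * b = b * a
  · exact Cfsg.Agent.Helper8.FX.case_A ρ hirr hf hp hp5 x hx hgen N hab hcard hxN
  · exact case_B ρ hirr hf hp hp5 hr x hx hgen N hNr hcard hxN hmin hab

end RT

end Cfsg.Agent.Helper97.FX
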