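import Mathlib
import Cfsg.Agent.Lib.Helper97.FXDefs
import Cfsg.Agent.Lib.Helper97.FXDefs2
import Cfsg.Agent.Lib.Helper97.FXIrr
import Cfsg.Agent.Lib.Helper12.FXCLSUB
import Cfsg.Agent.Lib.Helper12.FXCLQUOT
import Cfsg.Agent.Lib.Helper12.FXCLBASE
import Cfsg.Agent.Lib.Helper12.FXCLFAITH
import Cfsg.Agent.Lib.Helper73.FXFIXSQ
import Cfsg.Agent.Lib.Helper73.FXFIXBASE
import Cfsg.Agent.Lib.Helper82.FXISUM
import Cfsg.Agent.Lib.Helper33.FXIRRSUB
import Cfsg.Agent.Lib.Helper57.FXICARD

/-!
# S3818 (FX server): descent to an arbitrary field and the final statement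
-/

set_option autoImplicit false

namespace Cfsg.Agent.Helper97.FX

open scoped TensorProduct

universe u

section DS
variable {K : Type*} [Field K] {G : Type*} [Group G] [Finite G] [Group.IsSolvable G]

theorem clean_bound_aux [IsAlgClosed K] {p : ℕ} (hp : p.Prime) (hp5 : 5 ≤ p) (x : G)
    (hx : orderOf x = p) (hgen : Subgroup.normalClosure ({x} : Set G) = ⊤) :
    ∀ (n : ℕ) (V : Type u) [AddCommGroup V] [Module K V] [FiniteDimensional K V] [Nontrivial V]
      (ρ : G →* Module.End K V), Module.finrank K V = n → Clean ρ →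
      2 * fixDim (ρ x) < Module.finrank K V := by
  intro n
  induction n using Nat.strong_induction_on with
  | _ n ih =>
    intro V _ _ _ _ ρ hn hc
    obtain ⟨W, hW, hWne, hWirr⟩ := Cfsg.Agent.Helper33.FX.exists_irr_sub ρ
    haveI : Nontrivial W := Submodule.nontrivial_iff_ne_bot.mpr hWne
    have hcW := Cfsg.Agent.Helper12.FX.clean_sub ρ hc W hW
    have hfW := Cfsg.Agent.Helper12.FX.clean_faithful (subRep ρ W hW) hcW
    have h1 := irr_bound (subRep ρ W hW) hWirr hfW hcW hp hp5 x hx hgen
    have h2 := Cfsg.Agent.Helper73.FX.fixDim_sub_quot (ρ x) W (hW x)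
    have hdim : Module.finrank K (V ⧸ W) + Module.finrank K W = Module.finrank K V :=
      Submodule.finrank_quotient_add_finrank W
    have hWpos : 0 < Module.finrank K W := Module.finrank_pos
    have e1 : subRep ρ W hW x = (ρ x).restrict (hW x) := rfl
    have e2 : quotRep ρ W hW x = W.mapQ W (ρ x) (fun w hw => hW x w hw) := rfl
    rw [← e1, ← e2] at h2
    by_cases hq : Nontrivial (V ⧸ W)
    · have hlt : Module.finrank K (V ⧸ W) < n := by omega
      have h3 := ih _ hlt (V ⧸ W) (quotRep ρ W hW) rfl
        (Cfsg.Agent.Helper12.FX.clean_quot ρ hc W hW)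
      omega
    · rw [not_nontrivial_iff_subsingleton] at hq
      have h3 : fixDim (quotRep ρ W hW x) = 0 := by
        rw [fixDim_def]
        exact Module.finrank_zero_of_subsingleton
      omega

variable {V : Type u} [AddCommGroup V] [Module K V] [FiniteDimensional K V]

theorem clean_bound [IsAlgClosed K] [Nontrivial V] (ρ : G →* Module.End K V) (hc : Clean ρ)
    {p : ℕ} (hp : p.Prime) (hp5 : 5 ≤ p) (x : G) (hx : orderOf x = p)
    (hgen : Subgroup.normalClosure ({x} : Set G) = ⊤) :
    2 * fixDim (ρ x) < Module.finrank K V :=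
  clean_bound_aux hp hp5 x hx hgen _ V ρ rfl hc

theorem field_bound [Nontrivial V] (ρ : G →* Module.End K V) (hirr : Irr ρ)
    (hf : Function.Injective ρ) {p : ℕ} (hp : p.Prime) (hp5 : 5 ≤ p) (x : G) (hx : orderOf x = p)
    (hgen : Subgroup.normalClosure ({x} : Set G) = ⊤) :
    2 * fixDim (ρ x) < Module.finrank K V := by
  have hc : Clean ρ := fun N₀ hN hne hmin =>
    ⟨Cfsg.Agent.Helper57.FX.irr_card_ne ρ hirr hf N₀ hN hne hmin,
      Cfsg.Agent.Helper82.FX.irr_sum_zero ρ hirr hf N₀ hN hne⟩
  have hcL := Cfsg.Agent.Helper12.FX.clean_base (AlgebraicClosure K) ρ hc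
  haveI : Nontrivial (AlgebraicClosure K ⊗[K] V) := by
    apply (Module.finrank_pos_iff (R := AlgebraicClosure K)).mp
    rw [Module.finrank_baseChange]
    exact Module.finrank_pos
  have h := clean_bound (K := AlgebraicClosure K) (baseRep (AlgebraicClosure K) ρ) hcL hp hp5 x hx
    hgen
  rw [baseRep_apply, Cfsg.Agent.Helper73.FX.fixDim_baseChange, Module.finrank_baseChange] at h
  exact h

end DS

section FINAL

/-- S3818 without the (unused) characteristic hypothesis. -/
theorem flavell_fixed_space {G : Type*} [Group G] [Finite G] [Group.IsSolvable G]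
    {p : ℕ} [Fact p.Prime] (hp : 3 < p) (P : Subgroup G) (hP : Nat.card P = p)
    (hgen : Subgroup.normalClosure (P : Set G) = ⊤)
    {k : Type*} [Field k]
    {V : Type*} [AddCommGroup V] [Module k V] [FiniteDimensional k V]
    (ρ : Representation k G V) [ρ.IsIrreducible] (hfaith : Function.Injective ρ) :
    2 * Module.finrank k ↥(⨅ g : ↥P, LinearMap.ker (ρ (g : G) - LinearMap.id)) <
      Module.finrank k V := by
  have hpp : p.Prime := Fact.out
  have hp5 : 5 ≤ p := by
    rcases Nat.lt_or_ge 4 p with h | h
    · exact h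
    · have : p = 4 := by omega
      subst this
      exact absurd hpp (by decide)
  haveI : Fact (Nat.card P).Prime := by rw [hP]; infer_instance
  obtain ⟨x, hx⟩ : ∃ x : P, ∀ y : P, y ∈ Subgroup.zpowers x :=
    (isCyclic_of_prime_card (p := p) hP).exists_generator
  have hxord : orderOf (x : G) = p := by
    rw [Subgroup.orderOf_coe, orderOf_eq_card_of_forall_mem_zpowers hx, hP]
  have hPx : ∀ y ∈ P, y ∈ Subgroup.zpowers (x : G) := by
    intro y hy
    obtain ⟨n, hn⟩ := Subgroup.mem_zpowers_iff.mp (hx ⟨y, hy⟩)
    refine Subgroup.mem_zpowers_iff.mpr ⟨n, ?_⟩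
    have := congrArg Subtype.val hn
    simpa using this
  have hgenx : Subgroup.normalClosure ({(x : G)} : Set G) = ⊤ := by
    apply top_le_iff.mp
    rw [← hgen]
    apply Subgroup.normalClosure_le_normal
    intro y hy
    have h1 := hPx y hy
    have h2 : Subgroup.zpowers (x : G) ≤ Subgroup.normalClosure ({(x : G)} : Set G) := by
      rw [Subgroup.zpowers_le]
      exact Subgroup.subset_normalClosure (Set.mem_singleton _)
    exact h2 h1
  have hirr : Irr (ρ : G →* Module.End k V) := by
    intro W hW
    let S : Subrepresentation ρ := ⟨W, fun g v hv => hW g v hv⟩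
    rcases eq_bot_or_eq_top S with h | h
    · left
      have := congrArg Subrepresentation.toSubmodule h
      exact this
    · right
      have := congrArg Subrepresentation.toSubmodule h
      exact this
  haveI : Nontrivial V := by
    by_contra hV
    rw [not_nontrivial_iff_subsingleton] at hV
    have : Nontrivial (Subrepresentation ρ) := inferInstance
    obtain ⟨a, b, hab⟩ := this
    apply hab
    apply Subrepresentation.toSubmodule_injective
    exact Subsingleton.elim _ _
  have h := field_bound (ρ : G →* Module.End k V) hirr hfaith hpp hp5 (x : G) hxord hgenx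
  have hEq : (⨅ g : ↥P, LinearMap.ker (ρ (g : G) - LinearMap.id)) =
      LinearMap.ker ((ρ (x : G) : Module.End k V) - 1) := by
    apply le_antisymm
    · exact iInf_le _ x
    · apply le_iInf
      intro y v hv
      have hv : ρ (x : G) v = v := by
        rw [LinearMap.mem_ker, LinearMap.sub_apply, sub_eq_zero, Module.End.one_apply] at hv
        exact hv
      rw [LinearMap.mem_ker, LinearMap.sub_apply, sub_eq_zero, LinearMap.id_apply]
      obtain ⟨n, hn⟩ := Subgroup.mem_zpowers_iff.mp (hPx y y.2)
      rw [← hn]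
      have hfix : ∀ m : ℕ, ρ ((x : G) ^ m) v = v := by
        intro m
        induction m with
        | zero => simp
        | succ m ih => rw [pow_succ, map_mul, Module.End.mul_apply, hv, ih]
      have hinv : ρ ((x : G)⁻¹) v = v := by
        have h1 : ρ ((x : G)⁻¹) (ρ (x : G) v) = v := by
          rw [← Module.End.mul_apply, ← map_mul, inv_mul_cancel, map_one, Module.End.one_apply]
        rw [hv] at h1
        exact h1
      have hfix' : ∀ m : ℕ, ρ (((x : G)⁻¹) ^ m) v = v := by
        intro m
        induction m with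
        | zero => simp
        | succ m ih => rw [pow_succ, map_mul, Module.End.mul_apply, hinv, ih]
      rcases Int.eq_nat_or_neg n with ⟨m, rfl | rfl⟩
      · rw [zpow_natCast]; exact hfix m
      · rw [zpow_neg, zpow_natCast, ← inv_pow]; exact hfix' m
  rw [hEq]
  exact h

end FINAL

end Cfsg.Agent.Helper97.FX
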