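import Mathlib
import Cfsg.Prelude.Def_OddOrderLocal
import Cfsg.Agent.Lib.Helper16.SylowIn

set_option autoImplicit false

namespace Cfsg.Agent.Helper97.S1423F

open Subgroup Cfsg
open Cfsg.Agent.Helper16
open scoped commutatorElement

variable {G : Type*} [Group G] [Finite G]

/-- (F) Frattini argument from a nilpotent image of the derived subgroup. -/
theorem frattini_of_nilpotent_commutator_quotient {p : ℕ} [Fact p.Prime]
    (H S : Subgroup G) (K' : Subgroup ↥H) [K'.Normal]
    (hS : IsSylowIn p H S) (hSc : S ≤ ⁅H, H⁆)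
    (hnil : Group.IsNilpotent ↥((commutator ↥H).map (QuotientGroup.mk' K'))) :
    H ≤ normalizer ((K'.map H.subtype ⊔ S : Subgroup G) : Set G) ∧
      H ≤ K'.map H.subtype ⊔ (H ⊓ normalizer (S : Set G)) := by
  obtain ⟨P, rfl⟩ := hS
  have hPH' : (P : Subgroup ↥H) ≤ commutator ↥H := by
    intro x hx
    have h1 : (x : G) ∈ ⁅H, H⁆ := hSc ⟨x, hx, rfl⟩
    rw [← Subgroup.map_subtype_commutator] at h1
    obtain ⟨y, hy, hyx⟩ := h1
    have : y = x := Subtype.ext hyx
    rwa [← this]
  have hDn : ((commutator ↥H).map (QuotientGroup.mk' K')).Normal :=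
    Subgroup.Normal.map inferInstance _ (QuotientGroup.mk'_surjective K')
  let f := (QuotientGroup.mk' K').subgroupMap (commutator ↥H)
  have hf : Function.Surjective f := MonoidHom.subgroupMap_surjective _ _
  let P'' : Sylow p ↥((commutator ↥H).map (QuotientGroup.mk' K')) :=
    (P.subtype hPH').mapSurjective hf
  have htfae := (Group.isNilpotent_of_finite_tfae
      (G := ↥((commutator ↥H).map (QuotientGroup.mk' K')))).out 0 3
  have hP''n : (P''.toSubgroup).Normal := (htfae.mp hnil) p inferInstance P''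
  have hP''c : (P''.toSubgroup).Characteristic := Sylow.characteristic_of_normal P'' hP''n
  have hTn : ((P''.toSubgroup).map
      ((commutator ↥H).map (QuotientGroup.mk' K')).subtype).Normal :=
    ConjAct.normal_of_characteristic_of_normal
  set L := ((P''.toSubgroup).map
      ((commutator ↥H).map (QuotientGroup.mk' K')).subtype).comap (QuotientGroup.mk' K') with hL
  have hLn : L.Normal := Subgroup.Normal.comap hTn _
  have hLeq : L = K' ⊔ (P : Subgroup ↥H) := by
    apply le_antisymm
    · intro x hx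
      rw [hL, Subgroup.mem_comap] at hx
      obtain ⟨d, hd, hdx⟩ := hx
      have hd' : d ∈ ((P.subtype hPH' : Sylow p _) : Subgroup _).map f := hd
      obtain ⟨h', hh', rfl⟩ := hd'
      have hh'P : (h' : ↥H) ∈ (P : Subgroup ↥H) := hh'
      have h2 : (QuotientGroup.mk' K') (h' : ↥H) = (QuotientGroup.mk' K') x := hdx
      have h3 : (h' : ↥H)⁻¹ * x ∈ K' := by
        rw [QuotientGroup.mk'_apply, QuotientGroup.mk'_apply, QuotientGroup.eq] at h2
        exact h2
      have : x = (h' : ↥H) * ((h' : ↥H)⁻¹ * x) := by group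
      rw [this]
      exact Subgroup.mul_mem _ (Subgroup.mem_sup_right hh'P) (Subgroup.mem_sup_left h3)
    · apply sup_le
      · intro k hk
        rw [hL, Subgroup.mem_comap]
        have : (QuotientGroup.mk' K') k = 1 := by
          rw [QuotientGroup.mk'_apply, QuotientGroup.eq_one_iff]; exact hk
        rw [this]; exact Subgroup.one_mem _
      · intro x hx
        rw [hL, Subgroup.mem_comap]
        refine ⟨f ⟨x, hPH' hx⟩, ?_, rfl⟩
        exact ⟨⟨x, hPH' hx⟩, hx, rfl⟩
  constructor
  · -- normality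
    intro h hh
    rw [Subgroup.mem_normalizer_iff]
    have hmap : (K'.map H.subtype ⊔ (P : Subgroup ↥H).map H.subtype) = L.map H.subtype := by
      rw [hLeq, Subgroup.map_sup]
    rw [hmap]
    intro x
    constructor
    · rintro ⟨y, hy, rfl⟩
      refine ⟨⟨h, hh⟩ * y * ⟨h, hh⟩⁻¹, hLn.conj_mem y hy ⟨h, hh⟩, ?_⟩
      simp
    · rintro ⟨y, hy, hyx⟩
      have hxH : x ∈ H := by
        have h1 : h⁻¹ * (h * x * h⁻¹) * h ∈ H :=
          H.mul_mem (H.mul_mem (H.inv_mem hh) (hyx ▸ y.2)) hh
        have h2 : h⁻¹ * (h * x * h⁻¹) * h = x := by group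
        rwa [h2] at h1
      refine ⟨⟨x, hxH⟩, ?_, rfl⟩
      have h3 : (⟨x, hxH⟩ : ↥H) = ⟨h, hh⟩⁻¹ * y * ⟨h, hh⟩⁻¹⁻¹ := by
        apply Subtype.ext
        simp only [Subgroup.coe_mul, Subgroup.coe_inv, inv_inv]
        rw [show (y : G) = h * x * h⁻¹ from hyx]
        group
      rw [h3]
      exact hLn.conj_mem y hy _
  · -- Frattini
    have hPL : (P : Subgroup ↥H) ≤ L := by rw [hLeq]; exact le_sup_right
    have := hLn
    have hfr := Sylow.normalizer_sup_eq_top (P.subtype hPL)
    have hPeq : ((P.subtype hPL : Sylow p ↥L) : Subgroup ↥L).map L.subtype = (P : Subgroup ↥H) := by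
      rw [Sylow.coe_subtype]
      exact Subgroup.map_subgroupOf_eq_of_le hPL
    rw [hPeq] at hfr
    intro h hh
    have hmem : (⟨h, hh⟩ : ↥H) ∈ normalizer ((P : Subgroup ↥H) : Set ↥H) ⊔ L := by
      rw [hfr]; exact Subgroup.mem_top _
    have hle : normalizer ((P : Subgroup ↥H) : Set ↥H) ⊔ L ≤
        (K'.map H.subtype ⊔ (H ⊓ normalizer (((P : Subgroup ↥H).map H.subtype : Subgroup G) : Set G))).comap H.subtype := by
      have hN : normalizer ((P : Subgroup ↥H) : Set ↥H) ≤
          (K'.map H.subtype ⊔ (H ⊓ normalizer (((P : Subgroup ↥H).map H.subtype : Subgroup G) : Set G))).comap H.subtype := by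
        intro x hx
        rw [Subgroup.mem_comap]
        apply Subgroup.mem_sup_right
        refine ⟨x.2, ?_⟩
        exact Subgroup.le_normalizer_map H.subtype ⟨x, hx, rfl⟩
      apply sup_le hN
      rw [hLeq]
      apply sup_le
      · intro k hk
        rw [Subgroup.mem_comap]
        exact Subgroup.mem_sup_left ⟨k, hk, rfl⟩
      · exact le_trans Subgroup.le_normalizer hN
    exact hle hmem

end Cfsg.Agent.Helper97.S1423F
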