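import Mathlib
import Cfsg.Prelude.Def_OddOrderLocal
import Cfsg.Agent.Lib.Helper29.CoprimeHyp

set_option autoImplicit false

namespace Cfsg.Agent.Helper97.S1423Q

open Subgroup Cfsg
open scoped commutatorElement

variable {G : Type*} [Group G] [Finite G]

/-- (Q) quotient coprime generation for a class-2 group acting with trivial centre action. -/
theorem le_of_class_two_action {p : ℕ} [Fact p.Prime]
    (P₁ N C : Subgroup G)
    (hexp : ∀ a ∈ P₁, a ^ p = 1)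
    (hna : ¬ IsMulCommutative P₁)
    (hder : ∀ a ∈ P₁, ∀ b ∈ P₁, ⁅a, b⁆ ∈ centralizer (P₁ : Set G))
    (hPN : P₁ ≤ normalizer (N : Set G))
    (hZN : P₁ ⊓ centralizer (P₁ : Set G) ≤ centralizer (N : Set G))
    (hcop : (Nat.card N).Coprime p)
    (hZC : P₁ ⊓ centralizer (P₁ : Set G) ≤ C)
    (hC : ∀ y ∈ P₁, y ∉ centralizer (P₁ : Set G) → N ⊓ centralizer ({y} : Set G) ≤ C) :
    N ≤ C := by
  have hp : p.Prime := Fact.out
  set Z := P₁ ⊓ centralizer (P₁ : Set G) with hZ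
  set L := normalizer (Z : Set G) with hLdef
  have hP₁cZ : P₁ ≤ centralizer (Z : Set G) := by
    intro x hx
    rw [mem_centralizer_iff]
    intro z hz
    have hz' : z ∈ centralizer (P₁ : Set G) := hz.2
    exact (mem_centralizer_iff.mp hz' x hx).symm
  have hNcZ : N ≤ centralizer (Z : Set G) := by
    intro n hn
    rw [mem_centralizer_iff]
    intro z hz
    exact (mem_centralizer_iff.mp (hZN hz) n hn).symm
  have hcn : centralizer (Z : Set G) ≤ L := Subgroup.centralizer_le_normalizer _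
  have hP₁L : P₁ ≤ L := hP₁cZ.trans hcn
  have hNL : N ≤ L := hNcZ.trans hcn
  -- `Z ∩ N = 1`
  have hZN1 : ∀ w ∈ Z, w ∈ N → w = 1 := by
    intro w hw hwN
    have h1 : w ^ p = 1 := hexp w hw.1
    have h2 : orderOf w ∣ p := orderOf_dvd_of_pow_eq_one h1
    have h3 : orderOf w ∣ Nat.card N := by
      have := orderOf_dvd_natCard (⟨w, hwN⟩ : ↥N)
      rwa [Subgroup.orderOf_mk] at this
    have h4 : orderOf w ∣ 1 := by
      have := Nat.dvd_gcd h3 h2
      rwa [Nat.Coprime.gcd_eq_one hcop] at this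
    exact orderOf_eq_one_iff.mp (Nat.dvd_one.mp h4)
  -- noncommuting pair
  obtain ⟨x₀, hx₀, y₀, hy₀, hxy⟩ : ∃ x ∈ P₁, ∃ y ∈ P₁, x * y ≠ y * x := by
    by_contra hcon
    push Not at hcon
    exact hna ⟨⟨fun a b => Subtype.ext (hcon a.1 a.2 b.1 b.2)⟩⟩
  -- the quotient
  let π := QuotientGroup.mk' (Z.subgroupOf L)
  have hπeq : ∀ a b : ↥L, π a = π b ↔ (a : G)⁻¹ * b ∈ Z := by
    intro a b
    show (QuotientGroup.mk' (Z.subgroupOf L)) a = (QuotientGroup.mk' (Z.subgroupOf L)) b ↔ _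
    rw [QuotientGroup.mk'_apply, QuotientGroup.mk'_apply, QuotientGroup.eq, mem_subgroupOf]
    simp
  have hπ1 : ∀ a : ↥L, π a = 1 ↔ (a : G) ∈ Z := by
    intro a
    show (QuotientGroup.mk' (Z.subgroupOf L)) a = 1 ↔ _
    rw [QuotientGroup.mk'_apply, QuotientGroup.eq_one_iff, mem_subgroupOf]
  set A := (P₁.subgroupOf L).map π with hA
  set X := (N.subgroupOf L).map π with hX
  set Cb := (C.subgroupOf L).map π with hCb
  have hAc : ∀ x ∈ A, ∀ y ∈ A, x * y = y * x := by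
    rintro _ ⟨a, ha, rfl⟩ _ ⟨b, hb, rfl⟩
    rw [← map_mul, ← map_mul, hπeq]
    have haP : (a : G) ∈ P₁ := ha
    have hbP : (b : G) ∈ P₁ := hb
    have h1 : ((a * b : ↥L) : G)⁻¹ * ((b * a : ↥L) : G) = ⁅(b : G)⁻¹, (a : G)⁻¹⁆ := by
      rw [commutatorElement_def]
      simp only [Subgroup.coe_mul]
      group
    rw [h1]
    refine ⟨?_, hder _ (P₁.inv_mem hbP) _ (P₁.inv_mem haP)⟩
    rw [commutatorElement_def]
    exact P₁.mul_mem (P₁.mul_mem (P₁.mul_mem (P₁.inv_mem hbP) (P₁.inv_mem haP))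
      (P₁.inv_mem (P₁.inv_mem hbP))) (P₁.inv_mem (P₁.inv_mem haP))
  have hAp : ∀ x ∈ A, x ^ p = 1 := by
    rintro _ ⟨a, ha, rfl⟩
    rw [← map_pow]
    have : a ^ p = 1 := by
      apply Subtype.ext
      rw [Subgroup.coe_pow]
      exact hexp _ ha
    rw [this, map_one]
  -- two special elements
  let x₀' : ↥L := ⟨x₀, hP₁L hx₀⟩
  let y₀' : ↥L := ⟨y₀, hP₁L hy₀⟩
  have hy₀A : π y₀' ∈ A := ⟨y₀', hy₀, rfl⟩
  have hx₀A : π x₀' ∈ A := ⟨x₀', hx₀, rfl⟩
  have hy₀1 : π y₀' ≠ 1 := by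
    intro h
    rw [hπ1] at h
    have h2 : y₀ ∈ centralizer (P₁ : Set G) := h.2
    exact hxy (mem_centralizer_iff.mp h2 x₀ hx₀)
  have hx₀T : π x₀' ∉ zpowers (π y₀') := by
    intro h
    obtain ⟨k, hk⟩ := mem_zpowers_iff.mp h
    rw [← map_zpow, hπeq] at hk
    have hk' : (y₀ ^ k)⁻¹ * x₀ ∈ Z := by
      simpa [x₀', y₀'] using hk
    have hz : (y₀ ^ k)⁻¹ * x₀ ∈ centralizer (P₁ : Set G) := hk'.2
    have h1 : y₀ * ((y₀ ^ k)⁻¹ * x₀) = ((y₀ ^ k)⁻¹ * x₀) * y₀ := mem_centralizer_iff.mp hz y₀ hy₀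
    apply hxy
    have h2 : y₀ * (y₀ ^ k)⁻¹ = (y₀ ^ k)⁻¹ * y₀ := by
      rw [← zpow_neg, ← zpow_one_add, ← zpow_add_one, add_comm]
    have h3 : (y₀ ^ k)⁻¹ * (y₀ * x₀) = (y₀ ^ k)⁻¹ * (x₀ * y₀) := by
      rw [← mul_assoc, ← h2, mul_assoc, h1, mul_assoc]
    exact (mul_left_cancel h3).symm
  have hA1 : A ≠ ⊥ := by
    intro h
    apply hy₀1
    have := hy₀A
    rw [h, mem_bot] at this
    exact this
  have hBne : ∀ B : Subgroup (↥L ⧸ Z.subgroupOf L), B ⋖ A → B ≠ ⊥ := by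
    intro B hB hB0
    rw [hB0] at hB
    have hT1 : (⊥ : Subgroup (↥L ⧸ Z.subgroupOf L)) < zpowers (π y₀') := by
      rw [bot_lt_iff_ne_bot]
      intro h
      apply hy₀1
      have := mem_zpowers (π y₀')
      rw [h, mem_bot] at this
      exact this
    have hT2 : zpowers (π y₀') < A := by
      apply lt_of_le_of_ne
      · rw [zpowers_le]; exact hy₀A
      · intro h
        apply hx₀T
        rw [h]; exact hx₀A
    exact hB.2 hT1 hT2
  have hmain : ∀ B : Subgroup (↥L ⧸ Z.subgroupOf L), B ⋖ A →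
      X ⊓ centralizer (B : Set (↥L ⧸ Z.subgroupOf L)) ≤ Cb := by
    intro B hB
    obtain ⟨⟨b, hbB⟩, hb1⟩ := Subgroup.ne_bot_iff_exists_ne_one.mp (hBne B hB)
    have hb1' : b ≠ 1 := fun h => hb1 (Subtype.ext h)
    have hbA : b ∈ A := hB.le hbB
    obtain ⟨y, hy, rfl⟩ := hbA
    have hyP : (y : G) ∈ P₁ := hy
    have hyZ : (y : G) ∉ Z := fun h => hb1' ((hπ1 y).mpr h)
    have hyc : (y : G) ∉ centralizer (P₁ : Set G) := fun h => hyZ ⟨hyP, h⟩
    rintro _ ⟨⟨n, hn, rfl⟩, hcent⟩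
    have hnN : (n : G) ∈ N := hn
    have hcomm : π y * π n = π n * π y := mem_centralizer_iff.mp hcent _ hbB
    rw [← map_mul, ← map_mul, hπeq] at hcomm
    have hw : ((y : G) * n)⁻¹ * (n * y) ∈ Z := by
      simpa using hcomm
    have hwN : ((y : G) * n)⁻¹ * (n * y) ∈ N := by
      have h1 : ((y : G) * n)⁻¹ * (n * y) = (n : G)⁻¹ * ((y : G)⁻¹ * n * (y : G)⁻¹⁻¹) := by group
      rw [h1]
      apply N.mul_mem (N.inv_mem hnN)
      exact (mem_normalizer_iff.mp (hPN (P₁.inv_mem hyP)) n).mp hnN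
    have hw1 : ((y : G) * n)⁻¹ * (n * y) = 1 := hZN1 _ hw hwN
    have hcomm' : (y : G) * n = n * y := by
      rw [inv_mul_eq_one] at hw1
      exact hw1
    have hnC : (n : G) ∈ C := by
      apply hC y hyP hyc
      refine ⟨hnN, ?_⟩
      show (n : G) ∈ centralizer ({(y : G)} : Set G)
      rw [mem_centralizer_iff]
      intro h hh
      rw [Set.mem_singleton_iff] at hh
      rw [hh]; exact hcomm'
    exact ⟨n, hnC, rfl⟩
  have hAX : A ≤ normalizer (X : Set (↥L ⧸ Z.subgroupOf L)) := by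
    have h1 : P₁.subgroupOf L ≤ normalizer ((N.subgroupOf L : Subgroup ↥L) : Set ↥L) := by
      intro x hx
      have hx' : (x : G) ∈ normalizer (N : Set G) := hPN hx
      rw [mem_normalizer_iff] at hx' ⊢
      intro h
      rw [mem_subgroupOf, mem_subgroupOf]
      simpa using hx' h
    exact (Subgroup.map_mono h1).trans (Subgroup.le_normalizer_map π)
  have hXcop : (Nat.card X).Coprime p := by
    have h1 : Nat.card X ∣ Nat.card (N.subgroupOf L) := Subgroup.card_map_dvd _ π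
    have h2 : Nat.card (N.subgroupOf L) = Nat.card N :=
      Nat.card_congr (Subgroup.subgroupOfEquivOfLe hNL).toEquiv
    rw [h2] at h1
    exact Nat.Coprime.coprime_dvd_left h1 hcop
  have hgen := Cfsg.Agent.Helper29.le_iSup_covBy A X hAc hAp hA1 hAX hXcop
  have hXC : X ≤ Cb := by
    refine hgen.trans ?_
    apply iSup_le
    rintro ⟨B, hB⟩
    exact hmain B hB
  intro n hn
  have h1 : π ⟨n, hNL hn⟩ ∈ Cb := hXC ⟨⟨n, hNL hn⟩, hn, rfl⟩
  obtain ⟨c, hc, hcn⟩ := h1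
  have hcC : (c : G) ∈ C := hc
  rw [hπeq] at hcn
  have h2 : (c : G)⁻¹ * n ∈ C := hZC hcn
  have h3 : n = (c : G) * ((c : G)⁻¹ * n) := by group
  rw [h3]
  exact C.mul_mem hcC h2

end Cfsg.Agent.Helper97.S1423Q
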