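import Mathlib

set_option autoImplicit false

namespace Cfsg.Agent.Helper97.SV

open Subgroup

variable {G : Type*} [Group G]

/-- TOOL (X): an element `x` of prime order `r` normalising a finite subgroup `Q`:
`|C_Q(x)| ≡ |Q| mod r`. -/
theorem card_inf_centralizer_modEq [Finite G] (Q : Subgroup G) (x : G) {r : ℕ} [hr : Fact r.Prime]
    (hx : orderOf x = r) (hxQ : x ∈ normalizer (Q : Set G)) :
    Nat.card Q ≡ Nat.card ↥(Q ⊓ centralizer ({x} : Set G)) [MOD r] := by
  classical
  have hnorm : ∀ z ∈ zpowers x, ∀ q ∈ Q, z * q * z⁻¹ ∈ Q := by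
    intro z hz q hq
    have hzN : z ∈ normalizer (Q : Set G) := (zpowers_le.mpr hxQ) hz
    exact (mem_normalizer_iff.mp hzN q).mp hq
  letI : MulAction (zpowers x) Q :=
    { smul := fun z q => ⟨(z : G) * q * (z : G)⁻¹, hnorm z z.2 q q.2⟩
      one_smul := fun q => by
        apply Subtype.ext
        show ((1 : zpowers x) : G) * q * ((1 : zpowers x) : G)⁻¹ = q
        simp
      mul_smul := fun z w q => by
        apply Subtype.ext
        show ((z * w : zpowers x) : G) * q * ((z * w : zpowers x) : G)⁻¹ =
          (z : G) * ((w : G) * q * (w : G)⁻¹) * (z : G)⁻¹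
        simp only [Subgroup.coe_mul, mul_inv_rev]
        group }
  have hsmul : ∀ (z : zpowers x) (q : Q), ((z • q : Q) : G) = (z : G) * q * (z : G)⁻¹ :=
    fun z q => rfl
  have hpg : IsPGroup r (zpowers x) :=
    IsPGroup.of_card (n := 1) (by rw [Nat.card_zpowers, hx, pow_one])
  have hmod := hpg.card_modEq_card_fixedPoints Q
  have hcard : Nat.card (MulAction.fixedPoints (zpowers x) Q) =
      Nat.card ↥(Q ⊓ centralizer ({x} : Set G)) := by
    apply Nat.card_congr
    refine
      { toFun := fun q => ⟨((q : Q) : G), (q : Q).2, ?_⟩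
        invFun := fun c => ⟨⟨(c : G), c.2.1⟩, ?_⟩
        left_inv := fun q => rfl
        right_inv := fun c => rfl }
    · -- fixed point commutes with x
      show ((q : Q) : G) ∈ centralizer ({x} : Set G)
      rw [mem_centralizer_iff]
      intro h hh
      rw [Set.mem_singleton_iff] at hh
      subst hh
      have h1 := q.2 ⟨h, mem_zpowers h⟩
      have h2 : h * ((q : Q) : G) * h⁻¹ = ((q : Q) : G) := by
        have := congrArg (fun t : Q => (t : G)) h1
        simpa [hsmul] using this
      calc h * ((q : Q) : G) = h * ((q : Q) : G) * h⁻¹ * h := by group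
        _ = ((q : Q) : G) * h := by rw [h2]
    · -- element commuting with x is fixed
      intro z
      apply Subtype.ext
      rw [hsmul]
      have hc : (c : G) ∈ centralizer ({x} : Set G) := c.2.2
      have hzc : (z : G) ∈ centralizer ({(c : G)} : Set G) := by
        have hxc : x ∈ centralizer ({(c : G)} : Set G) := by
          rw [mem_centralizer_iff]
          intro h hh
          rw [Set.mem_singleton_iff] at hh
          subst hh
          exact (mem_centralizer_iff.mp hc x (Set.mem_singleton x)).symm
        exact (zpowers_le.mpr hxc) z.2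
      have h3 : (c : G) * (z : G) = (z : G) * (c : G) :=
        mem_centralizer_iff.mp hzc (c : G) (Set.mem_singleton _)
      show (z : G) * (c : G) * (z : G)⁻¹ = (c : G)
      rw [← h3]; group
  rw [hcard] at hmod
  exact hmod

/-- Corollary: if `|Q| = s ^ k` and no smaller power of `s` is congruent to `s ^ k` modulo `r`,
then `x` centralises `Q`. -/
theorem le_centralizer_of_modEq [Finite G] (Q : Subgroup G) (x : G) {r s k : ℕ} [hr : Fact r.Prime]
    (hs : s.Prime) (hx : orderOf x = r) (hxQ : x ∈ normalizer (Q : Set G))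
    (hQ : Nat.card Q = s ^ k) (h : ∀ j < k, ¬ s ^ k ≡ s ^ j [MOD r]) :
    Q ≤ centralizer ({x} : Set G) := by
  have hmod := card_inf_centralizer_modEq Q x hx hxQ
  have hle : Q ⊓ centralizer ({x} : Set G) ≤ Q := inf_le_left
  have hdvd : Nat.card ↥(Q ⊓ centralizer ({x} : Set G)) ∣ s ^ k := by
    rw [← hQ]; exact Subgroup.card_dvd_of_le hle
  obtain ⟨j, hjk, hj⟩ := (Nat.dvd_prime_pow hs).mp hdvd
  rw [hQ, hj] at hmod
  have hjk' : j = k := by
    by_contra hne
    exact h j (lt_of_le_of_ne hjk hne) hmod
  have heq : Q ⊓ centralizer ({x} : Set G) = Q :=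
    Subgroup.eq_of_le_of_card_ge hle (by rw [hQ, hj, hjk'])
  rw [← heq]
  exact inf_le_right

end Cfsg.Agent.Helper97.SV
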