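import Mathlib
import Cfsg.Agent.Lib.Helper52.FCDefs

set_option autoImplicit false

namespace Cfsg.Agent.Helper97.FC

open Subgroup Cfsg.Agent.Helper52.FC
open scoped commutatorElement

universe u

variable {G : Type u} [Group G]

/-- in a finite group, `g N g⁻¹ ⊆ N` puts `g` in the normalizer. -/
theorem h97_mem_normalizer [Finite G] (g : G) (N : Subgroup G) (h : ∀ n ∈ N, g * n * g⁻¹ ∈ N) :
    g ∈ normalizer (N : Set G) := by
  have hpow : ∀ k : ℕ, ∀ n ∈ N, g ^ k * n * (g ^ k)⁻¹ ∈ N := by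
    intro k
    induction k with
    | zero => intro n hn; simpa using hn
    | succ k ih =>
      intro n hn
      have := h _ (ih n hn)
      have e : g ^ (k + 1) * n * (g ^ (k + 1))⁻¹ = g * (g ^ k * n * (g ^ k)⁻¹) * g⁻¹ := by
        rw [pow_succ']; group
      rw [e]; exact this
  have hinv : ∀ n ∈ N, g⁻¹ * n * g ∈ N := by
    intro n hn
    have hk : g ^ (orderOf g - 1) = g⁻¹ := by
      have h1 : g ^ (orderOf g - 1) * g = 1 := by
        rw [← pow_succ, Nat.sub_add_cancel (orderOf_pos g), pow_orderOf_eq_one]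
      exact eq_inv_of_mul_eq_one_left h1
    have := hpow (orderOf g - 1) n hn
    rw [hk, inv_inv] at this
    exact this
  rw [Subgroup.mem_normalizer_iff]
  intro n
  constructor
  · exact h n
  · intro hn
    have := hinv _ hn
    have e : g⁻¹ * (g * n * g⁻¹) * g = n := by group
    rw [e] at this
    exact this

/-- `[N, K] ≤ N` when `K` normalises `N`. -/
theorem h97_commutator_le (N K : Subgroup G) (hK : K ≤ normalizer (N : Set G)) : ⁅N, K⁆ ≤ N := by
  rw [Subgroup.commutator_le]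
  intro n hn z hz
  have hz' := hK hz
  rw [Subgroup.mem_normalizer_iff] at hz'
  have h1 : z * n⁻¹ * z⁻¹ ∈ N := (hz' n⁻¹).mp (N.inv_mem hn)
  have e : ⁅n, z⁆ = n * (z * n⁻¹ * z⁻¹) := by
    rw [commutatorElement_def]; group
  rw [e]; exact N.mul_mem hn h1

/-- (S1) of helper52's FC server. -/
theorem ab_sum [Finite G] {p : ℕ} (hp : p.Prime) (a : G) (hpow : a ^ p = 1) (N : Subgroup G) (hNa : Inv a N) (hNab : Ab N)
    (hcop : (Nat.card N).Coprime p) (T : Set G) (hT : ∀ h ∈ T, ∀ n ∈ N, h * n * h⁻¹ ∈ N) :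
    Fix a ⊓ (⨆ h ∈ T, Dh a N h) ≤ ⨆ h ∈ T, Fix a ⊓ Dh a N h := by
  classical
  letI : CommGroup N :=
    { (inferInstance : Group N) with mul_comm := fun x y => Subtype.ext (hNab x x.2 y y.2) }
  have haN : a ∈ normalizer (N : Set G) := h97_mem_normalizer a N hNa
  have hPN : zpowers a ≤ normalizer (N : Set G) := (Subgroup.zpowers_le).mpr haN
  have hC_le : ⁅N, zpowers a⁆ ≤ N := h97_commutator_le N _ hPN
  have hD_le : ∀ h ∈ T, Dh a N h ≤ N := by
    intro h hh
    have hhN : h ∈ normalizer (N : Set G) := h97_mem_normalizer h N (hT h hh)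
    have : h⁻¹ * a * h ∈ normalizer (N : Set G) :=
      (normalizer (N : Set G)).mul_mem ((normalizer (N : Set G)).mul_mem ((normalizer (N : Set G)).inv_mem hhN) haN) hhN
    exact sup_le hC_le (h97_commutator_le N _ ((Subgroup.zpowers_le).mpr this))
  -- the automorphism
  let A : Monoid.End N :=
    { toFun := fun n => ⟨a * n * a⁻¹, hNa n n.2⟩
      map_one' := by ext; simp
      map_mul' := by intro x y; ext; simp [mul_assoc] }
  have hA1 : ∀ n : N, ((A n : N) : G) = a * n * a⁻¹ := fun n => rfl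
  have hA : ∀ (i : ℕ) (n : N), (((A ^ i) n : N) : G) = a ^ i * n * (a ^ i)⁻¹ := by
    intro i
    induction i with
    | zero => intro n; simp
    | succ i ih =>
      intro n
      have e : (A ^ (i + 1)) n = A ((A ^ i) n) := by
        rw [pow_succ']; rfl
      rw [e, hA1, ih n, pow_succ']; group
  have hAp : ∀ n : N, (A ^ p) n = n := by
    intro n
    apply Subtype.ext
    rw [hA p n, hpow]; simp
  -- Bezout
  set m := Nat.card N with hm
  have hbez : (1 : ℤ) = (p : ℤ) * Nat.gcdA p m + (m : ℤ) * Nat.gcdB p m := by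
    have := Nat.gcd_eq_gcd_ab p m
    rw [Nat.Coprime.gcd_eq_one hcop.symm] at this
    exact_mod_cast this
  set u := Nat.gcdA p m with hu
  set v := Nat.gcdB p m with hv
  have hxm : ∀ x : N, x ^ m = 1 := fun x => pow_card_eq_one'
  have hxpu : ∀ x : N, (x ^ p) ^ u = x := by
    intro x
    have : x ^ ((p : ℤ) * u + (m : ℤ) * v) = x := by rw [← hbez, zpow_one]
    rw [zpow_add, zpow_mul, zpow_mul, zpow_natCast, zpow_natCast, hxm, one_zpow, mul_one] at this
    exact this
  let σ : N →* N :=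
    { toFun := fun n => ∏ i ∈ Finset.range p, (A ^ i) n
      map_one' := by simp
      map_mul' := by
        intro x y
        simp only [map_mul]
        exact Finset.prod_mul_distrib }
  have hσ : ∀ x : N, σ x = ∏ i ∈ Finset.range p, (A ^ i) x := fun x => rfl
  let π : N →* N := (zpowGroupHom u).comp σ
  have hπ : ∀ x : N, π x = (σ x) ^ u := fun x => rfl
  -- (i) fixed
  have hAσ : ∀ x : N, A (σ x) = σ x := by
    intro x
    rw [hσ, map_prod]
    have e1 : ∀ i ∈ Finset.range p, A ((A ^ i) x) = (A ^ (i + 1)) x := by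
      intro i _
      rw [pow_succ']; rfl
    rw [Finset.prod_congr rfl e1]
    have h1 := Finset.prod_range_succ' (fun i => (A ^ i) x) p
    have h2 := Finset.prod_range_succ (fun i => (A ^ i) x) p
    rw [h2] at h1
    simp only [pow_zero] at h1
    rw [hAp x] at h1
    have h3 : (1 : Monoid.End N) x = x := rfl
    rw [h3] at h1
    exact (mul_right_cancel h1).symm
  have hfix : ∀ x : N, ((π x : N) : G) ∈ Fix a := by
    intro x
    have h1 : A (π x) = π x := by
      rw [hπ, map_zpow, hAσ]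
    have h2 : a * ((π x : N) : G) * a⁻¹ = ((π x : N) : G) := by
      rw [← hA1, h1]
    show ((π x : N) : G) ∈ Subgroup.centralizer {a}
    rw [Subgroup.mem_centralizer_iff]
    intro h hh
    rw [Set.mem_singleton_iff] at hh
    rw [hh]
    calc a * ((π x : N) : G) = a * ((π x : N) : G) * a⁻¹ * a := by group
      _ = ((π x : N) : G) * a := by rw [h2]
  -- (iii) congruent mod [N,P]
  let C : Subgroup N := (⁅N, zpowers a⁆).subgroupOf N
  have hstep : ∀ (i : ℕ) (x : N), (A ^ i) x * x⁻¹ ∈ C := by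
    intro i x
    show (((A ^ i) x * x⁻¹ : N) : G) ∈ ⁅N, zpowers a⁆
    rw [Subgroup.coe_mul, hA i x, Subgroup.coe_inv, Subgroup.commutator_comm]
    have : a ^ i * (x : G) * (a ^ i)⁻¹ * (x : G)⁻¹ = ⁅a ^ i, (x : G)⁆ := by
      rw [commutatorElement_def]
    rw [this]
    exact Subgroup.commutator_mem_commutator (Subgroup.pow_mem _ (Subgroup.mem_zpowers a) i) x.2
  have hcongN : ∀ x : N, π x * x⁻¹ ∈ C := by
    intro x
    have h1 : ∏ i ∈ Finset.range p, ((A ^ i) x * x⁻¹) ∈ C :=
      Subgroup.prod_mem _ (fun i _ => hstep i x)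
    rw [Finset.prod_mul_distrib, Finset.prod_const, Finset.card_range, ← hσ] at h1
    have h2 := C.zpow_mem h1 u
    rw [mul_zpow, ← hπ, inv_pow, inv_zpow, hxpu] at h2
    exact h2
  have hcong : ∀ x : N, ((π x : N) : G) * (x : G)⁻¹ ∈ ⁅N, zpowers a⁆ := by
    intro x
    have := hcongN x
    exact this
  -- (iv) identity on fixed points
  have hid : ∀ x : N, (x : G) ∈ Fix a → π x = x := by
    intro x hx
    have hx' : a * (x : G) = (x : G) * a := by
      have := Subgroup.mem_centralizer_iff.mp hx a (Set.mem_singleton a)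
      exact this
    have hAi : ∀ i : ℕ, (A ^ i) x = x := by
      intro i
      apply Subtype.ext
      rw [hA i x]
      have hc : Commute (a ^ i) (x : G) := Commute.pow_left hx' i
      rw [hc.eq]; group
    rw [hπ, hσ, Finset.prod_congr rfl (fun i _ => hAi i), Finset.prod_const, Finset.card_range, hxpu]
  -- main
  set Y := ⨆ h ∈ T, Fix a ⊓ Dh a N h with hY
  let K : Subgroup N := Y.comap (N.subtype.comp π)
  have hmain : (⨆ h ∈ T, Dh a N h) ≤ K.map N.subtype := by
    apply iSup₂_le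
    intro h hh x hx
    have hxN : x ∈ N := hD_le h hh hx
    refine Subgroup.mem_map.mpr ⟨⟨x, hxN⟩, ?_, rfl⟩
    show ((π ⟨x, hxN⟩ : N) : G) ∈ Y
    have h1 : ((π ⟨x, hxN⟩ : N) : G) ∈ Fix a := hfix _
    have h2 : ((π ⟨x, hxN⟩ : N) : G) ∈ Dh a N h := by
      have h3 : ((π ⟨x, hxN⟩ : N) : G) * x⁻¹ ∈ Dh a N h :=
        (le_sup_left : ⁅N, zpowers a⁆ ≤ Dh a N h) (hcong ⟨x, hxN⟩)
      have h4 := (Dh a N h).mul_mem h3 hx
      rw [inv_mul_cancel_right] at h4
      exact h4
    exact (le_iSup₂ (f := fun h (_ : h ∈ T) => Fix a ⊓ Dh a N h) h hh : _ ≤ Y) ⟨h1, h2⟩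
  intro c hc
  obtain ⟨hc1, hc2⟩ := hc
  obtain ⟨n, hn, hnc⟩ := Subgroup.mem_map.mp (hmain hc2)
  have h5 : ((π n : N) : G) ∈ Y := hn
  have hn' : (n : G) ∈ Fix a := by
    have : (n : G) = c := hnc
    rw [this]; exact hc1
  rw [hid n hn'] at h5
  have : (n : G) = c := hnc
  rw [← this]; exact h5

end Cfsg.Agent.Helper97.FC
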