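import Mathlib
import Cfsg.Prelude.Def_OddOrder
import Cfsg.Prelude.Def_OddOrderLocal
import Cfsg.Agent.Lib.Helper60.BG161C2a

set_option autoImplicit false

namespace Cfsg.Agent.Helper97.BG142Req

open Subgroup

variable {G : Type*} [Group G] [Finite G]

/-- (Q3): converse of (Q2).  [= Helper60 BG161C2a mem_kappa_of_prankLE_one, repackaged.] -/
theorem mem_kappa_of_cent_ne_bot (hG : Cfsg.IsMinSimpleOddOrder G) (M : Subgroup G) (p : ℕ)
    (hp : p.Prime) (hpσ : p ∉ Cfsg.sigma M) (hr : Cfsg.PRankLE p 1 M) (X : Subgroup G) (hXM : X ≤ M)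
    (hX : Nat.card X = p) (hC : Cfsg.sigmaCore M ⊓ centralizer (X : Set G) ≠ ⊥) :
    p ∈ Cfsg.kappa M := by
  obtain ⟨⟨w, hw⟩, hw1⟩ := Subgroup.ne_bot_iff_exists_ne_one.mp hC
  have hw1' : w ≠ 1 := fun h => hw1 (Subtype.ext h)
  have hXne : X ≠ ⊥ := by
    intro h
    rw [h, Subgroup.card_bot] at hX
    exact hp.one_lt.ne hX
  obtain ⟨⟨y, hy⟩, hy1⟩ := Subgroup.ne_bot_iff_exists_ne_one.mp hXne
  have hy1' : y ≠ 1 := fun h => hy1 (Subtype.ext h)
  have hyo : orderOf y = p := by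
    have h1 : orderOf y ∣ p := by rw [← hX]; exact Subgroup.orderOf_dvd_natCard X hy
    rcases (Nat.dvd_prime hp).mp h1 with h | h
    · exact absurd (orderOf_eq_one_iff.mp h) hy1'
    · exact h
  have hyw : y * w = w * y := mem_centralizer_iff.mp hw.2 y hy
  exact Cfsg.Agent.Helper60.BG161.mem_kappa_of_prankLE_one hG hp hpσ hr (hXM hy) hyo hw.1 hw1' hyw

end Cfsg.Agent.Helper97.BG142Req
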