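import Mathlib

set_option autoImplicit false

namespace Cfsg.Agent.Helper97

open RegularWreathProduct

variable {D Q : Type*} [Group D] [Group Q]

/-- `D0 ≀ Q` inside `D ≀ Q`. -/
def wrSub (D0 : Subgroup D) : Subgroup (D ≀ᵣ Q) where
  carrier := {w | ∀ x, w.left x ∈ D0}
  mul_mem' {a b} ha hb := by
    intro x
    rw [RegularWreathProduct.mul_left]
    exact D0.mul_mem (ha x) (hb _)
  one_mem' := by
    intro x
    exact D0.one_mem
  inv_mem' {a} ha := by
    intro x
    rw [RegularWreathProduct.inv_left]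
    exact D0.inv_mem (ha _)

theorem mem_wrSub (D0 : Subgroup D) (w : D ≀ᵣ Q) : w ∈ wrSub D0 ↔ ∀ x, w.left x ∈ D0 := Iff.rfl

/-- The base group of the wreath product. -/
def wrBase (D Q : Type*) [Group D] [Group Q] : Subgroup (D ≀ᵣ Q) := (rightHom : D ≀ᵣ Q →* Q).ker

theorem mem_wrBase (w : D ≀ᵣ Q) : w ∈ wrBase D Q ↔ w.right = 1 := MonoidHom.mem_ker

/-- The embedding of the base group. -/
def baseHom (D Q : Type*) [Group D] [Group Q] : (Q → D) →* D ≀ᵣ Q where
  toFun l := ⟨l, 1⟩
  map_one' := rfl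
  map_mul' a b := by ext <;> simp

@[simp] theorem baseHom_left (l : Q → D) : (baseHom D Q l).left = l := rfl
@[simp] theorem baseHom_right (l : Q → D) : (baseHom D Q l).right = 1 := rfl

theorem inl_mem_wrSub (D0 : Subgroup D) (c : Q) : (inl c : D ≀ᵣ Q) ∈ wrSub D0 := fun _ => D0.one_mem

theorem isCoatom_of_index_prime {G : Type*} [Group G] (H : Subgroup G) (h : H.index.Prime) :
    IsCoatom H := by
  refine ⟨?_, fun L hL => ?_⟩
  · rintro rfl
    rw [Subgroup.index_top] at h
    exact Nat.not_prime_one h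
  · have h1 := Subgroup.relIndex_mul_index hL.le
    rcases (Nat.Prime.eq_one_or_self_of_dvd h _ (Dvd.intro_left _ h1)) with h2 | h2
    · exact Subgroup.index_eq_one.mp h2
    · exfalso
      have h3 : H.relIndex L = 1 := by
        have hpos : 0 < H.index := h.pos
        rw [h2] at h1
        exact Nat.eq_of_mul_eq_mul_right hpos (by rw [h1, one_mul])
      have := Subgroup.relIndex_eq_one.mp h3
      exact absurd (le_antisymm hL.le this) (ne_of_lt hL)

theorem conj_inl_baseHom_mulSingle [DecidableEq Q] (i j : Q) (d : D) :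
    inl (i * j⁻¹) * baseHom D Q (Pi.mulSingle j d) * (inl (i * j⁻¹))⁻¹ = baseHom D Q (Pi.mulSingle i d) := by
  ext x
  · simp only [RegularWreathProduct.mul_left, left_inl, baseHom_left, one_mul, RegularWreathProduct.inv_left,
      Pi.mul_apply, right_inl, RegularWreathProduct.mul_right, baseHom_right, mul_one, Pi.inv_apply,
      Pi.one_apply, inv_one]
    by_cases hx : x = i
    · subst hx
      simp
    · rw [Pi.mulSingle_eq_of_ne hx, Pi.mulSingle_eq_of_ne]
      intro h
      apply hx
      have : x = (i * j⁻¹) * ((i * j⁻¹)⁻¹ * x) := by group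
      rw [this, h]
      group
  · simp

theorem isCoatom_wrSub [Finite Q] (D0 : Subgroup D) (hD0 : IsCoatom D0) (hn : ¬ D0.Normal) :
    IsCoatom (wrSub (Q := Q) D0) := by
  classical
  refine ⟨?_, fun L hL => ?_⟩
  · intro h
    obtain ⟨d, hd⟩ : ∃ d, d ∉ D0 := by
      by_contra hc
      simp only [not_exists, not_not] at hc
      exact hD0.1 (eq_top_iff.mpr fun x _ => hc x)
    have : (⟨fun _ => d, 1⟩ : D ≀ᵣ Q) ∈ wrSub D0 := h ▸ Subgroup.mem_top _
    exact hd (this 1)
  · obtain ⟨w, hwL, hwM⟩ := SetLike.exists_of_lt hL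
    have hinl : ∀ c : Q, (inl c : D ≀ᵣ Q) ∈ L := fun c => hL.le (inl_mem_wrSub D0 c)
    have hw1 : baseHom D Q w.left ∈ L := by
      have : baseHom D Q w.left = w * (inl w.right)⁻¹ := by
        ext <;> simp
      rw [this]
      exact L.mul_mem hwL (L.inv_mem (hinl _))
    obtain ⟨j, hj⟩ : ∃ j, w.left j ∉ D0 := by
      by_contra hc
      simp only [not_exists, not_not] at hc
      exact hwM hc
    set P : Subgroup D := L.comap ((baseHom D Q).comp (MonoidHom.mulSingle (fun _ : Q => D) j)) with hP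
    have memP : ∀ d, d ∈ P ↔ baseHom D Q (Pi.mulSingle j d) ∈ L := fun d => Iff.rfl
    have hD0P : D0 ≤ P := by
      intro y hy
      rw [memP]
      apply hL.le
      intro x
      rw [baseHom_left]
      by_cases hx : x = j
      · subst hx
        simpa using hy
      · rw [Pi.mulSingle_eq_of_ne hx]
        exact D0.one_mem
    have hcomm : ∀ l : Q → D, baseHom D Q l ∈ L → ∀ y ∈ D0, l j * y * (l j)⁻¹ * y⁻¹ ∈ P := by
      intro l hl y hy
      have hy' : baseHom D Q (Pi.mulSingle j y) ∈ L := (memP y).mp (hD0P hy)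
      have h1 : baseHom D Q l * baseHom D Q (Pi.mulSingle j y) * (baseHom D Q l)⁻¹ *
          (baseHom D Q (Pi.mulSingle j y))⁻¹ ∈ L :=
        L.mul_mem (L.mul_mem (L.mul_mem hl hy') (L.inv_mem hl)) (L.inv_mem hy')
      have h2 : baseHom D Q l * baseHom D Q (Pi.mulSingle j y) * (baseHom D Q l)⁻¹ *
          (baseHom D Q (Pi.mulSingle j y))⁻¹ = baseHom D Q (Pi.mulSingle j (l j * y * (l j)⁻¹ * y⁻¹)) := by
        rw [← map_inv, ← map_inv, ← map_mul, ← map_mul, ← map_mul]
        congr 1
        funext x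
        by_cases hx : x = j
        · subst hx
          simp
        · simp [Pi.mulSingle_eq_of_ne hx]
      rw [h2] at h1
      exact (memP _).mpr h1
    have hPtop : P = ⊤ := by
      by_contra hPne
      have hPD0 : P = D0 := by
        rcases eq_or_lt_of_le hD0P with h | h
        · exact h.symm
        · exact absurd (hD0.2 P h) hPne
      have hnorm : w.left j ∈ Subgroup.normalizer (D0 : Set D) := by
        rw [Subgroup.mem_normalizer_iff]
        intro y
        constructor
        · intro hy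
          have := hcomm w.left hw1 y hy
          rw [hPD0] at this
          have h3 := D0.mul_mem this hy
          simpa [mul_assoc] using h3
        · intro hy
          have hw1' : baseHom D Q (w.left⁻¹) ∈ L := by
            rw [map_inv]
            exact L.inv_mem hw1
          have := hcomm (w.left⁻¹) hw1' _ hy
          rw [hPD0] at this
          have h3 := D0.mul_mem this hy
          simp only [Pi.inv_apply, inv_inv] at h3
          have h4 : (w.left j)⁻¹ * (w.left j * y * (w.left j)⁻¹) * w.left j *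
              (w.left j * y * (w.left j)⁻¹)⁻¹ * (w.left j * y * (w.left j)⁻¹) = y := by group
          rw [h4] at h3
          exact h3
      have hlt : D0 < Subgroup.normalizer (D0 : Set D) :=
        lt_of_le_of_ne Subgroup.le_normalizer (fun h => hj (h ▸ hnorm))
      have := hD0.2 _ hlt
      exact hn (Subgroup.normalizer_eq_top_iff.mp this)
    have hsingle : ∀ (i : Q) (d : D), baseHom D Q (Pi.mulSingle i d) ∈ L := by
      intro i d
      have h1 : baseHom D Q (Pi.mulSingle j d) ∈ L := by
        have : d ∈ P := hPtop ▸ Subgroup.mem_top d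
        exact (memP d).mp this
      rw [← conj_inl_baseHom_mulSingle i j d]
      exact L.mul_mem (L.mul_mem (hinl _) h1) (L.inv_mem (hinl _))
    have hbase : ∀ l : Q → D, baseHom D Q l ∈ L := by
      intro l
      have : Fintype Q := Fintype.ofFinite Q
      have : l ∈ L.comap (baseHom D Q) := by
        rw [← Finset.noncommProd_mulSingle l]
        apply Subgroup.noncommProd_mem
        intro i _
        exact hsingle i (l i)
      exact this
    rw [eq_top_iff]
    intro w _
    have : w = baseHom D Q w.left * inl w.right := by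
      ext <;> simp
    rw [this]
    exact L.mul_mem (hbase _) (hinl _)

theorem index_wrSub [Finite D] [Finite Q] (D0 : Subgroup D) :
    (wrSub (Q := Q) D0).index = D0.index ^ Nat.card Q := by
  have e : (wrSub (Q := Q) D0) ≃ (Q → D0) × Q :=
    { toFun := fun w => (fun x => ⟨w.1.left x, w.2 x⟩, w.1.right)
      invFun := fun p => ⟨⟨fun x => (p.1 x).1, p.2⟩, fun x => (p.1 x).2⟩
      left_inv := fun w => rfl
      right_inv := fun p => rfl }
  have h1 : Nat.card (wrSub (Q := Q) D0) = Nat.card D0 ^ Nat.card Q * Nat.card Q := by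
    rw [Nat.card_congr e, Nat.card_prod, Nat.card_fun]
  have h2 := Subgroup.index_mul_card (wrSub (Q := Q) D0)
  rw [RegularWreathProduct.card, h1, ← Subgroup.index_mul_card D0, mul_pow] at h2
  have hpos : 0 < Nat.card D0 ^ Nat.card Q * Nat.card Q :=
    Nat.mul_pos (pow_pos Nat.card_pos _) Nat.card_pos
  exact Nat.eq_of_mul_eq_mul_right hpos (by rw [h2]; ring)

theorem index_wrBase [Finite Q] : (wrBase D Q).index = Nat.card Q := by
  rw [wrBase, Subgroup.index_ker]
  have : (rightHom : D ≀ᵣ Q →* Q).range = ⊤ := by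
    rw [MonoidHom.range_eq_top]
    intro q
    exact ⟨inl q, rfl⟩
  rw [this, Subgroup.card_top]

theorem index_base_in_wrSub [Finite Q] (D0 : Subgroup D) :
    ((wrSub (Q := Q) D0 ⊓ wrBase D Q).subgroupOf (wrSub (Q := Q) D0)).index = Nat.card Q := by
  have h1 : (wrSub (Q := Q) D0 ⊓ wrBase D Q).subgroupOf (wrSub (Q := Q) D0) =
      ((rightHom : D ≀ᵣ Q →* Q).comp (wrSub (Q := Q) D0).subtype).ker := by
    ext w
    rw [Subgroup.mem_subgroupOf, Subgroup.mem_inf, MonoidHom.mem_ker]
    constructor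
    · rintro ⟨_, h⟩
      exact (mem_wrBase _).mp h
    · intro h
      exact ⟨w.2, (mem_wrBase _).mpr h⟩
  rw [h1, Subgroup.index_ker]
  have : ((rightHom : D ≀ᵣ Q →* Q).comp (wrSub (Q := Q) D0).subtype).range = ⊤ := by
    rw [MonoidHom.range_eq_top]
    intro q
    exact ⟨⟨inl q, inl_mem_wrSub D0 q⟩, rfl⟩
  rw [this, Subgroup.card_top]

/-- The intermediate subgroup. -/
def wrMid [DecidableEq Q] (D0 : Subgroup D) : Subgroup (D ≀ᵣ Q) where
  carrier := {w | w.right = 1 ∧ ∀ x, x ≠ 1 → w.left x ∈ D0}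
  mul_mem' {a b} ha hb := by
    refine ⟨by rw [RegularWreathProduct.mul_right, ha.1, hb.1, one_mul], fun x hx => ?_⟩
    rw [RegularWreathProduct.mul_left, Pi.mul_apply, ha.1, inv_one, one_mul]
    exact D0.mul_mem (ha.2 x hx) (hb.2 x hx)
  one_mem' := ⟨rfl, fun x _ => D0.one_mem⟩
  inv_mem' {a} ha := by
    refine ⟨by rw [RegularWreathProduct.inv_right, ha.1, inv_one], fun x hx => ?_⟩
    rw [RegularWreathProduct.inv_left, ha.1]
    simp only [one_mul, Pi.inv_apply]
    exact D0.inv_mem (ha.2 x hx)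

theorem not_isCoatom_base [DecidableEq Q] [Nontrivial Q] (D0 : Subgroup D) (hD0 : D0 ≠ ⊤) :
    ¬ IsCoatom ((wrSub (Q := Q) D0 ⊓ wrBase D Q).subgroupOf (wrBase D Q)) := by
  intro hco
  obtain ⟨d, hd⟩ : ∃ d, d ∉ D0 := by
    by_contra hc
    simp only [not_exists, not_not] at hc
    exact hD0 (eq_top_iff.mpr fun x _ => hc x)
  obtain ⟨c, hc⟩ := exists_ne (1 : Q)
  have hHJ : wrSub (Q := Q) D0 ⊓ wrBase D Q ≤ wrMid D0 := by
    intro w hw
    exact ⟨(mem_wrBase w).mp hw.2, fun x _ => hw.1 x⟩
  have hJK : wrMid (Q := Q) D0 ≤ wrBase D Q := fun w hw => (mem_wrBase w).mpr hw.1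
  have hw1J : baseHom D Q (Pi.mulSingle 1 d) ∈ wrMid (Q := Q) D0 := by
    refine ⟨rfl, fun x hx => ?_⟩
    rw [baseHom_left, Pi.mulSingle_eq_of_ne hx]
    exact D0.one_mem
  have hw1H : baseHom D Q (Pi.mulSingle 1 d) ∉ wrSub (Q := Q) D0 ⊓ wrBase D Q := by
    intro h
    have := h.1 1
    rw [baseHom_left, Pi.mulSingle_eq_same] at this
    exact hd this
  have hlt : (wrSub (Q := Q) D0 ⊓ wrBase D Q).subgroupOf (wrBase D Q) <
      (wrMid (Q := Q) D0).subgroupOf (wrBase D Q) := by
    refine lt_of_le_of_ne (Subgroup.subgroupOf_mono _ hHJ) ?_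
    intro h
    have h1 : (⟨baseHom D Q (Pi.mulSingle 1 d), hJK hw1J⟩ : wrBase D Q) ∈
        (wrMid (Q := Q) D0).subgroupOf (wrBase D Q) := hw1J
    rw [← h] at h1
    exact hw1H h1
  have htop := hco.2 _ hlt
  rw [Subgroup.subgroupOf_eq_top] at htop
  have hw2K : baseHom D Q (Pi.mulSingle c d) ∈ wrBase D Q := (mem_wrBase _).mpr rfl
  have := (htop hw2K).2 c hc
  rw [baseHom_left, Pi.mulSingle_eq_same] at this
  exact hd this

end Cfsg.Agent.Helper97
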