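import Mathlib
import Cfsg.Prelude.Def_OddOrder
import Cfsg.Prelude.Def_OddOrderLocal
import Cfsg.Agent.Lib.Helper24.RankTwoAut

set_option autoImplicit false

namespace Cfsg.Agent.Helper97.BG139Req

open Subgroup
open scoped commutatorElement

/-- (R1) S1449 in NON-FAITHFUL (automorphism) form. -/
theorem commutator_le_centralizer_of_prankLE_two {G : Type*} [Group G] [Finite G] (q : ℕ) [Fact q.Prime]
    (hq : q ≠ 2) (S E : Subgroup G) (hS : IsPGroup q S) (hr : Cfsg.PRankLE q 2 S)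
    (hES : E ≤ Subgroup.normalizer (S : Set G)) (hEs : Group.IsSolvable E) (hEodd : Odd (Nat.card E))
    (hEq : (Nat.card E).Coprime q) :
    ⁅E, E⁆ ≤ Subgroup.centralizer (S : Set G) := by
  have hqp : q.Prime := Fact.out
  let f : ↥E →* MulAut ↥S := (S.normalizerMonoidHom).comp (Subgroup.inclusion hES)
  have hf_apply : ∀ (a : ↥E) (x : ↥S), ((f a x : ↥S) : G) = a * x * (a : G)⁻¹ := fun _ _ => rfl
  -- the image
  have hsurj : Function.Surjective f.rangeRestrict := f.rangeRestrict_surjective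
  have hXsolv : Group.IsSolvable ↥f.range := Group.isSolvable_of_surjective hsurj
  have hXdvd : Nat.card ↥f.range ∣ Nat.card ↥E := Subgroup.card_dvd_of_surjective _ hsurj
  have hXodd : Odd (Nat.card ↥f.range) := by
    rcases hEodd with ⟨k, hk⟩
    apply Nat.odd_iff.mpr
    rcases hXdvd with ⟨c, hc⟩
    by_contra h
    have h2 : Nat.card ↥f.range % 2 = 0 := by omega
    have h3 : 2 ∣ Nat.card ↥f.range := Nat.dvd_of_mod_eq_zero h2
    have h4 : 2 ∣ Nat.card ↥E := h3.trans ⟨c, hc⟩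
    omega
  have hpg : IsPGroup q (commutator ↥f.range) :=
    Cfsg.Agent.Helper24.RankTwoAut.isPGroup_commutator_of_rank_two hq hS hr
      f.range.subtype (Subgroup.subtype_injective _) hXodd hXsolv
  -- the commutator subgroup of the image is trivial
  have hcomm_triv : commutator ↥f.range = ⊥ := by
    obtain ⟨n, hn⟩ := IsPGroup.iff_card.mp hpg
    have hd : Nat.card (commutator ↥f.range) ∣ Nat.card ↥E :=
      (Subgroup.card_subgroup_dvd_card _).trans hXdvd
    have hc : (Nat.card (commutator ↥f.range)).Coprime q :=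
      Nat.Coprime.coprime_dvd_left hd hEq
    rw [hn] at hc
    have hn0 : n = 0 := by
      by_contra hne
      have : q ∣ Nat.gcd (q ^ n) q := Nat.dvd_gcd (dvd_pow_self q hne) dvd_rfl
      rw [hc] at this
      exact hqp.one_lt.ne' (Nat.dvd_one.mp this)
    rw [hn0, pow_zero] at hn
    exact Subgroup.card_eq_one.mp hn
  rw [Subgroup.commutator_le]
  intro x hx y hy
  rw [mem_centralizer_iff]
  intro s hs
  -- `f ⁅x, y⁆ = 1`
  have h1 : ⁅(⟨f ⟨x, hx⟩, ⟨_, rfl⟩⟩ : ↥f.range), (⟨f ⟨y, hy⟩, ⟨_, rfl⟩⟩ : ↥f.range)⁆ ∈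
      commutator ↥f.range := by
    rw [commutator_def]
    exact Subgroup.commutator_mem_commutator (mem_top _) (mem_top _)
  rw [hcomm_triv, mem_bot] at h1
  have h2 : ⁅f ⟨x, hx⟩, f ⟨y, hy⟩⁆ = 1 := by
    have := congrArg Subtype.val h1
    simpa [commutatorElement_def] using this
  have h3 : f ⁅(⟨x, hx⟩ : ↥E), (⟨y, hy⟩ : ↥E)⁆ = 1 := by
    rw [map_commutatorElement]; exact h2
  have h4 := hf_apply ⁅(⟨x, hx⟩ : ↥E), (⟨y, hy⟩ : ↥E)⁆ ⟨s, hs⟩
  rw [h3] at h4
  have h5 : s = ⁅x, y⁆ * s * ⁅x, y⁆⁻¹ := by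
    simpa [commutatorElement_def] using h4
  calc s * ⁅x, y⁆ = (⁅x, y⁆ * s * ⁅x, y⁆⁻¹) * ⁅x, y⁆ := by rw [← h5]
    _ = ⁅x, y⁆ * s := by group

end Cfsg.Agent.Helper97.BG139Req
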