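import Mathlib
import Cfsg.Prelude.Def_OddOrder
import Cfsg.Prelude.Def_OddOrderLocal
import Cfsg.Agent.Lib.Helper1.ZCoprime

set_option autoImplicit false

namespace Cfsg.Agent.Helper97.BG139Req

open Subgroup
open scoped commutatorElement

theorem comm_mul_left {G : Type*} [Group G] (x z y : G) :
    ⁅x * z, y⁆ = x * ⁅z, y⁆ * x⁻¹ * ⁅x, y⁆ := by
  simp only [commutatorElement_def]; group

theorem comm_inv_left {G : Type*} [Group G] (x y : G) :
    ⁅x⁻¹, y⁆ = x⁻¹ * ⁅x, y⁆⁻¹ * x⁻¹⁻¹ := by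
  simp only [commutatorElement_def]; group

theorem comm_mul_right {G : Type*} [Group G] (x y z : G) :
    ⁅x, y * z⁆ = ⁅x, y⁆ * (y * ⁅x, z⁆ * y⁻¹) := by
  simp only [commutatorElement_def]; group

theorem comm_inv_right {G : Type*} [Group G] (x y : G) :
    ⁅x, y⁻¹⁆ = y⁻¹ * ⁅x, y⁆⁻¹ * y⁻¹⁻¹ := by
  simp only [commutatorElement_def]; group

/-- (R3) `E = E3 E1`, `E3` normal abelian, `E1` abelian, coprime, `E3 ≤ E'` implies `C_{E3}(E1) = 1`. -/
theorem inf_centralizer_eq_bot_of_le_commutator {G : Type*} [Group G] [Finite G] (E E1 E3 : Subgroup G)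
    (h1 : E1 ≤ E) (h3 : E3 ≤ E) (hgen : E ≤ E3 ⊔ E1) (hn : E ≤ Subgroup.normalizer (E3 : Set G))
    (hc3 : IsMulCommutative E3) (hc1 : IsMulCommutative E1)
    (hcop : (Nat.card E3).Coprime (Nat.card E1)) (hle : E3 ≤ ⁅E, E⁆) :
    E3 ⊓ Subgroup.centralizer (E1 : Set G) = ⊥ := by
  have hE1n : E1 ≤ normalizer (E3 : Set G) := h1.trans hn
  have hbot := Cfsg.Agent.Helper1.ZCoprime.commutator_inf_centralizer_eq_bot E1 E3 hE1n hcop.symm
  set D := ⁅E3, E1⁆ with hD
  have hDE3 : D ≤ E3 := Cfsg.Agent.Helper1.commutator_le_of_le_normalizer hE1n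
  have hcomm3 : ∀ a ∈ E3, ∀ b ∈ E3, a * b = b * a := by
    intro a ha b hb
    have := hc3.is_comm.comm ⟨a, ha⟩ ⟨b, hb⟩
    exact congrArg Subtype.val this
  have hcomm1 : ∀ a ∈ E1, ∀ b ∈ E1, a * b = b * a := by
    intro a ha b hb
    have := hc1.is_comm.comm ⟨a, ha⟩ ⟨b, hb⟩
    exact congrArg Subtype.val this
  -- `E3 ⊔ E1` normalizes `D`
  have hN3 : E3 ≤ normalizer (D : Set G) := by
    intro a ha
    rw [mem_normalizer_iff]
    intro d
    have key : ∀ d ∈ D, a * d * a⁻¹ = d := by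
      intro d hd
      rw [hcomm3 a ha d (hDE3 hd)]; group
    constructor
    · intro hd; rw [key d hd]; exact hd
    · intro hd
      have h2 : a⁻¹ * (a * d * a⁻¹) * a⁻¹⁻¹ = a * d * a⁻¹ := by
        have h3 : a * (a * d * a⁻¹) = (a * d * a⁻¹) * a := hcomm3 a ha _ (hDE3 hd)
        calc a⁻¹ * (a * d * a⁻¹) * a⁻¹⁻¹ = a⁻¹ * ((a * d * a⁻¹) * a) := by group
          _ = a⁻¹ * (a * (a * d * a⁻¹)) := by rw [h3]
          _ = a * d * a⁻¹ := by group
      have h4 : a⁻¹ * (a * d * a⁻¹) * a⁻¹⁻¹ = d := by group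
      rw [h4] at h2
      rw [h2]; exact hd
  have hN1 : E1 ≤ normalizer (D : Set G) := by
    intro b hb
    rw [mem_normalizer_iff_map_conj_eq, hD, Subgroup.map_commutator]
    have e3 : E3.map (MulAut.conj b).toMonoidHom = E3 :=
      mem_normalizer_iff_map_conj_eq.mp (hE1n hb)
    have e1 : E1.map (MulAut.conj b).toMonoidHom = E1 :=
      mem_normalizer_iff_map_conj_eq.mp (le_normalizer hb)
    have e3' : E3.map (↑(MulAut.conj b) : G →* G) = E3 := e3
    have e1' : E1.map (↑(MulAut.conj b) : G →* G) = E1 := e1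
    rw [e3', e1']
  have hN : E3 ⊔ E1 ≤ normalizer (D : Set G) := sup_le hN3 hN1
  have hconj : ∀ g ∈ E3 ⊔ E1, ∀ d ∈ D, g * d * g⁻¹ ∈ D := by
    intro g hg d hd
    exact (mem_normalizer_iff.mp (hN hg) d).mp hd
  -- base commutators
  have hbase : ∀ x ∈ (E3 : Set G) ∪ (E1 : Set G), ∀ y ∈ (E3 : Set G) ∪ (E1 : Set G), ⁅x, y⁆ ∈ D := by
    intro x hx y hy
    rcases hx with hx | hx <;> rcases hy with hy | hy
    · have : ⁅x, y⁆ = 1 := by
        rw [commutatorElement_def, hcomm3 x hx y hy]; group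
      rw [this]; exact D.one_mem
    · exact Subgroup.commutator_mem_commutator hx hy
    · have : ⁅x, y⁆ = ⁅y, x⁆⁻¹ := (commutatorElement_inv y x).symm
      rw [this]
      exact D.inv_mem (Subgroup.commutator_mem_commutator hy hx)
    · have : ⁅x, y⁆ = 1 := by
        rw [commutatorElement_def, hcomm1 x hx y hy]; group
      rw [this]; exact D.one_mem
  have hsup : E3 ⊔ E1 = closure ((E3 : Set G) ∪ (E1 : Set G)) := by
    rw [Subgroup.closure_union, closure_eq, closure_eq]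
  have hsub : (E3 : Set G) ∪ (E1 : Set G) ⊆ ((E3 ⊔ E1 : Subgroup G) : Set G) := by
    rintro x (hx | hx)
    · exact mem_sup_left hx
    · exact mem_sup_right hx
  -- first induction: left variable
  have hleft : ∀ x ∈ E3 ⊔ E1, ∀ y ∈ (E3 : Set G) ∪ (E1 : Set G), ⁅x, y⁆ ∈ D := by
    intro x hx y hy
    have hyS : y ∈ E3 ⊔ E1 := hsub hy
    rw [hsup] at hx
    induction hx using closure_induction with
    | mem x hx => exact hbase x hx y hy
    | one =>
      have : ⁅(1 : G), y⁆ = 1 := by simp [commutatorElement_def]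
      rw [this]; exact D.one_mem
    | mul x z hx hz ihx ihz =>
      rw [comm_mul_left]
      rw [← hsup] at hx
      exact D.mul_mem (hconj x hx _ ihz) ihx
    | inv x hx ihx =>
      rw [comm_inv_left]
      rw [← hsup] at hx
      exact hconj x⁻¹ ((E3 ⊔ E1).inv_mem hx) _ (D.inv_mem ihx)
  have hall : ∀ x ∈ E3 ⊔ E1, ∀ y ∈ E3 ⊔ E1, ⁅x, y⁆ ∈ D := by
    intro x hx y hy
    rw [hsup] at hy
    induction hy using closure_induction with
    | mem y hy => exact hleft x hx y hy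
    | one =>
      have : ⁅x, (1 : G)⁆ = 1 := by simp [commutatorElement_def]
      rw [this]; exact D.one_mem
    | mul y z hy hz ihy ihz =>
      rw [comm_mul_right]
      rw [← hsup] at hy
      exact D.mul_mem ihy (hconj y hy _ ihz)
    | inv y hy ihy =>
      rw [comm_inv_right]
      rw [← hsup] at hy
      exact hconj y⁻¹ ((E3 ⊔ E1).inv_mem hy) _ (D.inv_mem ihy)
  have hEE : ⁅E, E⁆ ≤ D := by
    rw [Subgroup.commutator_le]
    intro x hx y hy
    exact hall x (hgen hx) y (hgen hy)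
  rw [eq_bot_iff, ← hbot]
  intro x hx
  exact ⟨hEE (hle hx.1), hx.2⟩

end Cfsg.Agent.Helper97.BG139Req
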