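import Mathlib
import Cfsg.Prelude.Def_OddOrder
import Cfsg.Prelude.Def_OddOrderLocal

set_option autoImplicit false

namespace Cfsg.Agent.Helper97.BG139Req

open scoped Pointwise

/-- (R9) a complement of a normal Hall subgroup inside a supplement. -/
theorem exists_compl_le {G : Type*} [Group G] [Finite G] (M K N : Subgroup G) (hKM : K ≤ M)
    (hKn : M ≤ Subgroup.normalizer (K : Set G)) (hcop : (Nat.card K).Coprime (K.relIndex M))
    (hNM : N ≤ M) (hfr : M ≤ K ⊔ N) :
    ∃ E : Subgroup G, E ≤ N ∧ Cfsg.IsComplIn E K M := by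
  have hNn : N ≤ Subgroup.normalizer (K : Set G) := hNM.trans hKn
  have hn1 : (K.subgroupOf N).Normal := Subgroup.normal_subgroupOf_of_le_normalizer hNn
  have hn2 : (K.subgroupOf M).Normal := Subgroup.normal_subgroupOf_of_le_normalizer hKn
  have h1 : Nat.card (K.subgroupOf N) ∣ Nat.card K := by
    have h : Nat.card ((K.subgroupOf N).map N.subtype) = Nat.card (K.subgroupOf N) :=
      Subgroup.card_map_of_injective (Subgroup.subtype_injective N)
    rw [← h, Subgroup.subgroupOf_map_subtype]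
    exact Subgroup.card_dvd_of_le inf_le_left
  have h2 : (K.subgroupOf N).index ∣ K.relIndex M := by
    have h3 : ((K.subgroupOf M).map M.subtype).relIndex ((N.subgroupOf M).map M.subtype) =
        (K.subgroupOf M).relIndex (N.subgroupOf M) :=
      Subgroup.relIndex_map_map_of_injective _ _ (Subgroup.subtype_injective M)
    rw [Subgroup.subgroupOf_map_subtype, Subgroup.subgroupOf_map_subtype,
      inf_eq_left.mpr hKM, inf_eq_left.mpr hNM] at h3
    show K.relIndex N ∣ K.relIndex M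
    rw [h3]
    exact Subgroup.relIndex_dvd_index_of_normal _ _
  have hc : (Nat.card (K.subgroupOf N)).Coprime (K.subgroupOf N).index :=
    Nat.Coprime.coprime_dvd_left h1 (Nat.Coprime.coprime_dvd_right h2 hcop)
  obtain ⟨H', hH'⟩ := Subgroup.exists_right_complement'_of_coprime hc
  have hdisj : K.subgroupOf N ⊓ H' = ⊥ := disjoint_iff.mp hH'.disjoint
  refine ⟨H'.map N.subtype, ?_, ?_, hKM, ?_, ?_⟩
  · rintro _ ⟨x, -, rfl⟩
    exact x.2
  · rintro _ ⟨x, -, rfl⟩
    exact hNM x.2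
  · rw [eq_bot_iff]
    rintro x ⟨⟨y, hy, rfl⟩, hxK⟩
    have hyK : y ∈ K.subgroupOf N := hxK
    have : y ∈ K.subgroupOf N ⊓ H' := ⟨hyK, hy⟩
    rw [hdisj, Subgroup.mem_bot] at this
    rw [this]; simp
  · intro m hm
    -- m = n * k with n ∈ N, k ∈ K
    have hmem : (⟨m, hm⟩ : ↥M) ∈ N.subgroupOf M ⊔ K.subgroupOf M := by
      have htop : N.subgroupOf M ⊔ K.subgroupOf M = ⊤ := by
        rw [← Subgroup.subgroupOf_sup hNM hKM, sup_comm]
        exact Subgroup.subgroupOf_eq_top.mpr hfr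
      rw [htop]; exact Subgroup.mem_top _
    have hset : ((N.subgroupOf M ⊔ K.subgroupOf M : Subgroup ↥M) : Set ↥M) =
        (N.subgroupOf M : Set ↥M) * (K.subgroupOf M : Set ↥M) := Subgroup.mul_normal _ _
    have hmem' : (⟨m, hm⟩ : ↥M) ∈ (N.subgroupOf M : Set ↥M) * (K.subgroupOf M : Set ↥M) := by
      rw [← hset]; exact hmem
    obtain ⟨n, hn, k, hk, hnk⟩ := Set.mem_mul.mp hmem'
    have hnN : (n : G) ∈ N := hn
    have hkK : (k : G) ∈ K := hk
    have hmnk : m = (n : G) * (k : G) := by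
      have := congrArg Subtype.val hnk
      simpa using this.symm
    -- decompose n⁻¹ in N
    obtain ⟨⟨k', h'⟩, hk'h⟩ := hH'.2 (⟨(n : G), hnN⟩⁻¹ : ↥N)
    have hk'K : ((k' : ↥N) : G) ∈ K := k'.2
    have heq : ((k' : ↥N) : G) * ((h' : ↥N) : G) = (n : G)⁻¹ := by
      have := congrArg Subtype.val hk'h
      simpa using this
    refine ⟨((h' : ↥N) : G)⁻¹, ⟨(h' : ↥N)⁻¹, H'.inv_mem h'.2, by simp⟩,
      ((k' : ↥N) : G)⁻¹ * (k : G), K.mul_mem (K.inv_mem hk'K) hkK, ?_⟩
    rw [hmnk]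
    have hn' : (n : G) = ((h' : ↥N) : G)⁻¹ * ((k' : ↥N) : G)⁻¹ := by
      rw [← mul_inv_rev, heq, inv_inv]
    rw [hn']
    group

end Cfsg.Agent.Helper97.BG139Req
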