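import Mathlib
import Cfsg.Prelude.Def_OddOrder
import Cfsg.Prelude.Def_OddOrderLocal
import Cfsg.Agent.S1350
import Cfsg.Agent.Lib.Helper55.BGHall
import Cfsg.Agent.Lib.Helper60.BG161C2a

set_option autoImplicit false

namespace Cfsg.Agent.Helper97.BG142Req

open Subgroup
open Cfsg.Agent.Helper79.BG10 (cj cj_le_iff cj_eq_self_of_mem cj_eq_self_of_mem_normalizer)

variable {G : Type*} [Group G] [Finite G]

/-- (Q1) = (L0): a Hall kappa(M)-subgroup lies in some complement of M_sigma. -/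
theorem exists_compl_ge (hG : Cfsg.IsMinSimpleOddOrder G) (M : Subgroup G) (hM : IsCoatom M)
    (K : Subgroup G) (hK : Cfsg.IsPiHallOf (Cfsg.kappa M) K M) :
    ∃ E : Subgroup G, Cfsg.IsComplIn E (Cfsg.sigmaCore M) M ∧ K ≤ E := by
  have hHall := (Cfsg.Agent.S1350.result hG M hM).1
  obtain ⟨E₀, hE₀⟩ := Cfsg.Agent.Helper55.BGB.exists_compl_sigmaCore hHall
  have hsol : Group.IsSolvable M := Cfsg.Agent.Helper34.BG.solvable_of_ne_top hG hM.1
  have hKσ : ∀ p : ℕ, p.Prime → p ∣ Nat.card K → p ∉ Cfsg.sigma M :=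
    fun p hp hd => (hK.2.1 p hp hd).2.2.1
  obtain ⟨h, hhM, hle⟩ := Cfsg.Agent.Helper60.BG161.exists_conj_le_compl hsol hHall hE₀ hK.1 hKσ
  refine ⟨cj h⁻¹ E₀, ?_, cj_le_iff.mp hle⟩
  have h1 := Cfsg.Agent.Helper60.BG161.isComplIn_cj hE₀ h⁻¹
  rwa [cj_eq_self_of_mem_normalizer
      (Cfsg.Agent.Helper55.BGB.le_normalizer_sigmaCore M (inv_mem hhM)),
    cj_eq_self_of_mem (inv_mem hhM)] at h1

end Cfsg.Agent.Helper97.BG142Req
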