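import Mathlib

/-!
# Distinguishing sets in primitive permutation groups (Babai-type bound), part A

`SC` = "same orbital"; `Dset x y` = points `z` with `(z,x)`, `(z,y)` in different orbitals.
-/

set_option autoImplicit false
set_option linter.unusedSectionVars false
set_option linter.unusedVariables false

namespace Cfsg.Agent.Helper97.Babai

open Finset Classical

variable {G : Type*} [Group G] {Ω : Type*} [MulAction G Ω] [Fintype Ω]

/-- same orbital -/
def SC (G : Type*) [Group G] {Ω : Type*} [MulAction G Ω] (p q : Ω × Ω) : Prop :=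
  ∃ g : G, g • p.1 = q.1 ∧ g • p.2 = q.2

theorem SC.refl (p : Ω × Ω) : SC G p p := ⟨1, one_smul _ _, one_smul _ _⟩

theorem SC.symm {p q : Ω × Ω} (h : SC G p q) : SC G q p := by
  obtain ⟨g, h1, h2⟩ := h
  exact ⟨g⁻¹, by rw [← h1, inv_smul_smul], by rw [← h2, inv_smul_smul]⟩

theorem SC.trans {p q r : Ω × Ω} (h : SC G p q) (h' : SC G q r) : SC G p r := by
  obtain ⟨g, h1, h2⟩ := h
  obtain ⟨g', h1', h2'⟩ := h'
  exact ⟨g' * g, by rw [mul_smul, h1, h1'], by rw [mul_smul, h2, h2']⟩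

theorem SC.swap {a b c d : Ω} (h : SC G (a, b) (c, d)) : SC G (b, a) (d, c) := by
  obtain ⟨g, h1, h2⟩ := h
  exact ⟨g, h2, h1⟩

theorem SC.smul (g : G) (a b : Ω) : SC G (a, b) (g • a, g • b) := ⟨g, rfl, rfl⟩

/-- the distinguishing set of `x, y` -/
noncomputable def Dset (G : Type*) [Group G] {Ω : Type*} [MulAction G Ω] [Fintype Ω]
    (x y : Ω) : Finset Ω :=
  univ.filter (fun z => ¬ SC G (z, x) (z, y))

theorem mem_Dset {x y z : Ω} : z ∈ Dset G x y ↔ ¬ SC G (z, x) (z, y) := by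
  unfold Dset
  rw [Finset.mem_filter]
  exact ⟨fun h => h.2, fun h => ⟨Finset.mem_univ _, h⟩⟩

theorem Dset_comm (x y : Ω) : Dset G x y = Dset G y x := by
  ext z
  rw [mem_Dset, mem_Dset]
  exact ⟨fun h h' => h h'.symm, fun h h' => h h'.symm⟩

theorem left_mem_Dset {x y : Ω} (h : x ≠ y) : x ∈ Dset G x y := by
  rw [mem_Dset]
  rintro ⟨g, h1, h2⟩
  exact h (h1.symm.trans h2)

theorem right_mem_Dset {x y : Ω} (h : x ≠ y) : y ∈ Dset G x y := by
  rw [Dset_comm]
  exact left_mem_Dset (Ne.symm h)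

theorem smul_mem_Dset (g : G) {x y z : Ω} : g • z ∈ Dset G (g • x) (g • y) ↔ z ∈ Dset G x y := by
  rw [mem_Dset, mem_Dset, not_iff_not]
  constructor
  · intro h
    exact ((SC.smul g z x).trans h).trans (SC.smul g z y).symm
  · intro h
    exact ((SC.smul g z x).symm.trans h).trans (SC.smul g z y)

theorem Dset_triangle (x y z : Ω) : Dset G x z ⊆ Dset G x y ∪ Dset G y z := by
  intro w hw
  rw [Finset.mem_union, mem_Dset, mem_Dset]
  rw [mem_Dset] at hw
  by_contra hc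
  push Not at hc
  exact hw (hc.1.trans hc.2)

theorem not_mem_Dset_of_fixed (g : G) {x z : Ω} (hz : g • z = z) : z ∉ Dset G x (g • x) := by
  rw [mem_Dset, not_not]
  exact ⟨g, hz, rfl⟩

theorem card_eq_of_smul (g : G) (S T : Finset Ω) (h : ∀ w, g • w ∈ T ↔ w ∈ S) :
    T.card = S.card := by
  symm
  apply Finset.card_bij (fun w _ => g • w)
  · intro w hw
    exact (h w).2 hw
  · intro a _ b _ e
    exact MulAction.injective g e
  · intro w hw
    refine ⟨g⁻¹ • w, ?_, smul_inv_smul g w⟩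
    rw [← h, smul_inv_smul]
    exact hw

theorem card_Dset_smul (g : G) (x y : Ω) : (Dset G (g • x) (g • y)).card = (Dset G x y).card :=
  card_eq_of_smul g _ _ (fun _ => smul_mem_Dset g)

/-- adjacency in the (symmetrised) orbital graph of the base pair `p₀` -/
def adj (G : Type*) [Group G] {Ω : Type*} [MulAction G Ω] (p₀ : Ω × Ω) (u v : Ω) : Prop :=
  SC G p₀ (u, v) ∨ SC G p₀ (v, u)

theorem adj_symm {p₀ : Ω × Ω} {u v : Ω} (h : adj G p₀ u v) : adj G p₀ v u := Or.symm h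

theorem adj_congr {p₀ : Ω × Ω} {u v u' v' : Ω} (h : SC G (u, v) (u', v')) :
    adj G p₀ u v ↔ adj G p₀ u' v' := by
  constructor
  · rintro (h1 | h1)
    · exact Or.inl (h1.trans h)
    · exact Or.inr (h1.trans h.swap)
  · rintro (h1 | h1)
    · exact Or.inl (h1.trans h.symm)
    · exact Or.inr (h1.trans h.symm.swap)

theorem adj_smul (g : G) {p₀ : Ω × Ω} {u v : Ω} : adj G p₀ (g • u) (g • v) ↔ adj G p₀ u v :=
  (adj_congr (SC.smul g u v)).symm

theorem adj_ne {p₀ : Ω × Ω} (h0 : p₀.1 ≠ p₀.2) {u v : Ω} (h : adj G p₀ u v) : u ≠ v := by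
  rintro rfl
  rcases h with ⟨g, h1, h2⟩ | ⟨g, h1, h2⟩
  · exact h0 (MulAction.injective g (h1.trans h2.symm))
  · exact h0 (MulAction.injective g (h1.trans h2.symm))

theorem adj_base (p₀ : Ω × Ω) : adj G p₀ p₀.1 p₀.2 := Or.inl (SC.refl _)

/-- neighbourhood -/
noncomputable def nb (G : Type*) [Group G] {Ω : Type*} [MulAction G Ω] [Fintype Ω]
    (p₀ : Ω × Ω) (u : Ω) : Finset Ω :=
  univ.filter (fun v => adj G p₀ u v)

theorem mem_nb {p₀ : Ω × Ω} {u v : Ω} : v ∈ nb G p₀ u ↔ adj G p₀ u v := by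
  unfold nb
  rw [Finset.mem_filter]
  exact ⟨fun h => h.2, fun h => ⟨Finset.mem_univ _, h⟩⟩

theorem card_nb_smul (g : G) (p₀ : Ω × Ω) (u : Ω) : (nb G p₀ (g • u)).card = (nb G p₀ u).card :=
  card_eq_of_smul g _ _ (fun w => by rw [mem_nb, mem_nb, adj_smul])

theorem card_nb_eq (htr : ∀ a b : Ω, ∃ g : G, g • a = b) (p₀ : Ω × Ω) (u v : Ω) :
    (nb G p₀ u).card = (nb G p₀ v).card := by
  obtain ⟨g, rfl⟩ := htr u v
  exact (card_nb_smul g p₀ u).symm

theorem card_Dset_of_adj {p₀ : Ω × Ω} {u v : Ω} (h : adj G p₀ u v) :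
    (Dset G u v).card = (Dset G p₀.1 p₀.2).card := by
  rcases h with ⟨g, h1, h2⟩ | ⟨g, h1, h2⟩
  · have h1' : g • p₀.1 = u := h1
    have h2' : g • p₀.2 = v := h2
    rw [← h1', ← h2']
    exact card_Dset_smul g _ _
  · have h1' : g • p₀.1 = v := h1
    have h2' : g • p₀.2 = u := h2
    rw [Dset_comm, ← h1', ← h2']
    exact card_Dset_smul g _ _

theorem nb_sdiff_subset_Dset (p₀ : Ω × Ω) (u v : Ω) : nb G p₀ u \ nb G p₀ v ⊆ Dset G u v := by
  intro z hz
  rw [Finset.mem_sdiff, mem_nb, mem_nb] at hz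
  rw [mem_Dset]
  intro h
  apply hz.2
  exact adj_symm ((adj_congr h).1 (adj_symm hz.1))

/-- (B): neighbourhoods of two vertices differ by at most half the distinguishing number -/
theorem two_mul_card_nb_sdiff_le (htr : ∀ a b : Ω, ∃ g : G, g • a = b) (p₀ : Ω × Ω) (u v : Ω) :
    2 * (nb G p₀ u \ nb G p₀ v).card ≤ (Dset G u v).card := by
  have h1 := nb_sdiff_subset_Dset (G := G) p₀ u v
  have h2 : nb G p₀ v \ nb G p₀ u ⊆ Dset G u v := by
    rw [Dset_comm]
    exact nb_sdiff_subset_Dset p₀ v u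
  have hdisj : Disjoint (nb G p₀ u \ nb G p₀ v) (nb G p₀ v \ nb G p₀ u) := by
    rw [Finset.disjoint_left]
    intro z hz hz'
    rw [Finset.mem_sdiff] at hz hz'
    exact hz.2 hz'.1
  have hcard : (nb G p₀ u \ nb G p₀ v).card = (nb G p₀ v \ nb G p₀ u).card := by
    have e1 := Finset.card_sdiff_add_card_inter (nb G p₀ u) (nb G p₀ v)
    have e2 := Finset.card_sdiff_add_card_inter (nb G p₀ v) (nb G p₀ u)
    rw [Finset.inter_comm] at e2
    have e3 := card_nb_eq htr p₀ u v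
    omega
  have h3 := Finset.card_le_card (Finset.union_subset h1 h2)
  rw [Finset.card_union_of_disjoint hdisj] at h3
  omega

end Cfsg.Agent.Helper97.Babai
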