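import Mathlib
import Cfsg.Agent.Lib.Helper97.BabaiA

/-!
# Babai-type bound, part B: valency bound, diameter two, far vertices
-/

set_option autoImplicit false
set_option linter.unusedSectionVars false
set_option linter.unusedVariables false

namespace Cfsg.Agent.Helper97.Babai

open Finset Classical

variable {G : Type*} [Group G] {Ω : Type*} [MulAction G Ω] [Fintype Ω]

/-- (A): `δ + (n - 1) ≤ δ * D` for a connected orbital graph -/
theorem valency_bound (htr : ∀ a b : Ω, ∃ g : G, g • a = b) (p₀ : Ω × Ω) (h0 : p₀.1 ≠ p₀.2)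
    (hconn : ∀ S : Finset Ω, S.Nonempty → (∀ u ∈ S, ∀ v, adj G p₀ u v → v ∈ S) → S = univ) :
    (nb G p₀ p₀.1).card + Fintype.card Ω
      ≤ (nb G p₀ p₀.1).card * (Dset G p₀.1 p₀.2).card + 1 := by
  have h1 : ∑ v ∈ nb G p₀ p₀.1, (Dset G p₀.1 v).card
      = (nb G p₀ p₀.1).card * (Dset G p₀.1 p₀.2).card := by
    rw [Finset.sum_const_nat (m := (Dset G p₀.1 p₀.2).card)]
    intro v hv
    exact card_Dset_of_adj (mem_nb.1 hv)
  have h2 : ∑ v ∈ nb G p₀ p₀.1, (Dset G p₀.1 v).card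
      = ∑ z : Ω, ((nb G p₀ p₀.1).filter (fun v => z ∈ Dset G p₀.1 v)).card := by
    calc ∑ v ∈ nb G p₀ p₀.1, (Dset G p₀.1 v).card
        = ∑ v ∈ nb G p₀ p₀.1, ∑ z : Ω, (if z ∈ Dset G p₀.1 v then 1 else 0) := by
          apply Finset.sum_congr rfl
          intro v _
          rw [← Finset.card_filter, Finset.filter_univ_mem]
      _ = ∑ z : Ω, ∑ v ∈ nb G p₀ p₀.1, (if z ∈ Dset G p₀.1 v then 1 else 0) := Finset.sum_comm
      _ = _ := by
          apply Finset.sum_congr rfl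
          intro z _
          rw [Finset.card_filter]
  have h3 : ∀ z : Ω, z ≠ p₀.1 →
      1 ≤ ((nb G p₀ p₀.1).filter (fun v => z ∈ Dset G p₀.1 v)).card := by
    intro z hz
    rw [Nat.one_le_iff_ne_zero, ← Nat.pos_iff_ne_zero, Finset.card_pos]
    by_contra hempty
    have hall : ∀ v, adj G p₀ p₀.1 v → SC G (z, p₀.1) (z, v) := by
      intro v hv
      by_contra hc
      exact hempty ⟨v, Finset.mem_filter.2 ⟨mem_nb.2 hv, mem_Dset.2 hc⟩⟩
    have hS := hconn (univ.filter (fun w => SC G (z, p₀.1) (z, w)))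
      ⟨p₀.1, Finset.mem_filter.2 ⟨Finset.mem_univ _, SC.refl _⟩⟩ ?_
    · have hzS : z ∈ univ.filter (fun w => SC G (z, p₀.1) (z, w)) := by
        rw [hS]; exact Finset.mem_univ _
      rw [Finset.mem_filter] at hzS
      obtain ⟨g, h1, h2⟩ := hzS.2
      have h1' : g • z = z := h1
      have h2' : g • p₀.1 = z := h2
      exact hz (MulAction.injective g (h1'.trans h2'.symm))
    · intro w hw v hv
      rw [Finset.mem_filter] at hw ⊢
      refine ⟨Finset.mem_univ _, ?_⟩
      obtain ⟨g, h1, h2⟩ := hw.2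
      have h1' : g • z = z := h1
      have h2' : g • p₀.1 = w := h2
      have hadj : adj G p₀ p₀.1 (g⁻¹ • v) := by
        rw [← adj_smul g, h2', smul_inv_smul]
        exact hv
      have h4 := hall _ hadj
      have h5 : SC G (z, g⁻¹ • v) (z, v) := ⟨g, h1', smul_inv_smul g v⟩
      exact h4.trans h5
  have h4 : (nb G p₀ p₀.1).card
      ≤ ((nb G p₀ p₀.1).filter (fun v => p₀.1 ∈ Dset G p₀.1 v)).card := by
    apply Finset.card_le_card
    intro v hv
    rw [Finset.mem_filter]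
    exact ⟨hv, left_mem_Dset (adj_ne h0 (mem_nb.1 hv))⟩
  have h5 : (nb G p₀ p₀.1).card + (Fintype.card Ω - 1)
      ≤ ∑ z : Ω, ((nb G p₀ p₀.1).filter (fun v => z ∈ Dset G p₀.1 v)).card := by
    rw [← Finset.add_sum_erase univ _ (Finset.mem_univ p₀.1)]
    apply Nat.add_le_add h4
    calc Fintype.card Ω - 1 = (univ.erase p₀.1).card := by
          rw [Finset.card_erase_of_mem (Finset.mem_univ _), Finset.card_univ]
      _ = ∑ z ∈ univ.erase p₀.1, 1 := by rw [Finset.sum_const, smul_eq_mul, mul_one]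
      _ ≤ _ := Finset.sum_le_sum (fun z hz => h3 z (Finset.ne_of_mem_erase hz))
  have hn : 0 < Fintype.card Ω := Fintype.card_pos_iff.2 ⟨p₀.1⟩
  rw [← h2, h1] at h5
  omega

/-- diameter at most two when the valency is at least `2 D` -/
theorem dist_le_two (htr : ∀ a b : Ω, ∃ g : G, g • a = b) (p₀ : Ω × Ω) (h0 : p₀.1 ≠ p₀.2)
    (hconn : ∀ S : Finset Ω, S.Nonempty → (∀ u ∈ S, ∀ v, adj G p₀ u v → v ∈ S) → S = univ)
    (hδ : 2 * (Dset G p₀.1 p₀.2).card ≤ (nb G p₀ p₀.1).card) (x w : Ω) :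
    w = x ∨ adj G p₀ x w ∨ ∃ b, adj G p₀ x b ∧ adj G p₀ b w := by
  have hDpos : 0 < (Dset G p₀.1 p₀.2).card := Finset.card_pos.2 ⟨p₀.1, left_mem_Dset h0⟩
  have hT := hconn (univ.filter (fun w => w = x ∨ adj G p₀ x w ∨ ∃ b, adj G p₀ x b ∧ adj G p₀ b w))
    ⟨x, Finset.mem_filter.2 ⟨Finset.mem_univ _, Or.inl rfl⟩⟩ ?_
  · have hw : w ∈ univ.filter
        (fun w => w = x ∨ adj G p₀ x w ∨ ∃ b, adj G p₀ x b ∧ adj G p₀ b w) := by
      rw [hT]; exact Finset.mem_univ _
    exact (Finset.mem_filter.1 hw).2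
  · intro u hu v huv
    rw [Finset.mem_filter] at hu ⊢
    refine ⟨Finset.mem_univ _, ?_⟩
    rcases hu.2 with rfl | hxu | ⟨b, hxb, hbu⟩
    · exact Or.inr (Or.inl huv)
    · exact Or.inr (Or.inr ⟨u, hxu, huv⟩)
    · right; right
      have e1 := two_mul_card_nb_sdiff_le htr p₀ x b
      have e2 := two_mul_card_nb_sdiff_le htr p₀ b u
      have e3 := two_mul_card_nb_sdiff_le htr p₀ u v
      rw [card_Dset_of_adj hxb] at e1
      rw [card_Dset_of_adj hbu] at e2
      rw [card_Dset_of_adj huv] at e3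
      have hsub : nb G p₀ x \ nb G p₀ v
          ⊆ (nb G p₀ x \ nb G p₀ b) ∪ (nb G p₀ b \ nb G p₀ u) ∪ (nb G p₀ u \ nb G p₀ v) := by
        intro z hz
        rw [Finset.mem_sdiff] at hz
        simp only [Finset.mem_union, Finset.mem_sdiff]
        by_cases hzb : z ∈ nb G p₀ b
        · by_cases hzu : z ∈ nb G p₀ u
          · exact Or.inr ⟨hzu, hz.2⟩
          · exact Or.inl (Or.inr ⟨hzb, hzu⟩)
        · exact Or.inl (Or.inl ⟨hz.1, hzb⟩)
      have hc := Finset.card_le_card hsub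
      have hc2 := Finset.card_union_le ((nb G p₀ x \ nb G p₀ b) ∪ (nb G p₀ b \ nb G p₀ u))
        (nb G p₀ u \ nb G p₀ v)
      have hc3 := Finset.card_union_le (nb G p₀ x \ nb G p₀ b) (nb G p₀ b \ nb G p₀ u)
      have hx := card_nb_eq htr p₀ x p₀.1
      have hsplit := Finset.card_sdiff_add_card_inter (nb G p₀ x) (nb G p₀ v)
      have hne : (nb G p₀ x ∩ nb G p₀ v).Nonempty := by
        rw [← Finset.card_pos]
        omega
      obtain ⟨b', hb'⟩ := hne
      rw [Finset.mem_inter, mem_nb, mem_nb] at hb'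
      exact ⟨b', hb'.1, adj_symm hb'.2⟩

/-- few vertices are non-adjacent to `x` when the valency is at least `2 D` -/
theorem card_far_le (htr : ∀ a b : Ω, ∃ g : G, g • a = b) (p₀ : Ω × Ω) (h0 : p₀.1 ≠ p₀.2)
    (hconn : ∀ S : Finset Ω, S.Nonempty → (∀ u ∈ S, ∀ v, adj G p₀ u v → v ∈ S) → S = univ)
    (hδ : 2 * (Dset G p₀.1 p₀.2).card ≤ (nb G p₀ p₀.1).card) (x : Ω) :
    (univ.filter (fun w => w ≠ x ∧ ¬ adj G p₀ x w)).card + 2 ≤ (Dset G p₀.1 p₀.2).card := by
  have hD2 : 2 ≤ (Dset G p₀.1 p₀.2).card := by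
    have : ({p₀.1, p₀.2} : Finset Ω) ⊆ Dset G p₀.1 p₀.2 := by
      intro z hz
      rw [Finset.mem_insert, Finset.mem_singleton] at hz
      rcases hz with rfl | rfl
      · exact left_mem_Dset h0
      · exact right_mem_Dset h0
    have h := Finset.card_le_card this
    rwa [Finset.card_pair h0] at h
  set D := (Dset G p₀.1 p₀.2).card with hDdef
  set δ := (nb G p₀ p₀.1).card with hδdef
  set W := univ.filter (fun w => w ≠ x ∧ ¬ adj G p₀ x w) with hWdef
  have hNcard : (nb G p₀ x).card = δ := card_nb_eq htr p₀ x p₀.1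
  -- double counting of edges between (nb G p₀ x) and W
  have hcomm : ∑ w ∈ W, ((nb G p₀ x).filter (fun a => adj G p₀ a w)).card
      = ∑ a ∈ (nb G p₀ x), (W.filter (fun w => adj G p₀ a w)).card := by
    simp_rw [Finset.card_filter]
    exact Finset.sum_comm
  -- lower bound
  have hlow : ∀ w ∈ W, δ ≤ ((nb G p₀ x).filter (fun a => adj G p₀ a w)).card + D := by
    intro w hw
    rw [hWdef, Finset.mem_filter] at hw
    rcases dist_le_two htr p₀ h0 hconn hδ x w with h | h | ⟨b, hxb, hbw⟩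
    · exact absurd h hw.2.1
    · exact absurd h hw.2.2
    · have e1 := two_mul_card_nb_sdiff_le htr p₀ x b
      have e2 := two_mul_card_nb_sdiff_le htr p₀ b w
      rw [card_Dset_of_adj hxb] at e1
      rw [card_Dset_of_adj hbw] at e2
      have hsub : (nb G p₀ x) \ nb G p₀ w ⊆ ((nb G p₀ x) \ nb G p₀ b) ∪ (nb G p₀ b \ nb G p₀ w) := by
        intro z hz
        rw [Finset.mem_sdiff] at hz
        simp only [Finset.mem_union, Finset.mem_sdiff]
        by_cases hzb : z ∈ nb G p₀ b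
        · exact Or.inr ⟨hzb, hz.2⟩
        · exact Or.inl ⟨hz.1, hzb⟩
      have hc := Finset.card_le_card hsub
      have hc3 := Finset.card_union_le ((nb G p₀ x) \ nb G p₀ b) (nb G p₀ b \ nb G p₀ w)
      have hsplit := Finset.card_sdiff_add_card_inter (nb G p₀ x) (nb G p₀ w)
      have hfe : (nb G p₀ x).filter (fun a => adj G p₀ a w) = (nb G p₀ x) ∩ nb G p₀ w := by
        ext a
        rw [Finset.mem_filter, Finset.mem_inter, mem_nb (u := w)]
        exact ⟨fun h => ⟨h.1, adj_symm h.2⟩, fun h => ⟨h.1, adj_symm h.2⟩⟩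
      rw [hfe]
      omega
  -- upper bound
  have hup : ∀ a ∈ (nb G p₀ x), 2 * (W.filter (fun w => adj G p₀ a w)).card + 2 ≤ D := by
    intro a ha
    rw [mem_nb] at ha
    have e1 := two_mul_card_nb_sdiff_le htr p₀ a x
    rw [card_Dset_of_adj (adj_symm ha)] at e1
    have hsub : W.filter (fun w => adj G p₀ a w) ⊆ (nb G p₀ a \ nb G p₀ x).erase x := by
      intro w hw
      rw [Finset.mem_filter, hWdef, Finset.mem_filter] at hw
      rw [Finset.mem_erase, Finset.mem_sdiff, mem_nb, mem_nb]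
      exact ⟨hw.1.2.1, hw.2, hw.1.2.2⟩
    have hxmem : x ∈ nb G p₀ a \ nb G p₀ x := by
      rw [Finset.mem_sdiff, mem_nb, mem_nb]
      exact ⟨adj_symm ha, fun h => adj_ne h0 h rfl⟩
    have hc := Finset.card_le_card hsub
    rw [Finset.card_erase_of_mem hxmem] at hc
    have hpos : 0 < (nb G p₀ a \ nb G p₀ x).card := Finset.card_pos.2 ⟨x, hxmem⟩
    omega
  have hsum1 : W.card * δ ≤ ∑ w ∈ W, ((nb G p₀ x).filter (fun a => adj G p₀ a w)).card + W.card * D := by
    have := Finset.sum_le_sum hlow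
    rw [Finset.sum_const, smul_eq_mul, Finset.sum_add_distrib, Finset.sum_const, smul_eq_mul]
      at this
    exact this
  have hsum2 : 2 * ∑ a ∈ (nb G p₀ x), (W.filter (fun w => adj G p₀ a w)).card + 2 * δ ≤ δ * D := by
    have := Finset.sum_le_sum hup
    rw [Finset.sum_const, smul_eq_mul, Finset.sum_add_distrib, Finset.sum_const, smul_eq_mul,
      ← Finset.mul_sum, hNcard] at this
    linarith
  rw [hcomm] at hsum1
  set S' := ∑ a ∈ (nb G p₀ x), (W.filter (fun w => adj G p₀ a w)).card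
  have hδpos : 0 < δ := by omega
  have h2cD : 2 * (W.card * D) ≤ W.card * δ := by nlinarith
  have hfin : δ * (W.card + 2) ≤ δ * D := by nlinarith
  exact Nat.le_of_mul_le_mul_left hfin hδpos

end Cfsg.Agent.Helper97.Babai
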