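import Mathlib
import Cfsg.Agent.Lib.Helper97.BabaiA
import Cfsg.Agent.Lib.Helper97.BabaiB

/-!
# Babai-type bound, part C: the tournament case and the core theorem
-/

set_option autoImplicit false
set_option linter.unusedSectionVars false
set_option linter.unusedVariables false

namespace Cfsg.Agent.Helper97.Babai

open Finset Classical

variable {G : Type*} [Group G] {Ω : Type*} [MulAction G Ω] [Fintype Ω]

/-- out-neighbourhood for the orbital of `p₀` -/
noncomputable def outn (G : Type*) [Group G] {Ω : Type*} [MulAction G Ω] [Fintype Ω]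
    (p₀ : Ω × Ω) (u : Ω) : Finset Ω :=
  univ.filter (fun v => SC G p₀ (u, v))

theorem mem_outn {p₀ : Ω × Ω} {u v : Ω} : v ∈ outn G p₀ u ↔ SC G p₀ (u, v) := by
  unfold outn
  rw [Finset.mem_filter]
  exact ⟨fun h => h.2, fun h => ⟨Finset.mem_univ _, h⟩⟩

theorem smul_mem_outn (g : G) {p₀ : Ω × Ω} {u v : Ω} :
    g • v ∈ outn G p₀ (g • u) ↔ v ∈ outn G p₀ u := by
  rw [mem_outn, mem_outn]
  exact ⟨fun h => h.trans (SC.smul g u v).symm, fun h => h.trans (SC.smul g u v)⟩

theorem card_outn_eq (htr : ∀ a b : Ω, ∃ g : G, g • a = b) (p₀ : Ω × Ω) (u v : Ω) :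
    (outn G p₀ u).card = (outn G p₀ v).card := by
  obtain ⟨g, rfl⟩ := htr u v
  exact (card_eq_of_smul g _ _ (fun w => smul_mem_outn g)).symm

theorem outn_sdiff_subset_Dset (p₀ : Ω × Ω) (u v : Ω) :
    outn G p₀ u \ outn G p₀ v ⊆ Dset G u v := by
  intro z hz
  rw [Finset.mem_sdiff, mem_outn, mem_outn] at hz
  rw [mem_Dset]
  intro h
  exact hz.2 (hz.1.trans h.swap)

/-- tournament case: the out-valency is less than the distinguishing number -/
theorem tour_bound (htr : ∀ a b : Ω, ∃ g : G, g • a = b) (p₀ : Ω × Ω) (h0 : p₀.1 ≠ p₀.2)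
    (hcomp : ∀ u v : Ω, u ≠ v → SC G p₀ (u, v) ∨ SC G p₀ (v, u))
    (hasym : ∀ u v : Ω, SC G p₀ (u, v) → ¬ SC G p₀ (v, u)) :
    (outn G p₀ p₀.1).card + 1 ≤ (Dset G p₀.1 p₀.2).card := by
  have hyO : p₀.2 ∈ outn G p₀ p₀.1 := mem_outn.2 (SC.refl _)
  have hkpos : 0 < (outn G p₀ p₀.1).card := Finset.card_pos.2 ⟨_, hyO⟩
  -- common out-neighbours
  have hlam : ∀ v ∈ outn G p₀ p₀.1, (outn G p₀ p₀.1 ∩ outn G p₀ v).card
      = (outn G p₀ p₀.1 ∩ outn G p₀ p₀.2).card := by
    intro v hv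
    obtain ⟨g, h1, h2⟩ := mem_outn.1 hv
    have h1' : g • p₀.1 = p₀.1 := h1
    have h2' : g • p₀.2 = v := h2
    apply card_eq_of_smul g
    intro w
    rw [Finset.mem_inter, Finset.mem_inter]
    constructor
    · rintro ⟨ha, hb⟩
      rw [← h1'] at ha
      rw [← h2'] at hb
      exact ⟨(smul_mem_outn g).1 ha, (smul_mem_outn g).1 hb⟩
    · rintro ⟨ha, hb⟩
      have ha' := (smul_mem_outn g).2 ha
      have hb' := (smul_mem_outn g).2 hb
      rw [h1'] at ha'
      rw [h2'] at hb'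
      exact ⟨ha', hb'⟩
  -- in-neighbours within O
  have hsplit : ∀ v ∈ outn G p₀ p₀.1,
      (outn G p₀ p₀.1 ∩ outn G p₀ v).card
        + ((outn G p₀ p₀.1).filter (fun w => SC G p₀ (w, v))).card + 1
        = (outn G p₀ p₀.1).card := by
    intro v hv
    have hdisj : Disjoint (outn G p₀ p₀.1 ∩ outn G p₀ v)
        ((outn G p₀ p₀.1).filter (fun w => SC G p₀ (w, v))) := by
      rw [Finset.disjoint_left]
      intro w hw hw'
      rw [Finset.mem_inter, mem_outn (u := v)] at hw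
      rw [Finset.mem_filter] at hw'
      exact hasym _ _ hw.2 hw'.2
    have hunion : (outn G p₀ p₀.1 ∩ outn G p₀ v)
        ∪ ((outn G p₀ p₀.1).filter (fun w => SC G p₀ (w, v))) = (outn G p₀ p₀.1).erase v := by
      ext w
      rw [Finset.mem_union, Finset.mem_inter, mem_outn (u := v), Finset.mem_filter,
        Finset.mem_erase]
      constructor
      · rintro (⟨h1, h2⟩ | ⟨h1, h2⟩)
        · refine ⟨?_, h1⟩
          rintro rfl
          exact hasym _ _ h2 h2
        · refine ⟨?_, h1⟩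
          rintro rfl
          exact hasym _ _ h2 h2
      · rintro ⟨hne, h1⟩
        rcases hcomp v w (Ne.symm hne) with h | h
        · exact Or.inl ⟨h1, h⟩
        · exact Or.inr ⟨h1, h⟩
    have := Finset.card_union_of_disjoint hdisj
    rw [hunion, Finset.card_erase_of_mem hv] at this
    omega
  -- double counting arcs within O
  have hcomm : ∑ v ∈ outn G p₀ p₀.1, (outn G p₀ p₀.1 ∩ outn G p₀ v).card
      = ∑ v ∈ outn G p₀ p₀.1, ((outn G p₀ p₀.1).filter (fun w => SC G p₀ (w, v))).card := by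
    have e1 : ∀ v, outn G p₀ p₀.1 ∩ outn G p₀ v
        = (outn G p₀ p₀.1).filter (fun w => SC G p₀ (v, w)) := by
      intro v
      ext w
      rw [Finset.mem_inter, mem_outn (u := v), Finset.mem_filter]
    simp_rw [e1, Finset.card_filter]
    exact Finset.sum_comm
  set k := (outn G p₀ p₀.1).card with hk
  set lam := (outn G p₀ p₀.1 ∩ outn G p₀ p₀.2).card with hlamdef
  have hs1 : ∑ v ∈ outn G p₀ p₀.1, (outn G p₀ p₀.1 ∩ outn G p₀ v).card = k * lam :=
    Finset.sum_const_nat hlam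
  have hs2 : ∑ v ∈ outn G p₀ p₀.1, ((outn G p₀ p₀.1).filter (fun w => SC G p₀ (w, v))).card
      = k * (k - 1 - lam) := by
    apply Finset.sum_const_nat
    intro v hv
    have h1 := hsplit v hv
    have h2 := hlam v hv
    omega
  rw [hs1, hs2] at hcomm
  have hlk : lam = k - 1 - lam := Nat.eq_of_mul_eq_mul_left hkpos hcomm
  have hsp := hsplit p₀.2 hyO
  -- the two differences
  have hA := outn_sdiff_subset_Dset (G := G) p₀ p₀.1 p₀.2
  have hB : outn G p₀ p₀.2 \ outn G p₀ p₀.1 ⊆ Dset G p₀.1 p₀.2 := by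
    rw [Dset_comm]
    exact outn_sdiff_subset_Dset p₀ p₀.2 p₀.1
  have hdisj : Disjoint (outn G p₀ p₀.1 \ outn G p₀ p₀.2) (outn G p₀ p₀.2 \ outn G p₀ p₀.1) := by
    rw [Finset.disjoint_left]
    intro z hz hz'
    rw [Finset.mem_sdiff] at hz hz'
    exact hz.2 hz'.1
  have hc := Finset.card_le_card (Finset.union_subset hA hB)
  rw [Finset.card_union_of_disjoint hdisj] at hc
  have e1 := Finset.card_sdiff_add_card_inter (outn G p₀ p₀.1) (outn G p₀ p₀.2)
  have e2 := Finset.card_sdiff_add_card_inter (outn G p₀ p₀.2) (outn G p₀ p₀.1)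
  rw [Finset.inter_comm] at e2
  have e3 := card_outn_eq htr p₀ p₀.1 p₀.2
  omega

end Cfsg.Agent.Helper97.Babai
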