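import Mathlib
import Cfsg.Agent.Lib.Helper97.BabaiA
import Cfsg.Agent.Lib.Helper97.BabaiB
import Cfsg.Agent.Lib.Helper97.BabaiC

/-!
# Babai-type bound, part D: the core theorem and connectivity from primitivity
-/

set_option autoImplicit false
set_option linter.unusedSectionVars false
set_option linter.unusedVariables false

namespace Cfsg.Agent.Helper97.Babai

open Finset Classical Pointwise

variable {G : Type*} [Group G] {Ω : Type*} [MulAction G Ω] [Fintype Ω]

/-- **Core bound**: in a transitive group all of whose orbital graphs are connected and which is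
not 2-transitive, `n ≤ (2 |D(x,y)| + 1)²` for all `x ≠ y`. -/
theorem babai_core (htr : ∀ a b : Ω, ∃ g : G, g • a = b)
    (hconn : ∀ p₀ : Ω × Ω, p₀.1 ≠ p₀.2 → ∀ S : Finset Ω, S.Nonempty →
      (∀ u ∈ S, ∀ v, adj G p₀ u v → v ∈ S) → S = univ)
    (hnot2 : ∃ p1 p2 q1 q2 : Ω, p1 ≠ p2 ∧ q1 ≠ q2 ∧ ¬ SC G (p1, p2) (q1, q2))
    (x y : Ω) (hxy : x ≠ y) :
    Fintype.card Ω ≤ (2 * (Dset G x y).card + 1) ^ 2 := by
  have h0 : ((x, y) : Ω × Ω).1 ≠ ((x, y) : Ω × Ω).2 := hxy
  have hA := valency_bound htr (x, y) h0 (hconn (x, y) h0)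
  change (nb G (x, y) x).card + Fintype.card Ω
    ≤ (nb G (x, y) x).card * (Dset G x y).card + 1 at hA
  by_cases hcase : (nb G (x, y) x).card < 2 * (Dset G x y).card
  · -- small valency
    have hDpos : 1 ≤ (Dset G x y).card := Finset.card_pos.2 ⟨x, left_mem_Dset hxy⟩
    have h1 : (nb G (x, y) x).card * (Dset G x y).card
        ≤ (2 * (Dset G x y).card) * (Dset G x y).card :=
      Nat.mul_le_mul_right _ (le_of_lt hcase)
    nlinarith
  · push Not at hcase
    have hδ' : 2 * (Dset G ((x, y) : Ω × Ω).1 ((x, y) : Ω × Ω).2).card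
        ≤ (nb G (x, y) ((x, y) : Ω × Ω).1).card := hcase
    have hfar := card_far_le htr (x, y) h0 (hconn (x, y) h0) hδ' x
    change (univ.filter (fun w => w ≠ x ∧ ¬ adj G (x, y) x w)).card + 2
      ≤ (Dset G x y).card at hfar
    by_cases hW : (univ.filter (fun w => w ≠ x ∧ ¬ adj G (x, y) x w)).Nonempty
    · obtain ⟨w, hw⟩ := hW
      rw [Finset.mem_filter] at hw
      obtain ⟨-, hwx, hnadj⟩ := hw
      have hq0 : ((x, w) : Ω × Ω).1 ≠ ((x, w) : Ω × Ω).2 := Ne.symm hwx
      have hA2 := valency_bound htr (x, w) hq0 (hconn (x, w) hq0)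
      change (nb G (x, w) x).card + Fintype.card Ω
        ≤ (nb G (x, w) x).card * (Dset G x w).card + 1 at hA2
      have hsub : nb G (x, w) x ⊆ univ.filter (fun w => w ≠ x ∧ ¬ adj G (x, y) x w) := by
        intro v hv
        rw [mem_nb] at hv
        rw [Finset.mem_filter]
        refine ⟨Finset.mem_univ _, Ne.symm (adj_ne hq0 hv), ?_⟩
        intro hxv
        apply hnadj
        rcases hv with h | h
        · exact (adj_congr h).2 hxv
        · exact (adj_congr h).2 (adj_symm hxv)
      have hc := Finset.card_le_card hsub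
      rcases dist_le_two htr (x, y) h0 (hconn (x, y) h0) hδ' x w with h | h | ⟨b, hxb, hbw⟩
      · exact absurd h hwx
      · exact absurd h hnadj
      · have ht := Finset.card_le_card (Dset_triangle (G := G) x b w)
        have ht2 := Finset.card_union_le (Dset G x b) (Dset G b w)
        have e1 : (Dset G x b).card = (Dset G x y).card := card_Dset_of_adj hxb
        have e2 : (Dset G b w).card = (Dset G x y).card := card_Dset_of_adj hbw
        have h1 : (nb G (x, w) x).card * (Dset G x w).card
            ≤ (Dset G x y).card * (2 * (Dset G x y).card) :=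
          Nat.mul_le_mul (by omega) (by omega)
        nlinarith
    · -- complete case
      exfalso
      rw [Finset.not_nonempty_iff_eq_empty] at hW
      have hcompx : ∀ w, w ≠ x → adj G (x, y) x w := by
        intro w hw
        by_contra hc
        have : w ∈ univ.filter (fun w => w ≠ x ∧ ¬ adj G (x, y) x w) :=
          Finset.mem_filter.2 ⟨Finset.mem_univ _, hw, hc⟩
        rw [hW] at this
        exact absurd this (Finset.notMem_empty _)
      have hcomp : ∀ u v : Ω, u ≠ v → SC G (x, y) (u, v) ∨ SC G (x, y) (v, u) := by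
        intro u v huv
        obtain ⟨g, hg⟩ := htr u x
        have h1 : adj G (x, y) (g • u) (g • v) := by
          rw [hg]
          exact hcompx _ (by rw [← hg]; exact fun e => huv (MulAction.injective g e).symm)
        exact (adj_smul g).1 h1
      have hnyx : ¬ SC G (x, y) (y, x) := by
        intro hyx
        obtain ⟨p1, p2, q1, q2, hp, hq, hpq⟩ := hnot2
        have hall : ∀ a b : Ω, a ≠ b → SC G (x, y) (a, b) := by
          intro a b hab
          rcases hcomp a b hab with h | h
          · exact h
          · exact hyx.trans (SC.swap h)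
        exact hpq ((hall p1 p2 hp).symm.trans (hall q1 q2 hq))
      have hasym : ∀ u v : Ω, SC G (x, y) (u, v) → ¬ SC G (x, y) (v, u) := by
        intro u v h1 h2
        exact hnyx (h1.trans (SC.swap h2).symm)
      have hT1 := tour_bound htr (x, y) h0 hcomp hasym
      have hcomp' : ∀ u v : Ω, u ≠ v → SC G (y, x) (u, v) ∨ SC G (y, x) (v, u) := by
        intro u v huv
        rcases hcomp u v huv with h | h
        · exact Or.inr (SC.swap h)
        · exact Or.inl (SC.swap h)
      have hasym' : ∀ u v : Ω, SC G (y, x) (u, v) → ¬ SC G (y, x) (v, u) := by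
        intro u v h1 h2
        exact hasym v u (SC.swap h1) (SC.swap h2)
      have hT2 := tour_bound htr (y, x) (Ne.symm hxy) hcomp' hasym'
      change (outn G (y, x) y).card + 1 ≤ (Dset G y x).card at hT2
      rw [Dset_comm, card_outn_eq htr (y, x) y x] at hT2
      change (outn G (x, y) x).card + 1 ≤ (Dset G x y).card at hT1
      have hsub : nb G (x, y) x ⊆ outn G (x, y) x ∪ outn G (y, x) x := by
        intro v hv
        rw [mem_nb] at hv
        rw [Finset.mem_union, mem_outn, mem_outn]
        rcases hv with h | h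
        · exact Or.inl h
        · exact Or.inr (SC.swap h)
      have hc := Finset.card_le_card hsub
      have hc2 := Finset.card_union_le (outn G (x, y) x) (outn G (y, x) x)
      omega

/-- orbital graphs of a primitive group are connected -/
theorem hconn_of_isPreprimitive [MulAction.IsPreprimitive G Ω] (p₀ : Ω × Ω) (h0 : p₀.1 ≠ p₀.2)
    (S : Finset Ω) (hne : S.Nonempty) (hcl : ∀ u ∈ S, ∀ v, adj G p₀ u v → v ∈ S) :
    S = univ := by
  obtain ⟨z, hz⟩ := hne
  have hinv : ∀ (g : G) (a b : Ω), Relation.ReflTransGen (adj G p₀) a b →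
      Relation.ReflTransGen (adj G p₀) (g • a) (g • b) := by
    intro g a b h
    induction h with
    | refl => exact Relation.ReflTransGen.refl
    | tail _ hbc ih => exact ih.tail ((adj_smul g).2 hbc)
  have hsymm : ∀ a b : Ω, Relation.ReflTransGen (adj G p₀) a b →
      Relation.ReflTransGen (adj G p₀) b a := by
    intro a b h
    induction h with
    | refl => exact Relation.ReflTransGen.refl
    | tail _ hbc ih => exact Relation.ReflTransGen.head (adj_symm hbc) ih
  have hblock : MulAction.IsBlock G {w : Ω | Relation.ReflTransGen (adj G p₀) z w} := by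
    rw [MulAction.isBlock_iff_smul_eq_or_disjoint]
    intro g
    by_cases hd : Disjoint (g • {w : Ω | Relation.ReflTransGen (adj G p₀) z w})
        {w : Ω | Relation.ReflTransGen (adj G p₀) z w}
    · exact Or.inr hd
    · left
      rw [Set.not_disjoint_iff] at hd
      obtain ⟨w, hw1, hw2⟩ := hd
      obtain ⟨w', hw', rfl⟩ := hw1
      have h1 : Relation.ReflTransGen (adj G p₀) (g • z) z :=
        (hinv g z w' hw').trans (hsymm _ _ hw2)
      ext v
      constructor
      · rintro ⟨v', hv', rfl⟩
        exact (hsymm _ _ h1).trans (hinv g z v' hv')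
      · intro hv
        refine ⟨g⁻¹ • v, ?_, smul_inv_smul g v⟩
        have h2 : Relation.ReflTransGen (adj G p₀) z (g⁻¹ • z) := by
          have := hinv g⁻¹ _ _ h1
          rwa [inv_smul_smul] at this
        exact h2.trans (hinv g⁻¹ z v hv)
  have htriv := MulAction.IsPreprimitive.isTrivialBlock_of_isBlock hblock
  rcases htriv with hsub | huniv
  · exfalso
    obtain ⟨g, hg⟩ := MulAction.exists_smul_eq G p₀.1 z
    have hadj : adj G p₀ z (g • p₀.2) := by
      rw [← hg, adj_smul]
      exact adj_base p₀
    have h1 : z ∈ {w : Ω | Relation.ReflTransGen (adj G p₀) z w} := Relation.ReflTransGen.refl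
    have h2 : g • p₀.2 ∈ {w : Ω | Relation.ReflTransGen (adj G p₀) z w} :=
      Relation.ReflTransGen.single hadj
    exact adj_ne h0 hadj (hsub h1 h2)
  · ext w
    simp only [Finset.mem_univ, iff_true]
    have hw : w ∈ {w : Ω | Relation.ReflTransGen (adj G p₀) z w} := by
      rw [huniv]; exact Set.mem_univ _
    have hall : ∀ w, Relation.ReflTransGen (adj G p₀) z w → w ∈ S := by
      intro w h
      induction h with
      | refl => exact hz
      | tail _ hbc ih => exact hcl _ ih _ hbc
    exact hall w hw

end Cfsg.Agent.Helper97.Babai
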