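import Mathlib

/-!
# Babai-type bound, part E: the doubly transitive counting argument
-/

set_option autoImplicit false
set_option linter.unusedSectionVars false
set_option linter.unusedVariables false

namespace Cfsg.Agent.Helper97.BabaiE

open Finset Classical

variable {G : Type*} [Group G] [Fintype G] {Ω : Type*} [MulAction G Ω] [Fintype Ω]

theorem c2_const
    (h2t : ∀ a b a' b' : Ω, a ≠ b → a' ≠ b' → ∃ g : G, g • a = a' ∧ g • b = b')
    {a b c d a' b' c' d' : Ω} (hab : a ≠ b) (hcd : c ≠ d) (hab' : a' ≠ b') (hcd' : c' ≠ d') :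
    (univ.filter (fun h : G => h • a = c ∧ h • b = d)).card
      = (univ.filter (fun h : G => h • a' = c' ∧ h • b' = d')).card := by
  obtain ⟨p, hp1, hp2⟩ := h2t a' b' a b hab' hab
  obtain ⟨q, hq1, hq2⟩ := h2t c d c' d' hcd hcd'
  apply Finset.card_bij' (fun h _ => q * h * p) (fun h _ => q⁻¹ * h * p⁻¹)
  · intro h hh
    simp only [mem_filter, mem_univ, true_and] at hh ⊢
    rw [mul_smul, mul_smul, mul_smul, mul_smul, hp1, hp2, hh.1, hh.2, hq1, hq2]
    exact ⟨rfl, rfl⟩
  · intro h hh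
    simp only [mem_filter, mem_univ, true_and] at hh ⊢
    have e1 : p⁻¹ • a = a' := by rw [← hp1, inv_smul_smul]
    have e2 : p⁻¹ • b = b' := by rw [← hp2, inv_smul_smul]
    have e3 : q⁻¹ • c' = c := by rw [← hq1, inv_smul_smul]
    have e4 : q⁻¹ • d' = d := by rw [← hq2, inv_smul_smul]
    rw [mul_smul, mul_smul, mul_smul, mul_smul, e1, e2, hh.1, hh.2, e3, e4]
    exact ⟨rfl, rfl⟩
  · intro h _; group
  · intro h _; group

theorem card_fix1 {a b : Ω} (hab : a ≠ b) (c : Ω) (s₂ : ℕ)
    (hs : ∀ c d : Ω, c ≠ d → (univ.filter (fun h : G => h • a = c ∧ h • b = d)).card = s₂) :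
    (univ.filter (fun h : G => h • a = c)).card = (Fintype.card Ω - 1) * s₂ := by
  rw [Finset.card_eq_sum_card_fiberwise (f := fun h : G => h • b) (t := univ.erase c)]
  · rw [Finset.sum_congr rfl (g := fun _ => s₂)]
    · rw [sum_const, card_erase_of_mem (mem_univ _), card_univ, smul_eq_mul]
    · intro d hd
      rw [filter_filter]
      exact hs c d (ne_of_mem_erase hd).symm
  · intro h hh
    simp only [mem_filter, mem_univ, true_and, mem_erase, and_true, coe_filter, Set.mem_setOf_eq,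
      coe_erase, coe_univ, Set.mem_diff, Set.mem_univ, Set.mem_singleton_iff] at hh ⊢
    intro e
    apply hab
    rw [← hh] at e
    exact (smul_left_cancel h e).symm

theorem two_trans_bound
    (h2t : ∀ a b a' b' : Ω, a ≠ b → a' ≠ b' → ∃ g : G, g • a = a' ∧ g • b = b')
    (Δ : Finset Ω) (hne : Δ.Nonempty)
    (hno1 : ∀ h : G, (Δ.filter (fun a => h • a ∈ Δ)).card ≠ 1) :
    Fintype.card Ω - 1 ≤ (Δ.card - 1) ^ 2 := by
  obtain ⟨a₀, ha₀⟩ := hne
  have hm2 : 1 < Δ.card := by
    have h1 := hno1 1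
    simp only [one_smul] at h1
    rw [filter_true_of_mem (fun _ h => h)] at h1
    have : 0 < Δ.card := card_pos.mpr ⟨a₀, ha₀⟩
    omega
  obtain ⟨b₀, hb₀, hab₀⟩ := exists_mem_ne hm2 a₀
  set s₂ := (univ.filter (fun h : G => h • a₀ = a₀ ∧ h • b₀ = b₀)).card with hs₂
  have hs_pos : 0 < s₂ := card_pos.mpr ⟨1, by simp⟩
  have hc2 : ∀ a b c d : Ω, a ≠ b → c ≠ d →
      (univ.filter (fun h : G => h • a = c ∧ h • b = d)).card = s₂ :=
    fun a b c d hab hcd => c2_const h2t hab hcd hab₀.symm hab₀.symm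
  have hc1 : ∀ a c : Ω, (univ.filter (fun h : G => h • a = c)).card
      = (Fintype.card Ω - 1) * s₂ := by
    intro a c
    obtain ⟨b, hb⟩ : ∃ b, a ≠ b := by
      by_cases h : a = a₀
      · exact ⟨b₀, h ▸ hab₀.symm⟩
      · exact ⟨a₀, h⟩
    exact card_fix1 hb c s₂ (fun c d hcd => hc2 a b c d hb hcd)
  have hN : (univ.filter (fun h : G => h • a₀ ∈ Δ)).card
      = Δ.card * ((Fintype.card Ω - 1) * s₂) := by
    rw [Finset.card_eq_sum_card_fiberwise (f := fun h : G => h • a₀) (t := Δ)]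
    · rw [Finset.sum_congr rfl (g := fun _ => (Fintype.card Ω - 1) * s₂)]
      · rw [sum_const, smul_eq_mul]
      · intro c hc
        rw [filter_filter, ← hc1 a₀ c]
        congr 1
        ext h
        simp only [mem_filter, mem_univ, true_and, and_iff_right_iff_imp]
        intro e
        rw [e]
        exact hc
    · intro h hh
      simpa using hh
  have hpair : ∀ b, b ≠ a₀ → (univ.filter (fun h : G => h • a₀ ∈ Δ ∧ h • b ∈ Δ)).card
      = (Δ.card * Δ.card - Δ.card) * s₂ := by
    intro b hb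
    rw [Finset.card_eq_sum_card_fiberwise (f := fun h : G => (h • a₀, h • b)) (t := Δ.offDiag)]
    · rw [Finset.sum_congr rfl (g := fun _ => s₂)]
      · rw [sum_const, smul_eq_mul, offDiag_card]
      · rintro ⟨c, d⟩ hcd
        rw [mem_offDiag] at hcd
        rw [filter_filter, ← hc2 a₀ b c d hb.symm hcd.2.2]
        congr 1
        ext h
        simp only [mem_filter, mem_univ, true_and, Prod.mk.injEq, and_iff_right_iff_imp]
        rintro ⟨rfl, rfl⟩
        exact ⟨hcd.1, hcd.2.1⟩
    · intro h hh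
      simp only [coe_filter, mem_univ, true_and, Set.mem_setOf_eq, coe_offDiag, Set.mem_offDiag,
        mem_coe, mem_filter] at hh ⊢
      exact ⟨hh.1, hh.2, fun e => hb (smul_left_cancel h e).symm⟩
  have hle : (univ.filter (fun h : G => h • a₀ ∈ Δ)).card
      ≤ ∑ b ∈ Δ.erase a₀, (univ.filter (fun h : G => h • a₀ ∈ Δ ∧ h • b ∈ Δ)).card := by
    calc (univ.filter (fun h : G => h • a₀ ∈ Δ)).card
        ≤ ((Δ.erase a₀).biUnion
            (fun b => univ.filter (fun h : G => h • a₀ ∈ Δ ∧ h • b ∈ Δ))).card := by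
          apply card_le_card
          intro h hh
          simp only [mem_filter, mem_univ, true_and] at hh
          have h1 : a₀ ∈ Δ.filter (fun a => h • a ∈ Δ) := by simp [ha₀, hh]
          have h2 : 1 < (Δ.filter (fun a => h • a ∈ Δ)).card := by
            have := hno1 h
            have : 0 < (Δ.filter (fun a => h • a ∈ Δ)).card := card_pos.mpr ⟨a₀, h1⟩
            omega
          obtain ⟨b, hb, hba⟩ := exists_mem_ne h2 a₀
          rw [mem_biUnion]
          rw [mem_filter] at hb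
          exact ⟨b, mem_erase.mpr ⟨hba, hb.1⟩, by simp [hh, hb.2]⟩
      _ ≤ _ := card_biUnion_le
  rw [hN, Finset.sum_congr rfl (fun b hb => hpair b (ne_of_mem_erase hb)), sum_const,
    card_erase_of_mem ha₀, smul_eq_mul] at hle
  have hmm : Δ.card * Δ.card - Δ.card = Δ.card * (Δ.card - 1) := by
    rw [Nat.mul_sub, mul_one]
  rw [hmm] at hle
  have : Δ.card * s₂ * (Fintype.card Ω - 1) ≤ Δ.card * s₂ * ((Δ.card - 1) ^ 2) := by
    calc Δ.card * s₂ * (Fintype.card Ω - 1) = Δ.card * ((Fintype.card Ω - 1) * s₂) := by ring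
      _ ≤ (Δ.card - 1) * (Δ.card * (Δ.card - 1) * s₂) := hle
      _ = Δ.card * s₂ * ((Δ.card - 1) ^ 2) := by ring
  exact Nat.le_of_mul_le_mul_left this (by positivity)

end Cfsg.Agent.Helper97.BabaiE
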