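import Mathlib

set_option autoImplicit false

namespace Cfsg.Agent.Helper97

open Equiv MulAction
open scoped Pointwise

variable {Ω : Type*} [DecidableEq Ω]

/-- The 3-cycle `a → b → c → a`. -/
def c3 (a b c : Ω) : Perm Ω := swap a b * swap b c

theorem c3_a {a b c : Ω} (hab : a ≠ b) (hac : a ≠ c) : c3 a b c a = b := by
  simp [c3, swap_apply_of_ne_of_ne hab hac]

theorem c3_b {a b c : Ω} (hbc : b ≠ c) (hac : a ≠ c) : c3 a b c b = c := by
  simp [c3, swap_apply_of_ne_of_ne hac.symm hbc.symm]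

theorem c3_c {a b c : Ω} : c3 a b c c = a := by
  simp [c3]

theorem c3_of_ne {a b c x : Ω} (hxa : x ≠ a) (hxb : x ≠ b) (hxc : x ≠ c) : c3 a b c x = x := by
  simp [c3, swap_apply_of_ne_of_ne hxb hxc, swap_apply_of_ne_of_ne hxa hxb]

theorem c3_conj (g : Perm Ω) (a b c : Ω) : g * c3 a b c * g⁻¹ = c3 (g a) (g b) (g c) := by
  unfold c3
  rw [swap_apply_apply, swap_apply_apply]
  group

theorem c3_inv (a b c : Ω) : (c3 a b c)⁻¹ = c3 c b a := by
  unfold c3
  rw [mul_inv_rev, swap_inv, swap_inv, swap_comm b c, swap_comm a b]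

theorem c3_rot {a b c : Ω} (hab : a ≠ b) (hac : a ≠ c) : c3 a b c = c3 b c a := by
  unfold c3
  have h := swap_mul_swap_mul_swap (x := a) (y := b) (z := c) hab hac
  have h2 : swap b c * (swap b c * swap a b * swap b c) = swap b c * swap c a := by rw [h]
  rw [← h2]
  simp [mul_assoc]

theorem c3_sign [Fintype Ω] {a b c : Ω} (hab : a ≠ b) (hbc : b ≠ c) : Perm.sign (c3 a b c) = 1 := by
  simp [c3, Perm.sign_swap hab, Perm.sign_swap hbc]

theorem c3_isThreeCycle [Fintype Ω] {a b c : Ω} (hab : a ≠ b) (hac : a ≠ c) (hbc : b ≠ c) :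
    (c3 a b c).IsThreeCycle := by
  unfold c3
  rw [swap_comm a b]
  exact Perm.isThreeCycle_swap_mul_swap_same hab.symm hbc hac

/-- Two points are related if they lie in a common 3-cycle of `L`. -/
def Rel3 (L : Subgroup (Perm Ω)) (x y : Ω) : Prop := x = y ∨ ∃ z, z ≠ x ∧ z ≠ y ∧ c3 x y z ∈ L

theorem Rel3.refl (L : Subgroup (Perm Ω)) (x : Ω) : Rel3 L x x := Or.inl rfl

theorem Rel3.symm {L : Subgroup (Perm Ω)} {x y : Ω} (h : Rel3 L x y) : Rel3 L y x := by
  rcases h with rfl | ⟨z, hzx, hzy, hc⟩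
  · exact Or.inl rfl
  · by_cases hxy : x = y
    · exact Or.inl hxy.symm
    refine Or.inr ⟨z, hzy, hzx, ?_⟩
    have := L.inv_mem hc
    rw [c3_inv, c3_rot hzy hzx] at this
    exact this

theorem Rel3.smul {L : Subgroup (Perm Ω)} {x y : Ω} (h : Rel3 L x y) {l : Perm Ω} (hl : l ∈ L) :
    Rel3 L (l x) (l y) := by
  rcases h with rfl | ⟨z, hzx, hzy, hc⟩
  · exact Or.inl rfl
  · refine Or.inr ⟨l z, fun h => hzx (l.injective h), fun h => hzy (l.injective h), ?_⟩
    rw [← c3_conj]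
    exact L.mul_mem (L.mul_mem hl hc) (L.inv_mem hl)

theorem Rel3.trans {L : Subgroup (Perm Ω)} {x y w : Ω} (h1 : Rel3 L x y) (h2 : Rel3 L y w) :
    Rel3 L x w := by
  rcases h1 with rfl | ⟨z, hzx, hzy, hc1⟩
  · exact h2
  rcases h2 with rfl | ⟨z', hz'y, hz'w, hc2⟩
  · exact Or.inr ⟨z, hzx, hzy, hc1⟩
  by_cases hxw : x = w
  · exact Or.inl hxw
  by_cases hxy : x = y
  · subst hxy
    exact Or.inr ⟨z', hz'y, hz'w, hc2⟩
  by_cases hyw : y = w
  · subst hyw
    exact Or.inr ⟨z, hzx, hzy, hc1⟩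
  by_cases hzw : z = w
  · subst hzw
    -- c3 x y z ∈ L, want c3 x z ?
    refine Or.inr ⟨y, fun h => hxy h.symm, hzy.symm, ?_⟩
    have := L.inv_mem hc1
    rw [c3_inv, c3_rot hzy hzx, c3_rot (Ne.symm hxy) hzy.symm] at this
    exact this
  by_cases hz'x : z' = x
  · subst hz'x
    -- c3 y w z' ∈ L with z' = x
    refine Or.inr ⟨y, fun h => hxy h.symm, fun h => hyw h, ?_⟩
    have := L.inv_mem hc2
    rw [c3_inv] at this
    exact this
  -- general case: conjugate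
  have hx : c3 y w z' x = x := c3_of_ne hxy hxw (fun h => hz'x h.symm)
  have hy : c3 y w z' y = w := c3_a hyw (fun h => hz'y h.symm)
  have := (Rel3.smul (Or.inr ⟨z, hzx, hzy, hc1⟩ : Rel3 L x y) hc2)
  rw [hx, hy] at this
  exact this

theorem Rel3.of_mem {L : Subgroup (Perm Ω)} {a b c : Ω} (hab : a ≠ b) (hac : a ≠ c) (hbc : b ≠ c)
    (h : c3 a b c ∈ L) : Rel3 L a b ∧ Rel3 L b c ∧ Rel3 L a c := by
  have h1 : Rel3 L a b := Or.inr ⟨c, hac.symm, hbc.symm, h⟩
  have h2 : Rel3 L b c := Or.inr ⟨a, hab, hac, by rw [← c3_rot hab hac]; exact h⟩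
  exact ⟨h1, h2, h1.trans h2⟩

theorem isPreprimitive_of_rel3 (L : Subgroup (Perm Ω)) (h : ∀ x y, Rel3 L x y) :
    IsPreprimitive L Ω := by
  have htrans : IsPretransitive L Ω := ⟨fun x y => by
    rcases h x y with rfl | ⟨z, hzx, hzy, hc⟩
    · exact ⟨1, one_smul _ _⟩
    · by_cases hxy : x = y
      · exact ⟨1, by rw [one_smul]; exact hxy⟩
      · exact ⟨⟨_, hc⟩, by
          rw [Subgroup.smul_def, Perm.smul_def]
          exact c3_a hxy (fun h => hzx h.symm)⟩⟩
  refine { htrans with isTrivialBlock_of_isBlock := ?_ }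
  intro B hB
  by_cases hs : B.Subsingleton
  · exact Or.inl hs
  right
  rw [Set.not_subsingleton_iff] at hs
  obtain ⟨x, hx, y, hy, hxy⟩ := hs
  rcases h x y with hxy' | ⟨z, hzx, hzy, hc⟩
  · exact absurd hxy' hxy
  have hcx : c3 x y z x = y := c3_a hxy (fun h => hzx h.symm)
  have hcy : c3 x y z y = z := c3_b (fun h => hzy h.symm) (fun h => hzx h.symm)
  have hcB : (⟨_, hc⟩ : L) • B = B := by
    apply hB.smul_eq_of_mem hx
    rw [Subgroup.smul_def, Perm.smul_def, hcx]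
    exact hy
  have hz : z ∈ B := by
    have : (⟨_, hc⟩ : L) • y ∈ (⟨_, hc⟩ : L) • B := Set.smul_mem_smul_set hy
    rw [hcB, Subgroup.smul_def, Perm.smul_def, hcy] at this
    exact this
  rw [Set.eq_univ_iff_forall]
  by_contra hne
  simp only [not_forall] at hne
  obtain ⟨w, hw⟩ := hne
  have hxw : x ≠ w := fun h => hw (h ▸ hx)
  rcases h x w with hxw' | ⟨z', hz'x, hz'w, hc'⟩
  · exact absurd hxw' hxw
  have hc'x : c3 x w z' x = w := c3_a hxw (fun h => hz'x h.symm)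
  have hdisj : Disjoint ((⟨_, hc'⟩ : L) • B) B := by
    apply hB.disjoint_smul_of_ne
    intro heq
    have : (⟨_, hc'⟩ : L) • x ∈ (⟨_, hc'⟩ : L) • B := Set.smul_mem_smul_set hx
    rw [heq, Subgroup.smul_def, Perm.smul_def, hc'x] at this
    exact hw this
  have : ∃ p ∈ B, p ≠ x ∧ p ≠ w ∧ p ≠ z' := by
    by_cases hyz' : y = z'
    · exact ⟨z, hz, hzx, fun h => hw (h ▸ hz), fun h => hzy (h.trans hyz'.symm)⟩
    · exact ⟨y, hy, hxy.symm, fun h => hw (h ▸ hy), hyz'⟩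
  obtain ⟨p, hpB, hpx, hpw, hpz'⟩ := this
  have hfix : c3 x w z' p = p := c3_of_ne hpx hpw hpz'
  have hmem : p ∈ (⟨_, hc'⟩ : L) • B := ⟨p, hpB, hfix⟩
  exact Set.disjoint_left.mp hdisj hmem hpB

/-- If any two points lie in a common 3-cycle of `L`, then `L` contains the alternating group. -/
theorem alternatingGroup_le_of_rel3 [Fintype Ω] (L : Subgroup (Perm Ω)) (h : ∀ x y, Rel3 L x y) :
    alternatingGroup Ω ≤ L := by
  by_cases hsub : Subsingleton Ω
  · intro g _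
    have : g = 1 := Subsingleton.elim _ _
    rw [this]
    exact L.one_mem
  rw [not_subsingleton_iff_nontrivial] at hsub
  obtain ⟨x, y, hxy⟩ := hsub
  rcases h x y with hxy' | ⟨z, hzx, hzy, hc⟩
  · exact absurd hxy' hxy
  exact Perm.alternatingGroup_le_of_isPreprimitive_of_isThreeCycle_mem (isPreprimitive_of_rel3 L h)
    (c3_isThreeCycle hxy (fun h => hzx h.symm) (fun h => hzy h.symm)) hc

end Cfsg.Agent.Helper97
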