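import Mathlib
import Cfsg.Agent.Lib.Helper97.ThreeCycle

/-!
# Babai-type bound, part F: the commutator of two permutations whose supports meet in one point
-/

set_option autoImplicit false
set_option linter.unusedSectionVars false
set_option linter.unusedVariables false

namespace Cfsg.Agent.Helper97.BabaiF

open Equiv Cfsg.Agent.Helper97

variable {α : Type*} [DecidableEq α]

theorem comm_eq_c3 (x y : Perm α) (a : α) (hxa : x a ≠ a) (hya : y a ≠ a)
    (hdisj : ∀ z, x z ≠ z → y z ≠ z → z = a) :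
    x * y * x⁻¹ * y⁻¹ = c3 a (x a) (y a) := by
  have Hx : ∀ z, x z ≠ z → z ≠ a → y z = z := fun z h1 h2 => by
    by_contra h3; exact h2 (hdisj z h1 h3)
  have Hy : ∀ z, y z ≠ z → z ≠ a → x z = z := fun z h1 h2 => by
    by_contra h3; exact h2 (hdisj z h3 h1)
  have hxinv : ∀ z, x z = z → x⁻¹ z = z := fun z h => by
    rw [Perm.inv_eq_iff_eq]; exact h.symm
  have hyinv : ∀ z, y z = z → y⁻¹ z = z := fun z h => by
    rw [Perm.inv_eq_iff_eq]; exact h.symm
  have hxya : x a ≠ y a := by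
    intro e
    have h1 : x (x a) ≠ x a := fun h => hxa (x.injective h)
    have h2 := Hx (x a) h1 hxa
    rw [e] at h2
    exact hya (y.injective h2)
  have key : ∀ z, (x * y * x⁻¹ * y⁻¹) z = x (y (x⁻¹ (y⁻¹ z))) := fun z => rfl
  have hinvs : ∀ (f : Perm α) (z : α), f⁻¹ (f z) = z := fun f z => by rw [Perm.inv_eq_iff_eq]
  ext z
  rw [key]
  by_cases hza : z = a
  · rw [hza, c3_a (Ne.symm hxa) (Ne.symm hya)]
    obtain ⟨w, hw⟩ := y.surjective a
    have hwa : w ≠ a := by
      intro e; rw [e] at hw; exact hya hw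
    have hyw : y w ≠ w := by
      rw [hw]; exact Ne.symm hwa
    have hxw : x w = w := Hy w hyw hwa
    have e1 : y⁻¹ a = w := by rw [Perm.inv_eq_iff_eq]; exact hw.symm
    rw [e1, hxinv w hxw, hw]
  by_cases hzx : z = x a
  · rw [hzx, c3_b hxya (Ne.symm hya)]
    have h1 : x (x a) ≠ x a := fun h => hxa (x.injective h)
    have h2 := Hx (x a) h1 hxa
    rw [hyinv _ h2, hinvs]
    exact Hy (y a) (fun h => hya (y.injective h)) hya
  by_cases hzy : z = y a
  · rw [hzy, c3_c, hinvs]
    obtain ⟨v, hv⟩ := x.surjective a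
    have hva : v ≠ a := by
      intro e; rw [e] at hv; exact hxa hv
    have hxv : x v ≠ v := by
      rw [hv]; exact Ne.symm hva
    have e1 : x⁻¹ a = v := by rw [Perm.inv_eq_iff_eq]; exact hv.symm
    rw [e1, Hx v hxv hva, hv]
  rw [c3_of_ne hza hzx hzy]
  obtain ⟨w, rfl⟩ := y.surjective z
  rw [hinvs]
  have hwa : w ≠ a := fun e => hzy (by rw [e])
  by_cases hyw : y w = w
  · rw [hyw] at hzx hza ⊢
    obtain ⟨v, rfl⟩ := x.surjective w
    rw [hinvs]
    have hva : v ≠ a := fun e => hzx (by rw [e])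
    by_cases hxv : x v = v
    · rw [hxv] at hyw
      rw [hyw]
    · rw [Hx v hxv hva]
  · have hxw : x w = w := Hy w hyw hwa
    rw [hxinv w hxw]
    exact Hy (y w) (fun h => hyw (y.injective h)) hza

theorem comm_isThreeCycle [Fintype α] (x y : Perm α) (a : α) (hxa : x a ≠ a) (hya : y a ≠ a)
    (hdisj : ∀ z, x z ≠ z → y z ≠ z → z = a) :
    (x * y * x⁻¹ * y⁻¹).IsThreeCycle := by
  rw [comm_eq_c3 x y a hxa hya hdisj]
  have Hx : ∀ z, x z ≠ z → z ≠ a → y z = z := fun z h1 h2 => by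
    by_contra h3; exact h2 (hdisj z h1 h3)
  have hxya : x a ≠ y a := by
    intro e
    have h1 : x (x a) ≠ x a := fun h => hxa (x.injective h)
    have h2 := Hx (x a) h1 hxa
    rw [e] at h2
    exact hya (y.injective h2)
  exact c3_isThreeCycle (Ne.symm hxa) (Ne.symm hya) hxya

end Cfsg.Agent.Helper97.BabaiF
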