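import Mathlib
import Cfsg.Prelude.Def_GeometricClasses
import Cfsg.Agent.Lib.Helper97.ESDefs
import Cfsg.Agent.Lib.Helper86.ESREC
import Cfsg.Agent.Lib.Helper90.ESTRANS
import Cfsg.Agent.Lib.Helper86.ESQUAD

set_option autoImplicit false

namespace Cfsg.Agent.Helper97.ESLow

open Cfsg Cfsg.Geo Cfsg.Agent.Helper97.ES
open scoped MatrixGroups

theorem cDim_lower {F : Type*} [Field F] {n : ℕ} (g : GL (Fin n) F) (c : F) :
    eDim g c * eDim g c ≤ cDim g ∧
    (g ^ 3 = 1 → c ^ 3 = 1 →
      2 * (eDim g c * eDim g c) + (n - eDim g c) * (n - eDim g c) ≤ 2 * cDim g) := by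
  set T : Module.End F (Fin n → F) := Matrix.toLin' (g : Matrix (Fin n) (Fin n) F) with hT
  have hinv : (Module.End.eigenspace T c) ≤ (Module.End.eigenspace T c).comap T := by
    intro v hv
    rw [Submodule.mem_comap]
    have hv' : T v = c • v := Module.End.mem_eigenspace_iff.mp hv
    rw [hv']
    exact (Module.End.eigenspace T c).smul_mem c hv
  set T' : Module.End F ((Fin n → F) ⧸ (Module.End.eigenspace T c)) := (Module.End.eigenspace T c).mapQ (Module.End.eigenspace T c) T hinv with hT'def
  have hT' : T' ∘ₗ (Module.End.eigenspace T c).mkQ = (Module.End.eigenspace T c).mkQ ∘ₗ T := Submodule.mapQ_mkQ (Module.End.eigenspace T c) (Module.End.eigenspace T c) T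
  have hrec := Cfsg.Agent.Helper86.ES.rec_bound T c T' hT'
  have htrans := Cfsg.Agent.Helper90.ES.cDim_eq g
  have hw : eDim g c = Module.finrank F (Module.End.eigenspace T c) := rfl
  rw [← hT] at htrans
  refine ⟨by rw [hw, htrans]; omega, ?_⟩
  intro hg3 hc3
  -- T ^ 3 = 1
  have hT3 : T * T * T = 1 := by
    have h1 : ((g ^ 3 : GL (Fin n) F) : Matrix (Fin n) (Fin n) F) = 1 := by rw [hg3]; rfl
    rw [Units.val_pow_eq_pow_val] at h1
    have h2 : Matrix.toLin' ((g : Matrix (Fin n) (Fin n) F) ^ 3) = 1 := by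
      rw [h1, Matrix.toLin'_one]; rfl
    rw [pow_succ, pow_succ, pow_one, Matrix.toLin'_mul, Matrix.toLin'_mul] at h2
    exact h2
  -- the quadratic relation on the quotient
  have hquad : T' * T' + c • T' + (c ^ 2) • (1 : Module.End F ((Fin n → F) ⧸ (Module.End.eigenspace T c))) = 0 := by
    apply LinearMap.ext
    intro q
    obtain ⟨v, rfl⟩ := (Module.End.eigenspace T c).mkQ_surjective q
    have hTq : ∀ u, T' ((Module.End.eigenspace T c).mkQ u) = (Module.End.eigenspace T c).mkQ (T u) := fun u => by
      have := congrArg (fun f => f u) hT'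
      simpa using this
    have h1 : (T' * T' + c • T' + (c ^ 2) • (1 : Module.End F ((Fin n → F) ⧸ (Module.End.eigenspace T c)))) ((Module.End.eigenspace T c).mkQ v) =
        (Module.End.eigenspace T c).mkQ (T (T v) + c • T v + c ^ 2 • v) := by
      simp only [LinearMap.add_apply, Module.End.mul_apply, LinearMap.smul_apply,
        Module.End.one_apply, hTq, map_add, map_smul]
    rw [h1, LinearMap.zero_apply]
    rw [Submodule.mkQ_apply, Submodule.Quotient.mk_eq_zero, Module.End.mem_eigenspace_iff]
    have h3 : T (T (T v)) = v := by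
      have := congrArg (fun f => f v) hT3
      simpa [Module.End.mul_apply] using this
    rw [map_add, map_add, map_smul, map_smul, h3]
    have hc3' : c * c ^ 2 = 1 := by rw [← pow_succ']; exact hc3
    rw [smul_add, smul_add, smul_smul, smul_smul, hc3', one_smul]
    rw [pow_two]
    abel
  have hq := Cfsg.Agent.Helper86.ES.quad_bound T' c (c ^ 2) hquad
  have hfq : Module.finrank F ((Fin n → F) ⧸ (Module.End.eigenspace T c)) = n - eDim g c := by
    rw [Submodule.finrank_quotient, hw]
    simp
  rw [hfq] at hq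
  rw [hw, htrans] at *
  omega

end Cfsg.Agent.Helper97.ESLow
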