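import Mathlib
import Cfsg.Prelude.Def_GeometricClasses
import Cfsg.Agent.Lib.Helper97.ESDefs
import Cfsg.Agent.Lib.Helper97.ESLow
import Cfsg.Agent.Lib.Helper90.ESMON
import Cfsg.Agent.Lib.Helper86.ESAR
import Cfsg.Agent.Lib.Helper64.ESG1
import Cfsg.Agent.Lib.Helper30.ESG2
import Cfsg.Agent.Lib.Helper66.ESG3

set_option autoImplicit false

namespace Cfsg.Agent.Helper97.ESMain

open Cfsg Cfsg.Geo Cfsg.Agent.Helper97.ES
open scoped MatrixGroups

variable {F : Type*} [Field F] [Finite F] {n r : ℕ} {R : Subgroup (GL (Fin n) F)}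

theorem eDim_le (g : GL (Fin n) F) (c : F) : eDim g c ≤ n := by
  unfold eDim
  calc Module.finrank F (Module.End.eigenspace (Matrix.toLin' (g : Matrix (Fin n) (Fin n) F)) c)
      ≤ Module.finrank F (Fin n → F) := Submodule.finrank_le _
    _ = n := by simp

/-- an eigenvalue of `g` with `g ^ k = 1` is a `k`-th root of unity -/
theorem pow_eq_one_of_eDim_ne_zero (g : GL (Fin n) F) (c : F) (k : ℕ) (hk : g ^ k = 1)
    (hw : eDim g c ≠ 0) : c ^ k = 1 := by
  unfold eDim at hw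
  have hne : Module.End.eigenspace (Matrix.toLin' (g : Matrix (Fin n) (Fin n) F)) c ≠ ⊥ := by
    intro h
    rw [h] at hw
    simp at hw
  obtain ⟨v, hv, hv0⟩ := Submodule.exists_mem_ne_zero_of_ne_bot hne
  rw [Module.End.mem_eigenspace_iff] at hv
  have hpow : ∀ m : ℕ, (Matrix.toLin' (g : Matrix (Fin n) (Fin n) F) ^ m) v = c ^ m • v := by
    intro m
    induction m with
    | zero => simp
    | succ m ih =>
      rw [pow_succ, Module.End.mul_apply, hv, map_smul, ih, smul_smul, pow_succ, mul_comm]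
  have h1 : (Matrix.toLin' (g : Matrix (Fin n) (Fin n) F)) ^ k = 1 := by
    have : ((g ^ k : GL (Fin n) F) : Matrix (Fin n) (Fin n) F) = 1 := by rw [hk]; rfl
    rw [Units.val_pow_eq_pow_val] at this
    rw [← Matrix.toLin'_pow, this, Matrix.toLin'_one]
    rfl
  have h2 := hpow k
  rw [h1, Module.End.one_apply] at h2
  have h3 : (c ^ k - 1) • v = 0 := by rw [sub_smul, one_smul, ← h2, sub_self]
  rcases smul_eq_zero.mp h3 with h | h
  · exact sub_eq_zero.mp h
  · exact absurd h hv0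

/-- upper bound for the commutant from the monomial structure -/
theorem cDim_upper (x : Fin (n * n) → Matrix (Fin n) (Fin n) F) (hx : NiceBasis R x)
    (g : GL (Fin n) F) (σ : Equiv.Perm (Fin (n * n))) (μ : Fin (n * n) → F)
    (hσ : ∀ t, conjLin g (x t) = μ t • x (σ t)) (ϖ : ℕ) (hϖ : ϖ.Prime) (hσϖ : σ ^ ϖ = 1) :
    ϖ * cDim g + (Finset.univ.filter (fun t => σ t = t)).card
        ≤ ϖ * (Finset.univ.filter (fun t => σ t = t)).card + n * n ∧
    ϖ ∣ n * n - (Finset.univ.filter (fun t => σ t = t)).card := by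
  have hcard : Fintype.card (Fin (n * n)) = Module.finrank F (Matrix (Fin n) (Fin n) F) := by
    rw [Module.finrank_matrix]
    simp
  have hne : Nonempty (Fin (n * n)) := by
    obtain ⟨t, _⟩ := hx.cover 1 (one_mem _)
    exact ⟨t⟩
  let b : Module.Basis (Fin (n * n)) F (Matrix (Fin n) (Fin n) F) :=
    basisOfLinearIndependentOfCardEqFinrank hx.li hcard
  have hb : ∀ t, b t = x t := fun t => by
    simp [b]
  have h := Cfsg.Agent.Helper90.ES.mon_bound b (conjLin g) σ μ (fun t => by rw [hb, hb]; exact hσ t) ϖ hϖ hσϖ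
  simpa [cDim] using h

theorem hard_core (S : Setup r R) (hodd : Odd r) (g : GL (Fin n) F)
    (hg : g ∈ subgroupNormalizer (HZ R)) (hnt : ¬ Triv R g) (ϖ : ℕ) (hϖ : ϖ.Prime)
    (hne : ϖ ≠ r) (h3 : 3 ≤ ϖ) (hpow : g ^ ϖ = 1) (h35 : ϖ = 3 → 5 ≤ r) (c : F) :
    2 * eDim g c ≤ n := by
  obtain ⟨x, hx⟩ := Cfsg.Agent.Helper64.ES.exists_niceBasis S
  obtain ⟨σ, μ, hσ, hσϖ⟩ := Cfsg.Agent.Helper30.ES.exists_perm S x hx g hg ϖ hpow
  obtain ⟨i, j, hi, hn, hf⟩ := Cfsg.Agent.Helper66.ES.card_fixed S x hx g hg hnt ϖ hϖ hne hpow σ μ hσ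
  obtain ⟨hN, hdiv⟩ := cDim_upper x hx g σ μ hσ ϖ hϖ hσϖ
  obtain ⟨hweak, hstrong⟩ := Cfsg.Agent.Helper97.ESLow.cDim_lower g c
  by_cases h3' : ϖ = 3
  · subst h3'
    by_cases hw0 : eDim g c = 0
    · rw [hw0]; omega
    · have hc3 : c ^ 3 = 1 := pow_eq_one_of_eDim_ne_zero g c 3 hpow hw0
      exact Cfsg.Agent.Helper86.ES.arith_three r n (eDim g c) (cDim g) _ i j S.hr (h35 rfl) hi hn hf (eDim_le g c)
        (hstrong hpow hc3) hN
  · have h5 : 5 ≤ ϖ := by
      rcases Nat.lt_or_ge ϖ 5 with h | h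
      · exfalso
        have : ϖ = 4 := by omega
        subst this
        norm_num at hϖ
      · exact h
    exact Cfsg.Agent.Helper86.ES.arith_five ϖ r n (eDim g c) (cDim g) _ i j hϖ h5 S.hr hne hodd hi hn hf hdiv hweak hN

end Cfsg.Agent.Helper97.ESMain
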