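import Mathlib
import Cfsg.Prelude.Def_GeometricClasses
import Cfsg.Agent.Lib.Helper97.ESDefs
import Cfsg.Agent.Lib.Helper97.ESMain
import Cfsg.Agent.Lib.Helper11.ESA1
import Cfsg.Agent.Lib.Helper11.ESA3
import Cfsg.Agent.Lib.Helper10.ESA4
import Cfsg.Agent.Lib.Helper30.ESA5a
import Cfsg.Agent.Lib.Helper61.ESA5b
import Cfsg.Agent.Lib.Helper25.ESA5c
import Cfsg.Agent.Lib.Helper10.ESA6


/-!
# S5877: final case split (ES lemma server, helper97)
-/

set_option autoImplicit false

namespace Cfsg.Agent.Helper97.ESFinal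

open Cfsg Cfsg.Geo Cfsg.Agent.Helper97.ES Cfsg.Agent.Helper97.ESMain
open scoped MatrixGroups

theorem main {F : Type*} [Field F] [Finite F] {n r ϖ : ℕ} (R : Subgroup (Matrix.GeneralLinearGroup (Fin n) F))
    (S : Setup r R) (g : Matrix.GeneralLinearGroup (Fin n) F)
    (hg : g ∈ Cfsg.Geo.subgroupNormalizer (R ⊔ Cfsg.Geo.scalars (Fin n) F)) (hϖ : ϖ.Prime)
    (hord : orderOf g = ϖ) (hns : g ∉ Cfsg.Geo.scalars (Fin n) F) (c : F) :
    (ϖ = 2 → 4 * eDim g c ≤ 3 * n) ∧ (ϖ = 3 → 3 * eDim g c ≤ 2 * n) ∧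
    (3 < ϖ → 2 * eDim g c ≤ n) ∧ (ϖ = 3 → ¬ 3 ∣ n → 2 * eDim g c ≤ n) := by
  have hr := S.hr
  have hr2 : 2 ≤ r := hr.two_le
  have hr4 : r ≠ 4 := by
    intro h4
    rw [h4] at hr
    norm_num at hr
  have hpow : g ^ ϖ = 1 := by rw [← hord]; exact pow_orderOf_eq_one g
  by_cases ht : Triv R g
  · have h1 := Cfsg.Agent.Helper11.ES.triv_bound S g ht hns c
    have h2 : 2 * eDim g c ≤ n := by nlinarith
    refine ⟨fun _ => by omega, fun _ => by omega, fun _ => h2, fun _ _ => h2⟩
  · have hK1 : ∀ y ∈ HZ R, y ∉ scalars (Fin n) F → ∀ c : F, r * eDim y c ≤ n :=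
      fun y hy hys c => Cfsg.Agent.Helper11.ES.hz_bound S y hy hys c
    have h2 := Cfsg.Agent.Helper11.ES.nontriv_bound S g hg ht hK1 c
    -- the half bound in the remaining cases
    have hhalf : 3 ≤ ϖ → (ϖ = 3 → r ≠ 3) → (ϖ = r → 5 ≤ r) → 2 * eDim g c ≤ n := by
      intro h3 h33 hrr
      rcases hr.eq_two_or_odd' with h | hodd
      · subst h
        have hoddϖ : Odd ϖ := by
          rcases hϖ.eq_two_or_odd' with h | h
          · omega
          · exact h
        exact Cfsg.Agent.Helper10.ES.two_bound S g hg ht ϖ hoddϖ hpow c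
      · by_cases hrϖ : ϖ = r
        · subst hrϖ
          exact Cfsg.Agent.Helper61.ES.eq_bound S (hrr rfl) g hg ht hpow hK1 (Cfsg.Agent.Helper30.ES.eq_exists S g hg ht hpow)
            (fun ρ x ζ hζ hρ hcomm e k h1 h2 hK c =>
              Cfsg.Agent.Helper25.ES.grid_bound hr (hrr rfl) g ρ x ζ hζ hpow hρ hcomm e k h1 h2 hK c) c
        · refine hard_core S hodd g hg ht ϖ hϖ hrϖ h3 hpow ?_ c
          intro h3'
          have hr3 : r ≠ 3 := h33 h3'
          have : r ≠ 4 := by
            intro h4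
            rw [h4] at hr
            norm_num at hr
          obtain ⟨k, hk⟩ := hodd
          omega
    refine ⟨?_, ?_, ?_, ?_⟩
    · intro _
      nlinarith
    · intro h3
      by_cases hr3 : 3 ≤ r
      · nlinarith
      · have hr2' : r = 2 := by omega
        have := hhalf (by omega) (fun _ => by omega) (fun h => by omega)
        omega
    · intro h3
      refine hhalf (by omega) (fun h => by omega) (fun h => by omega)
    · intro h3 hn3
      have hr3 : r ≠ 3 := by
        intro h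
        apply hn3
        have := Cfsg.Agent.Helper10.ES.dvd_dim S (by rw [h]; decide)
        rwa [h] at this
      exact hhalf (by omega) (fun _ => hr3) (fun h => by omega)

end Cfsg.Agent.Helper97.ESFinal
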