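import Mathlib
import Cfsg.Agent.Lib.Helper52.FCDefs

set_option autoImplicit false

namespace Cfsg.Agent.Helper97.FC

open Subgroup Cfsg.Agent.Helper52.FC
open scoped commutatorElement

universe u

variable {G : Type u} [Group G]

/-- the join of two `a`-invariant subgroups is `a`-invariant. -/
theorem h97_inv_sup (a : G) (N L : Subgroup G) (hN : Inv a N) (hL : Inv a L) : Inv a (N ⊔ L) := by
  intro x hx
  have h1 : (N ⊔ L).map (MulAut.conj a).toMonoidHom ≤ N ⊔ L := by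
    rw [Subgroup.map_sup]
    apply sup_le_sup
    · rintro _ ⟨n, hn, rfl⟩
      exact hN n hn
    · rintro _ ⟨n, hn, rfl⟩
      exact hL n hn
  have : (MulAut.conj a).toMonoidHom x ∈ (N ⊔ L).map (MulAut.conj a).toMonoidHom :=
    Subgroup.mem_map_of_mem _ hx
  exact h1 this

/-- `X` normalises `[X, P]`. -/
theorem h97_conj_mem_commutator (X P : Subgroup G) (x : G) (hx : x ∈ X) (y : G) (hy : y ∈ ⁅X, P⁆) :
    x * y * x⁻¹ ∈ ⁅X, P⁆ := by
  have hy' : y ∈ Subgroup.closure {g | ∃ g₁ ∈ X, ∃ g₂ ∈ P, ⁅g₁, g₂⁆ = g} := by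
    rw [← Subgroup.commutator_def]; exact hy
  clear hy
  induction hy' using Subgroup.closure_induction with
  | mem g hg =>
    obtain ⟨g₁, h₁, g₂, h₂, rfl⟩ := hg
    have e : x * ⁅g₁, g₂⁆ * x⁻¹ = ⁅x * g₁, g₂⁆ * ⁅x, g₂⁆⁻¹ := by
      simp only [commutatorElement_def]; group
    rw [e]
    exact Subgroup.mul_mem _ (Subgroup.commutator_mem_commutator (X.mul_mem hx h₁) h₂)
      (Subgroup.inv_mem _ (Subgroup.commutator_mem_commutator hx h₂))
  | one => simp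
  | mul u v _ _ hu hv =>
    have e : x * (u * v) * x⁻¹ = (x * u * x⁻¹) * (x * v * x⁻¹) := by group
    rw [e]; exact Subgroup.mul_mem _ hu hv
  | inv u _ hu =>
    have e : x * u⁻¹ * x⁻¹ = (x * u * x⁻¹)⁻¹ := by group
    rw [e]; exact Subgroup.inv_mem _ hu

/-- (S2) of helper52's FC server. -/
theorem sum_term [Finite G] {p : ℕ} {a : G} {H : Subgroup G} (mx : MCX p G a H) (N : Subgroup G) (hNH : N ≤ H) (hNn : NormBy H N)
    (hNa : Inv a N) (hNab : Ab N) (h : G) (hh : h ∈ H) (hne : N ⊔ Lh a h ≠ H) : Fix a ⊓ Dh a N h ≤ star a H := by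
  have hHinv : Inv a H := mx.mc.hyp.inv
  have hLH : Lh a h ≤ H := mx.Lh_le H hHinv h hh
  have hXH : N ⊔ Lh a h ≤ H := sup_le hNH hLH
  have hXinv : Inv a (N ⊔ Lh a h) := h97_inv_sup a N (Lh a h) hNa (mx.Lh_inv h)
  have hprop := mx.proper (N ⊔ Lh a h) hXH hne hXinv
  have hcX : comm a (N ⊔ Lh a h) = ⁅N ⊔ Lh a h, zpowers a⁆ := mx.comm_eq_commutator _
  have hLc : Lh a h ≤ ⁅N ⊔ Lh a h, zpowers a⁆ := by
    have h1 := mx.Lh_comm h hh
    rw [mx.comm_eq_commutator] at h1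
    have h2 : ⁅Lh a h, zpowers a⁆ ≤ ⁅N ⊔ Lh a h, zpowers a⁆ :=
      Subgroup.commutator_mono le_sup_right le_rfl
    rw [h1] at h2
    exact h2
  have hD : Dh a N h ≤ ⁅N ⊔ Lh a h, zpowers a⁆ := by
    apply sup_le
    · exact Subgroup.commutator_mono le_sup_left le_rfl
    · rw [Subgroup.commutator_le]
      intro n hn z hz
      obtain ⟨k, rfl⟩ := Subgroup.mem_zpowers_iff.mp hz
      have e1 : (h⁻¹ * a * h) ^ k = h⁻¹ * a ^ k * h := by
        have : h⁻¹ * a * h = h⁻¹ * a * (h⁻¹)⁻¹ := by rw [inv_inv]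
        rw [this, conj_zpow, inv_inv]
      obtain ⟨i, hi⟩ : ∃ i : ℕ, a ^ i = a ^ k := by
        have h1 : a ^ k ∈ zpowers a := Subgroup.zpow_mem_zpowers a k
        rw [← mem_powers_iff_mem_zpowers] at h1
        exact Submonoid.mem_powers_iff _ _ |>.mp h1
      have hyL : h⁻¹ * (a ^ i * h * (a ^ i)⁻¹) ∈ Lh a h := Subgroup.subset_closure ⟨i, rfl⟩
      have hyC := hLc hyL
      have e2 : (h⁻¹ * a * h) ^ k = (h⁻¹ * (a ^ i * h * (a ^ i)⁻¹)) * a ^ i := by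
        rw [e1, ← hi]; group
      rw [e2]
      generalize h⁻¹ * (a ^ i * h * (a ^ i)⁻¹) = y at hyC ⊢
      have e3 : ⁅n, y * a ^ i⁆ = ⁅n, y⁆ * (y * ⁅n, a ^ i⁆ * y⁻¹) := by
        simp only [commutatorElement_def]; group
      rw [e3]
      have hnX : n ∈ N ⊔ Lh a h := (le_sup_left : N ≤ N ⊔ Lh a h) hn
      have h4 : ⁅n, y⁆ ∈ ⁅N ⊔ Lh a h, zpowers a⁆ := by
        have : ⁅n, y⁆ = (n * y * n⁻¹) * y⁻¹ := by rw [commutatorElement_def]
        rw [this]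
        exact Subgroup.mul_mem _ (h97_conj_mem_commutator _ _ n hnX y hyC) (Subgroup.inv_mem _ hyC)
      have h5 : ⁅n, a ^ i⁆ ∈ ⁅N ⊔ Lh a h, zpowers a⁆ :=
        Subgroup.commutator_mem_commutator hnX (Subgroup.pow_mem _ (Subgroup.mem_zpowers a) i)
      exact Subgroup.mul_mem _ h4
        (Subgroup.mul_mem _ (Subgroup.mul_mem _ hyC h5) (Subgroup.inv_mem _ hyC))
  intro c hc
  apply hprop
  rw [hcX]
  exact ⟨hD hc.2, hc.1⟩

end Cfsg.Agent.Helper97.FC
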