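import Mathlib
import Cfsg.Agent.Lib.Helper74.M11Defs
import Cfsg.Agent.Lib.Helper95.NormCent

/-!
# M11 lemma server (helper74): common Burnside-transfer lemma for the pieces (P2), (P5), (P6)
-/

set_option autoImplicit false

namespace Cfsg.Agent.Helper97.M11

open Cfsg.Agent.Helper74.M11

variable {G : Type*} [Group G] [Finite G]

/-- Burnside: a simple group has no Sylow subgroup `P ≠ ⊥, ⊤` with `N(P) ≤ C(P)`. -/
theorem h97_burnside_false (hs : IsSimpleGroup G) (p : ℕ) [Fact p.Prime] (P : Sylow p G)
    (hP : Subgroup.normalizer ((P : Subgroup G) : Set G) ≤ Subgroup.centralizer (P : Set G))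
    (hP1 : (P : Subgroup G) ≠ ⊥) (hPtop : (P : Subgroup G) ≠ ⊤) : False := by
  have hc := MonoidHom.ker_transferSylow_isComplement' P hP
  have hn : (MonoidHom.transferSylow P hP).ker.Normal := inferInstance
  rcases hs.eq_bot_or_eq_top_of_normal _ hn with h | h
  · rw [h] at hc
    exact hPtop (Subgroup.isComplement'_bot_left.mp hc)
  · rw [h] at hc
    exact hP1 (Subgroup.isComplement'_top_left.mp hc)

omit [Finite G] in
theorem h97_centralizer_zpowers (y : G) :
    Subgroup.centralizer ((Subgroup.zpowers y : Subgroup G) : Set G) = Cen y := by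
  ext g
  simp only [Subgroup.mem_centralizer_iff, Set.mem_singleton_iff, forall_eq, SetLike.mem_coe]
  constructor
  · intro h
    exact h y (Subgroup.mem_zpowers y)
  · intro h z hz
    obtain ⟨k, rfl⟩ := Subgroup.mem_zpowers_iff.mp hz
    exact ((Commute.zpow_left (show Commute y g from h) k)).eq

/-- the key consequence: `y` of prime order `p`, `p ∥ |G|`, `G` simple, `|G| ≠ p`:
`|N(<y>)| ≠ |C(y)|`. -/
theorem h97_card_nor_ne_card_cen (hs : IsSimpleGroup G) (p : ℕ) (hp : p.Prime) (y : G)
    (hy : orderOf y = p) (hfac : (Nat.card G).factorization p = 1) (hGp : Nat.card G ≠ p) :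
    Nat.card (Nor y) ≠ Nat.card (Cen y) := by
  intro heq
  have : Fact p.Prime := ⟨hp⟩
  have hcard : Nat.card (Subgroup.zpowers y) = p := by rw [Nat.card_zpowers, hy]
  let P : Sylow p G := Sylow.ofCard (Subgroup.zpowers y) (by rw [hcard, hfac, pow_one])
  have hPc : (P : Subgroup G) = Subgroup.zpowers y := rfl
  have hle : Cen y ≤ Nor y := by
    rw [← h97_centralizer_zpowers]
    exact Subgroup.centralizer_le_normalizer _
  have heq' : Cen y = Nor y := by
    apply Subgroup.eq_of_le_of_card_ge hle
    rw [heq]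
  apply h97_burnside_false hs p P
  · change Nor y ≤ Subgroup.centralizer ((Subgroup.zpowers y : Subgroup G) : Set G)
    rw [h97_centralizer_zpowers, heq']
  · rw [hPc]
    intro h
    rw [h, Subgroup.card_bot] at hcard
    exact hp.one_lt.ne hcard
  · rw [hPc]
    intro h
    rw [h, Subgroup.card_top] at hcard
    exact hGp hcard

/-- N/C in the `Cen/Nor` notation -/
theorem h97_nor_eq_cen_mul (p : ℕ) (hp : p.Prime) (y : G) (hy : orderOf y = p) :
    ∃ r : ℕ, r ∣ p - 1 ∧ Nat.card (Nor y) = Nat.card (Cen y) * r := by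
  have hcard : Nat.card (Subgroup.zpowers y) = p := by rw [Nat.card_zpowers, hy]
  obtain ⟨r, hr, h⟩ := Cfsg.Agent.Helper95.card_normalizer_eq_mul p hp (Subgroup.zpowers y) hcard
  rw [h97_centralizer_zpowers] at h
  exact ⟨r, hr, h⟩

theorem h97_fac11 : (7920 : ℕ).factorization 11 = 1 := by
  have : (7920 : ℕ) = 11 ^ 1 * 720 := by norm_num
  rw [this, Nat.factorization_mul (by norm_num) (by norm_num), Nat.Prime.factorization_pow (by norm_num)]
  simp [Nat.factorization_eq_zero_of_not_dvd (show ¬ 11 ∣ 720 by norm_num)]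

theorem h97_fac5 : (7920 : ℕ).factorization 5 = 1 := by
  have : (7920 : ℕ) = 5 ^ 1 * 1584 := by norm_num
  rw [this, Nat.factorization_mul (by norm_num) (by norm_num), Nat.Prime.factorization_pow (by norm_num)]
  simp [Nat.factorization_eq_zero_of_not_dvd (show ¬ 5 ∣ 1584 by norm_num)]

end Cfsg.Agent.Helper97.M11
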