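import Mathlib
import Cfsg.Agent.Lib.Helper74.M11Defs
import Cfsg.Agent.Lib.Helper97.M11Burn

/-!
# M11 lemma server (helper74): piece (P2) `eleven_local`
-/

set_option autoImplicit false

namespace Cfsg.Agent.Helper97.M11

open Cfsg.Agent.Helper74.M11

variable {G : Type*} [Group G] [Finite G]

theorem eleven_local (hs : IsSimpleGroup G) (hc : Nat.card G = 7920)
    (h144 : Nat.card (Sylow 11 G) = 144) (x : G) (hx : orderOf x = 11) :
    Nat.card (Cen x) = 11 ∧ Nat.card (Nor x) = 55 := by
  have hp : Nat.Prime 11 := by norm_num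
  have : Fact (Nat.Prime 11) := ⟨hp⟩
  have hcard : Nat.card (Subgroup.zpowers x) = 11 := by rw [Nat.card_zpowers, hx]
  let P : Sylow 11 G := Sylow.ofCard (Subgroup.zpowers x) (by rw [hcard, hc, h97_fac11, pow_one])
  have hidx : (Nor x).index = 144 := by
    rw [← h144, Sylow.card_eq_index_normalizer P]
    rfl
  have hN : Nat.card (Nor x) = 55 := by
    have h := Subgroup.card_mul_index (Nor x)
    rw [hidx, hc] at h
    omega
  refine ⟨?_, hN⟩
  obtain ⟨r, hr, h⟩ := h97_nor_eq_cen_mul 11 hp x hx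
  have hne := h97_card_nor_ne_card_cen hs 11 hp x hx (by rw [hc]; exact h97_fac11)
    (by rw [hc]; norm_num)
  rw [hN] at h hne
  have hr10 : r ∣ 10 := hr
  have hr' : r ∈ Nat.divisors 10 := Nat.mem_divisors.mpr ⟨hr10, by norm_num⟩
  have hdiv : Nat.divisors 10 = {1, 2, 5, 10} := by decide
  rw [hdiv] at hr'
  simp only [Finset.mem_insert, Finset.mem_singleton] at hr'
  rcases hr' with rfl | rfl | rfl | rfl
  · exfalso; apply hne; omega
  · omega
  · omega
  · omega

end Cfsg.Agent.Helper97.M11
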