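import Mathlib
import Cfsg.Agent.Lib.Helper74.M11Defs
import Cfsg.Agent.Lib.Helper97.M11Burn

/-!
# M11 lemma server (helper74): piece (P5) `card_normalizer_five`
-/

set_option autoImplicit false

namespace Cfsg.Agent.Helper97.M11

open Cfsg.Agent.Helper74.M11

variable {G : Type*} [Group G] [Finite G]

theorem card_normalizer_five (hs : IsSimpleGroup G) (hc : Nat.card G = 7920)
    (y : G) (hy : orderOf y = 5) (f : ℕ) (hf1 : f * (Nor y).index = 1584)
    (hf2 : ∃ r : ℕ, 143 = 11 * (f - 1) + 55 * r) :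
    Nat.card (Nor y) = 20 ∧ f = 4 := by
  have hp : Nat.Prime 5 := by norm_num
  obtain ⟨r0, hr0⟩ := hf2
  have hci := Subgroup.card_mul_index (Nor y)
  rw [hc] at hci
  -- f ∈ {4, 9, 14}
  have hf : f = 4 ∨ f = 9 ∨ f = 14 := by
    have hr3 : r0 ≤ 2 := by omega
    interval_cases r0 <;> omega
  rcases hf with rfl | rfl | rfl
  · have hidx : (Nor y).index = 396 := by omega
    rw [hidx] at hci
    exact ⟨by omega, rfl⟩
  · exfalso
    have hidx : (Nor y).index = 176 := by omega
    rw [hidx] at hci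
    have hN : Nat.card (Nor y) = 45 := by omega
    obtain ⟨r, hr, h⟩ := h97_nor_eq_cen_mul 5 hp y hy
    have hne := h97_card_nor_ne_card_cen hs 5 hp y hy (by rw [hc]; exact h97_fac5)
      (by rw [hc]; norm_num)
    rw [hN] at h hne
    have hr4 : r ∣ 4 := hr
    have hr' : r ∈ Nat.divisors 4 := Nat.mem_divisors.mpr ⟨hr4, by norm_num⟩
    have hdiv : Nat.divisors 4 = {1, 2, 4} := by decide
    rw [hdiv] at hr'
    simp only [Finset.mem_insert, Finset.mem_singleton] at hr'
    rcases hr' with rfl | rfl | rfl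
    · apply hne; omega
    · omega
    · omega
  · exfalso
    have h14 : (14 : ℕ) ∣ 1584 := ⟨_, hf1.symm⟩
    norm_num at h14

end Cfsg.Agent.Helper97.M11
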