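import Mathlib
import Cfsg.Agent.Lib.Helper74.M11Defs
import Cfsg.Agent.Lib.Helper97.M11Burn

/-!
# M11 lemma server (helper74): piece (P6) `card_centralizer_five_mem`
-/

set_option autoImplicit false

namespace Cfsg.Agent.Helper97.M11

open Cfsg.Agent.Helper74.M11

variable {G : Type*} [Group G] [Finite G]

theorem card_centralizer_five_mem (hs : IsSimpleGroup G) (hc : Nat.card G = 7920)
    (y : G) (hy : orderOf y = 5) (hN : Nat.card (Nor y) = 20) :
    Nat.card (Cen y) = 5 ∨ Nat.card (Cen y) = 10 := by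
  obtain ⟨r, hr, h⟩ := h97_nor_eq_cen_mul 5 (by norm_num) y hy
  have hne := h97_card_nor_ne_card_cen hs 5 (by norm_num) y hy (by rw [hc]; exact h97_fac5)
    (by rw [hc]; norm_num)
  rw [hN] at h hne
  have hr4 : r ∣ 4 := hr
  have hr' : r ∈ Nat.divisors 4 := Nat.mem_divisors.mpr ⟨hr4, by norm_num⟩
  have hdiv : Nat.divisors 4 = {1, 2, 4} := by decide
  rw [hdiv] at hr'
  simp only [Finset.mem_insert, Finset.mem_singleton] at hr'
  rcases hr' with rfl | rfl | rfl
  · exfalso; apply hne; omega
  · right; omega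
  · left; omega

end Cfsg.Agent.Helper97.M11
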