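import Mathlib
import Cfsg.Agent.Lib.Helper13.OrthNondeg

/-!
# Geometry of nondegenerate subspaces over a finite field of odd order

Existence lemmas (vectors of prescribed norm and prescribed inner products) inside a subspace
`N` on which the polar form of `Q` is nondegenerate.  Used for the maximality of the stabiliser
of an orthogonal decomposition.
-/

set_option autoImplicit false
set_option linter.unusedSectionVars false
set_option linter.unusedVariables false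

namespace Cfsg.Agent.Helper97.ODec

open Matrix QuadraticMap Cfsg.Geo Module
open Cfsg.Agent.S0794 Cfsg.Agent.Helper14.ReflGen Cfsg.Agent.Helper93 Cfsg.Agent.Helper43
  Cfsg.Agent.Helper13

section Geom

variable {F : Type*} [Field F] {ι : Type} [Fintype ι] [DecidableEq ι]
  (Q : QuadraticForm F (ι → F))

/-- the polar form of `Q` is nondegenerate on `N` -/
def NDS (N : Submodule F (ι → F)) : Prop :=
  ∀ y ∈ N, y ≠ 0 → ∃ z ∈ N, polar (⇑Q) z y ≠ 0

/-- the hyperplane orthogonal to `p` -/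
def perpV (p : ι → F) : Submodule F (ι → F) := LinearMap.ker (polarBilin Q p)

theorem mem_perpV (p x : ι → F) : x ∈ perpV Q p ↔ polar (⇑Q) p x = 0 := by
  unfold perpV
  rw [LinearMap.mem_ker, polarBilin_apply_apply]

variable {Q}

theorem NDS.perp (h2 : (2 : F) ≠ 0) {N : Submodule F (ι → F)} (hN : NDS Q N) {p : ι → F}
    (hp : p ∈ N) (hQp : Q p ≠ 0) : NDS Q (N ⊓ perpV Q p) := by
  rintro y ⟨hyN, hyp⟩ hy0
  rw [SetLike.mem_coe, mem_perpV] at hyp
  obtain ⟨z, hzN, hzy⟩ := hN y hyN hy0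
  obtain ⟨c, hc⟩ : ∃ c, c = polar (⇑Q) p z * (2 * Q p)⁻¹ := ⟨_, rfl⟩
  have h2Q : (2 * Q p) ≠ 0 := mul_ne_zero h2 hQp
  refine ⟨z - c • p, ⟨N.sub_mem hzN (N.smul_mem _ hp), ?_⟩, ?_⟩
  · rw [SetLike.mem_coe, mem_perpV, polar_sub_right, polar_smul_right, polar_self', hc,
      smul_eq_mul]
    field_simp
    ring
  · rw [polar_sub_left, polar_smul_left, hyp, smul_zero, sub_zero]
    exact hzy

theorem finrank_inf_perp_ge (N : Submodule F (ι → F)) (p : ι → F) :
    finrank F N ≤ finrank F (N ⊓ perpV Q p : Submodule F (ι → F)) + 1 := by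
  have h1 := finrank_ker_functional_ge ((polarBilin Q p).domRestrict N)
  have e : LinearMap.ker ((polarBilin Q p).domRestrict N)
      = Submodule.comap N.subtype (N ⊓ perpV Q p) := by
    ext x
    rw [LinearMap.mem_ker, Submodule.mem_comap, Submodule.mem_inf, mem_perpV]
    simp [LinearMap.domRestrict_apply, polarBilin_apply_apply]
  rw [e] at h1
  have e2 := (Submodule.comapSubtypeEquivOfLe (inf_le_left : N ⊓ perpV Q p ≤ N)).finrank_eq
  rw [e2] at h1
  exact h1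

theorem NDS.exists_nonsing {N : Submodule F (ι → F)} (hN : NDS Q N) {y : ι → F} (hy : y ∈ N)
    (hy0 : y ≠ 0) : ∃ b ∈ N, Q b ≠ 0 := by
  by_cases h1 : Q y ≠ 0
  · exact ⟨y, hy, h1⟩
  rw [not_not] at h1
  obtain ⟨z, hz, hzy⟩ := hN y hy hy0
  by_cases h3 : Q z ≠ 0
  · exact ⟨z, hz, h3⟩
  rw [not_not] at h3
  refine ⟨z + y, N.add_mem hz hy, ?_⟩
  rw [Q_add', h1, h3, zero_add, zero_add]
  exact hzy

theorem exists_ne_zero_of_finrank {N : Submodule F (ι → F)} (h : 1 ≤ finrank F N) :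
    ∃ y ∈ N, y ≠ 0 :=
  exists_ne_zero_of_finrank_pos N (by omega)

/-- a nondegenerate subspace of dimension at least 2 represents every nonzero value -/
theorem NDS.univ [Finite F] (h2 : (2 : F) ≠ 0) {N : Submodule F (ι → F)} (hN : NDS Q N)
    (hdim : 2 ≤ finrank F N) (c : F) : ∃ x ∈ N, Q x = c := by
  obtain ⟨y, hy, hy0⟩ := exists_ne_zero_of_finrank (N := N) (by omega)
  obtain ⟨u₁, hu₁, hQ₁⟩ := hN.exists_nonsing hy hy0
  have hY := hN.perp h2 hu₁ hQ₁
  have hYd := finrank_inf_perp_ge (Q := Q) N u₁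
  obtain ⟨y', hy', hy'0⟩ := exists_ne_zero_of_finrank (N := N ⊓ perpV Q u₁) (by omega)
  obtain ⟨u₂, hu₂, hQ₂⟩ := hY.exists_nonsing hy' hy'0
  have h12 : polar (⇑Q) u₁ u₂ = 0 := (mem_perpV Q u₁ u₂).1 hu₂.2
  obtain ⟨s, t, hst⟩ := exists_sq_add_sq_add h2 (Q u₁) (Q u₂) (-c) hQ₁ hQ₂
  refine ⟨s • u₁ + t • u₂, N.add_mem (N.smul_mem _ hu₁) (N.smul_mem _ hu₂.1), ?_⟩
  rw [Q_lin2, h12]
  linear_combination hst

theorem NDS.exists_sing [Finite F] {N : Submodule F (ι → F)} (hN : NDS Q N)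
    (hdim : 3 ≤ finrank F N) : ∃ s ∈ N, s ≠ 0 ∧ Q s = 0 := by
  obtain ⟨s', hs'0, hQs'⟩ := exists_singular (qrestrict Q N) (nondeg_restrict Q N hN) hdim
  exact ⟨s', s'.2, fun h => hs'0 (Subtype.ext h), hQs'⟩

theorem NDS.partner {N : Submodule F (ι → F)} (hN : NDS Q N) {s : ι → F} (hs : s ∈ N)
    (hs0 : s ≠ 0) (hQs : Q s = 0) : ∃ f ∈ N, Q f = 0 ∧ polar (⇑Q) s f = 1 :=
  exists_partner_in Q N hN s hs hs0 hQs

/-- (E1) a vector of `N` with prescribed norm and prescribed nonzero inner product with `z` -/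
theorem NDS.exists_norm_polar [Finite F] (h2 : (2 : F) ≠ 0) {N : Submodule F (ι → F)}
    (hN : NDS Q N) (hdim : 3 ≤ finrank F N) {z : ι → F} (hz : z ∈ N) (hz0 : z ≠ 0) (β : F)
    (hβ : β ≠ 0) (c : F) : ∃ a ∈ N, Q a = c ∧ polar (⇑Q) z a = β := by
  by_cases hQz : Q z = 0
  · obtain ⟨z', hz', hQz', hzz'⟩ := hN.partner hz hz0 hQz
    refine ⟨(c * β⁻¹) • z + β • z', N.add_mem (N.smul_mem _ hz) (N.smul_mem _ hz'), ?_, ?_⟩
    · rw [Q_lin2, hQz, hQz', hzz']
      field_simp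
      ring
    · rw [polar_add_right, polar_smul_right, polar_smul_right, hzz', polar_self', hQz]
      simp
  · have hY := hN.perp h2 hz hQz
    have hYd := finrank_inf_perp_ge (Q := Q) N z
    obtain ⟨w, hw, hQw⟩ := hY.univ h2 (by omega) (c - β * β * (4 * Q z)⁻¹)
    have hzw : polar (⇑Q) z w = 0 := (mem_perpV Q z w).1 hw.2
    have h4 : (4 : F) ≠ 0 := by
      have : (4 : F) = 2 * 2 := by norm_num
      rw [this]
      exact mul_ne_zero h2 h2
    refine ⟨(β * (2 * Q z)⁻¹) • z + w, N.add_mem (N.smul_mem _ hz) hw.1, ?_, ?_⟩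
    · rw [Q_add', Q_smul', polar_smul_left, hzw, hQw]
      field_simp
      ring
    · rw [polar_add_right, polar_smul_right, polar_self', hzw]
      simp only [smul_eq_mul]
      field_simp
      ring

/-- (E1⁰) a vector of `N` of prescribed norm orthogonal to a nonsingular `z` -/
theorem NDS.exists_norm_perp [Finite F] (h2 : (2 : F) ≠ 0) {N : Submodule F (ι → F)}
    (hN : NDS Q N) (hdim : 3 ≤ finrank F N) {z : ι → F} (hz : z ∈ N) (hQz : Q z ≠ 0) (c : F) :
    ∃ a ∈ N, polar (⇑Q) z a = 0 ∧ Q a = c := by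
  have hY := hN.perp h2 hz hQz
  have hYd := finrank_inf_perp_ge (Q := Q) N z
  obtain ⟨w, hw, hQw⟩ := hY.univ h2 (by omega) c
  exact ⟨w, hw.1, (mem_perpV Q z w).1 hw.2, hQw⟩

theorem exists_sq_ne_one [Fintype F] (hq : 5 ≤ Fintype.card F) : ∃ l : F, l ≠ 0 ∧ l * l ≠ 1 := by
  classical
  by_contra hcon
  push Not at hcon
  have h1 : (Finset.univ : Finset F) ⊆ {0, 1, -1} := by
    intro x _
    by_cases hx : x = 0
    · simp [hx]
    · have h3 := hcon x hx
      have h4 : (x - 1) * (x + 1) = 0 := by linear_combination h3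
      rcases mul_eq_zero.1 h4 with h5 | h5
      · have : x = 1 := by linear_combination h5
        simp [this]
      · have : x = -1 := by linear_combination h5
        simp [this]
  have h2 := Finset.card_le_card h1
  have h3 : ({0, 1, -1} : Finset F).card ≤ 3 := Finset.card_le_three
  rw [Finset.card_univ] at h2
  omega

theorem exists_ne_ne (h2 : (2 : F) ≠ 0) (f : F) : ∃ v : F, v ≠ 0 ∧ v ≠ f := by
  by_cases hf : f = 1
  · refine ⟨-1, by simp, ?_⟩
    rw [hf]
    intro h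
    apply h2
    linear_combination -h
  · exact ⟨1, one_ne_zero, fun h => hf h.symm⟩

/-- a nonsingular vector whose norm avoids a given value -/
theorem NDS.exists_avoid [Fintype F] (h2 : (2 : F) ≠ 0) {Z : Submodule F (ι → F)}
    (hZ : NDS Q Z) (hne : ∃ y ∈ Z, y ≠ 0)
    (hqk : 5 ≤ Fintype.card F ∨ 2 ≤ finrank F Z) (f : F) :
    ∃ u ∈ Z, Q u ≠ 0 ∧ Q u ≠ f := by
  rcases hqk with hq | hk
  · obtain ⟨y, hy, hy0⟩ := hne
    obtain ⟨u₀, hu₀, hQ₀⟩ := hZ.exists_nonsing hy hy0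
    by_cases hf : Q u₀ = f
    · obtain ⟨l, hl0, hl1⟩ := exists_sq_ne_one hq
      refine ⟨l • u₀, Z.smul_mem _ hu₀, ?_, ?_⟩
      · rw [Q_smul']
        exact mul_ne_zero (mul_ne_zero hl0 hl0) hQ₀
      · rw [Q_smul', ← hf]
        intro h
        apply hl1
        have h3 : (l * l - 1) * Q u₀ = 0 := by linear_combination h
        rcases mul_eq_zero.1 h3 with h4 | h4
        · linear_combination h4
        · exact absurd h4 hQ₀
    · exact ⟨u₀, hu₀, hQ₀, hf⟩
  · obtain ⟨v, hv0, hvf⟩ := exists_ne_ne h2 f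
    obtain ⟨u, hu, hQu⟩ := hZ.univ h2 hk v
    exact ⟨u, hu, by rw [hQu]; exact hv0, by rw [hQu]; exact hvf⟩

/-- (W0) a nonsingular vector of `N` orthogonal to two orthogonal nonsingular vectors, with norm
avoiding a given value -/
theorem NDS.exists_perp2_avoid [Fintype F] (h2 : (2 : F) ≠ 0) {N : Submodule F (ι → F)}
    (hN : NDS Q N) (hdim : 3 ≤ finrank F N)
    (hqk : 5 ≤ Fintype.card F ∨ 5 ≤ finrank F N) {a b : ι → F} (ha : a ∈ N) (hb : b ∈ N)
    (hQa : Q a ≠ 0) (hQb : Q b ≠ 0) (hab : polar (⇑Q) a b = 0) (f : F) :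
    ∃ w ∈ N, polar (⇑Q) a w = 0 ∧ polar (⇑Q) b w = 0 ∧ Q w ≠ 0 ∧ Q w ≠ f := by
  have hY := hN.perp h2 ha hQa
  have hbY : b ∈ N ⊓ perpV Q a := ⟨hb, (mem_perpV Q a b).2 hab⟩
  have hZ := hY.perp h2 hbY hQb
  have hd1 := finrank_inf_perp_ge (Q := Q) N a
  have hd2 := finrank_inf_perp_ge (Q := Q) (N ⊓ perpV Q a) b
  have hne : ∃ y ∈ (N ⊓ perpV Q a) ⊓ perpV Q b, y ≠ 0 :=
    exists_ne_zero_of_finrank (by omega)
  have hqk' : 5 ≤ Fintype.card F ∨
      2 ≤ finrank F ((N ⊓ perpV Q a) ⊓ perpV Q b : Submodule F (ι → F)) := by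
    rcases hqk with h | h
    · exact Or.inl h
    · exact Or.inr (by omega)
  obtain ⟨w, hw, hQw, hwf⟩ := hZ.exists_avoid h2 hne hqk' f
  exact ⟨w, hw.1.1, (mem_perpV Q a w).1 hw.1.2, (mem_perpV Q b w).1 hw.2, hQw, hwf⟩

/-- (T⊥) a nonsingular vector of `N` orthogonal to a singular vector, with norm avoiding a given
value -/
theorem NDS.exists_perp_sing_avoid [Fintype F] (h2 : (2 : F) ≠ 0) {N : Submodule F (ι → F)}
    (hN : NDS Q N) (hdim : 3 ≤ finrank F N)
    (hqk : 5 ≤ Fintype.card F ∨ 5 ≤ finrank F N) {t : ι → F} (ht : t ∈ N) (ht0 : t ≠ 0)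
    (hQt : Q t = 0) (f : F) :
    ∃ u ∈ N, polar (⇑Q) t u = 0 ∧ Q u ≠ 0 ∧ Q u ≠ f := by
  obtain ⟨t', ht', hQt', htt'⟩ := hN.partner ht ht0 hQt
  have hQa : Q (t + t') = 1 := by rw [Q_add', hQt, hQt', htt']; ring
  have hQb : Q (t - t') = -1 := by rw [Q_sub, hQt, hQt', htt']; ring
  have hab : polar (⇑Q) (t + t') (t - t') = 0 := by
    rw [polar_add_left, polar_sub_right, polar_sub_right, polar_self', polar_self', hQt, hQt',
      polar_comm (⇑Q) t' t, htt']
    ring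
  obtain ⟨u, hu, h1, h3, hQu, huf⟩ := hN.exists_perp2_avoid h2 hdim hqk (N.add_mem ht ht')
    (N.sub_mem ht ht') (by rw [hQa]; exact one_ne_zero) (by rw [hQb]; simp) hab f
  refine ⟨u, hu, ?_, hQu, huf⟩
  rw [polar_add_left] at h1
  rw [polar_sub_left] at h3
  have h4 : 2 * polar (⇑Q) t u = 0 := by linear_combination h1 + h3
  exact (mul_eq_zero.1 h4).resolve_left h2

/-- (P2') two independent vectors of `N` of the same nonzero norm orthogonal to a given vector -/
theorem NDS.exists_indep_pair [Fintype F] (h2 : (2 : F) ≠ 0) {N : Submodule F (ι → F)}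
    (hN : NDS Q N) (hdim : 3 ≤ finrank F N)
    (hqk : 5 ≤ Fintype.card F ∨ 5 ≤ finrank F N) {p : ι → F} (hp : p ∈ N) :
    ∃ e : F, e ≠ 0 ∧ ∃ b' ∈ N, ∃ b'' ∈ N, Q b' = e ∧ Q b'' = e ∧ polar (⇑Q) p b' = 0 ∧
      polar (⇑Q) p b'' = 0 ∧ LinearIndependent F ![b', b''] := by
  by_cases hQp : Q p = 0
  · -- a singular nonzero `s` with `p ∈ {0, s}`
    obtain ⟨s, hs, hs0, hQs, hps⟩ : ∃ s ∈ N, s ≠ 0 ∧ Q s = 0 ∧ (p = 0 ∨ p = s) := by
      by_cases hp0 : p = 0
      · obtain ⟨s, hs, hs0, hQs⟩ := hN.exists_sing hdim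
        exact ⟨s, hs, hs0, hQs, Or.inl hp0⟩
      · exact ⟨p, hp, hp0, hQp, Or.inr rfl⟩
    obtain ⟨u, hu, hsu, hQu, -⟩ := hN.exists_perp_sing_avoid h2 hdim hqk hs hs0 hQs 0
    have hQus : Q (u + s) = Q u := by
      rw [Q_add', hQs, polar_comm (⇑Q) u s, hsu]; ring
    refine ⟨Q u, hQu, u, hu, u + s, N.add_mem hu hs, rfl, hQus, ?_, ?_, ?_⟩
    · rcases hps with h | h
      · rw [h, polar_zero_left]
      · rw [h]; exact hsu
    · rcases hps with h | h
      · rw [h, polar_zero_left]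
      · rw [h, polar_add_right, hsu, polar_self', hQs]; ring
    · rw [LinearIndependent.pair_iff]
      intro α β hαβ
      have h1 := congrArg (fun x => polar (⇑Q) x u) hαβ
      simp only [polar_add_left, polar_smul_left, polar_self', hsu, polar_zero_left,
        smul_eq_mul] at h1
      have h3 : (α + β) * (2 * Q u) = 0 := by linear_combination h1
      have h4 : α + β = 0 := (mul_eq_zero.1 h3).resolve_right (mul_ne_zero h2 hQu)
      have h5 : β • s = 0 := by
        have h6 : α = -β := by linear_combination h4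
        rw [h6] at hαβ
        have : -β • u + β • (u + s) = β • s := by module
        rw [this] at hαβ
        exact hαβ
      have hβ : β = 0 := (smul_eq_zero.1 h5).resolve_right hs0
      refine ⟨?_, hβ⟩
      rw [hβ] at h4
      linear_combination h4
  · have hY := hN.perp h2 hp hQp
    have hYd := finrank_inf_perp_ge (Q := Q) N p
    obtain ⟨y, hy, hy0⟩ := exists_ne_zero_of_finrank (N := N ⊓ perpV Q p) (by omega)
    obtain ⟨b₀, hb₀, hQb₀⟩ := hY.exists_nonsing hy hy0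
    have hY₂ := hY.perp h2 hb₀ hQb₀
    have hY₂d := finrank_inf_perp_ge (Q := Q) (N ⊓ perpV Q p) b₀
    obtain ⟨bs, l, hbs, hl0, hQbs, hQw⟩ : ∃ (bs : ι → F) (l : F),
        bs ∈ (N ⊓ perpV Q p) ⊓ perpV Q b₀ ∧ l ≠ 0 ∧ Q bs ≠ 0 ∧ Q b₀ + l * l * Q bs ≠ 0 := by
      rcases hqk with hq | hk
      · obtain ⟨y', hy', hy'0⟩ :=
          exists_ne_zero_of_finrank (N := (N ⊓ perpV Q p) ⊓ perpV Q b₀) (by omega)
        obtain ⟨bs, hbs, hQbs⟩ := hY₂.exists_nonsing hy' hy'0
        by_cases hcase : Q bs = -Q b₀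
        · obtain ⟨l, hl0, hl1⟩ := exists_sq_ne_one hq
          refine ⟨bs, l, hbs, hl0, hQbs, ?_⟩
          rw [hcase]
          intro h
          apply hl1
          have h3 : (1 - l * l) * Q b₀ = 0 := by linear_combination h
          rcases mul_eq_zero.1 h3 with h4 | h4
          · linear_combination -h4
          · exact absurd h4 hQb₀
        · refine ⟨bs, 1, hbs, one_ne_zero, hQbs, ?_⟩
          intro h
          apply hcase
          linear_combination h
      · obtain ⟨bs, hbs, hQbs⟩ := hY₂.univ h2 (by omega) (Q b₀)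
        refine ⟨bs, 1, hbs, one_ne_zero, by rw [hQbs]; exact hQb₀, ?_⟩
        rw [hQbs]
        intro h
        have h3 : 2 * Q b₀ = 0 := by linear_combination h
        exact absurd ((mul_eq_zero.1 h3).resolve_left h2) hQb₀
    have hpb₀ : polar (⇑Q) p b₀ = 0 := (mem_perpV Q p b₀).1 hb₀.2
    have hpbs : polar (⇑Q) p bs = 0 := (mem_perpV Q p bs).1 hbs.1.2
    have hb₀bs : polar (⇑Q) b₀ bs = 0 := (mem_perpV Q b₀ bs).1 hbs.2
    obtain ⟨w, hwdef⟩ : ∃ w, w = b₀ + l • bs := ⟨_, rfl⟩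
    have hwN : w ∈ N := by rw [hwdef]; exact N.add_mem hb₀.1 (N.smul_mem _ hbs.1.1)
    have hQwv : Q w = Q b₀ + l * l * Q bs := by
      rw [hwdef, Q_add', Q_smul', polar_smul_right, hb₀bs]; simp
    have hQw0 : Q w ≠ 0 := by rw [hQwv]; exact hQw
    have hwb₀ : polar (⇑Q) w b₀ = 2 * Q b₀ := by
      rw [hwdef, polar_add_left, polar_smul_left, polar_self', polar_comm (⇑Q) bs b₀, hb₀bs]
      simp
    obtain ⟨b2, hb2def⟩ : ∃ b2, b2 = Cfsg.reflectionMatrix (⇑Q) w *ᵥ b₀ := ⟨_, rfl⟩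
    have hb2 : b2 = b₀ - ((Q w)⁻¹ * (2 * Q b₀)) • w := by
      rw [hb2def, reflectionMatrix_mulVec, hwb₀]
    have hpw : polar (⇑Q) p w = 0 := by
      rw [hwdef, polar_add_right, polar_smul_right, hpb₀, hpbs]; simp
    refine ⟨Q b₀, hQb₀, b₀, hb₀.1, b2, ?_, rfl, ?_, hpb₀, ?_, ?_⟩
    · rw [hb2]
      exact N.sub_mem hb₀.1 (N.smul_mem _ hwN)
    · rw [hb2def]
      exact refl_isom Q w hQw0 b₀
    · rw [hb2, polar_sub_right, polar_smul_right, hpb₀, hpw]; simp
    · rw [LinearIndependent.pair_iff]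
      intro α β hαβ
      have h1 := congrArg (fun x => polar (⇑Q) x bs) hαβ
      simp only [polar_add_left, polar_smul_left, polar_zero_left, smul_eq_mul, hb₀bs] at h1
      have h3 : polar (⇑Q) b2 bs = -((Q w)⁻¹ * (2 * Q b₀)) * (l * (2 * Q bs)) := by
        rw [hb2, polar_sub_left, polar_smul_left, hb₀bs, hwdef, polar_add_left,
          polar_smul_left, hb₀bs, polar_self']
        simp only [smul_eq_mul]
        ring
      rw [h3] at h1
      have hne : -((Q w)⁻¹ * (2 * Q b₀)) * (l * (2 * Q bs)) ≠ 0 := by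
        apply mul_ne_zero
        · exact neg_ne_zero.2 (mul_ne_zero (inv_ne_zero hQw0) (mul_ne_zero h2 hQb₀))
        · exact mul_ne_zero hl0 (mul_ne_zero h2 hQbs)
      have hβ : β = 0 := by
        have h4 : β * (-((Q w)⁻¹ * (2 * Q b₀)) * (l * (2 * Q bs))) = 0 := by
          linear_combination h1
        exact (mul_eq_zero.1 h4).resolve_right hne
      rw [hβ, zero_smul, add_zero] at hαβ
      have hb₀0 : b₀ ≠ 0 := by
        rintro rfl
        apply hQb₀
        simp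
      exact ⟨(smul_eq_zero.1 hαβ).resolve_right hb₀0, hβ⟩

end Geom

end Cfsg.Agent.Helper97.ODec
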