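import Mathlib
import Cfsg.Agent.Lib.Helper97.ODecGeom

/-!
# Orthogonal decompositions: components and basic elements of the stabiliser
-/

set_option autoImplicit false
set_option linter.unusedSectionVars false
set_option linter.unusedVariables false

namespace Cfsg.Agent.Helper97.ODec

open Matrix QuadraticMap Cfsg.Geo Module
open Cfsg.Agent.S0794 Cfsg.Agent.Helper14.ReflGen Cfsg.Agent.Helper93 Cfsg.Agent.Helper43
  Cfsg.Agent.Helper13

section Base

variable {F : Type*} [Field F] {ι : Type} [Fintype ι] [DecidableEq ι]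
  (Q : QuadraticForm F (ι → F)) {t : ℕ} (D : Fin t → Submodule F (ι → F)) (k : ℕ)

/-- an orthogonal decomposition into nondegenerate isometric blocks of dimension `k` -/
structure Dec : Prop where
  orth : ∀ i j, i ≠ j → ∀ x ∈ D i, ∀ y ∈ D j, polar (⇑Q) x y = 0
  nd : ∀ i, NDS Q (D i)
  fr : ∀ i, finrank F (D i) = k
  indep : iSupIndep D
  top : iSup D = ⊤
  two_le : 2 ≤ t
  iso : ∀ i j, ∃ e : D i ≃ₗ[F] D j, ∀ w : D i, Q (e w : ι → F) = Q (w : ι → F)

variable {Q D k}

theorem Dec.of (hD : IsOrthogonalMDecomposition (⇑Q) k D) : Dec Q D k where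
  orth := fun i j hij x hx y hy => hD.decomp.orthogonal i j hij x hx y hy
  nd := fun i y hy hy0 => (hD.decomp.nondegenerate i y hy hy0).1
  fr := hD.decomp.decomp.finrank_eq
  indep := hD.decomp.decomp.indep
  top := hD.decomp.decomp.iSup_eq_top
  two_le := hD.decomp.decomp.two_le
  iso := hD.isometric

theorem polar_sum_left {α : Type*} (s : Finset α) (f : α → ι → F) (z : ι → F) :
    polar (⇑Q) (∑ i ∈ s, f i) z = ∑ i ∈ s, polar (⇑Q) (f i) z := by
  classical
  induction s using Finset.induction_on with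
  | empty => simp [polar_zero_left]
  | insert a s ha ih => rw [Finset.sum_insert ha, Finset.sum_insert ha, polar_add_left, ih]

theorem Q_sum_orth {α : Type*} (s : Finset α) (f : α → ι → F)
    (h : ∀ i ∈ s, ∀ j ∈ s, i ≠ j → polar (⇑Q) (f i) (f j) = 0) :
    Q (∑ i ∈ s, f i) = ∑ i ∈ s, Q (f i) := by
  classical
  induction s using Finset.induction_on with
  | empty => simp
  | insert a s ha ih =>
    rw [Finset.sum_insert ha, Finset.sum_insert ha, Q_add', ih, polar_comm, polar_sum_left]
    · have : ∑ i ∈ s, polar (⇑Q) (f i) (f a) = 0 := by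
        apply Finset.sum_eq_zero
        intro i hi
        exact h i (Finset.mem_insert_of_mem hi) a (Finset.mem_insert_self a s)
          (fun hia => ha (hia ▸ hi))
      rw [this, add_zero]
    · intro i hi j hj hij
      exact h i (Finset.mem_insert_of_mem hi) j (Finset.mem_insert_of_mem hj) hij

theorem Dec.exists_decomp (h : Dec Q D k) (x : ι → F) :
    ∃ μ : ∀ i, D i, ∑ i, (μ i : ι → F) = x := by
  have hx : x ∈ ⨆ i ∈ (Finset.univ : Finset (Fin t)), D i := by
    simp [h.top]
  exact (Submodule.mem_iSup_finset_iff_exists_sum D x).1 hx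

/-- the component of `x` in the block `D i` -/
noncomputable def Dec.cmp (h : Dec Q D k) (x : ι → F) (i : Fin t) : ι → F :=
  (Classical.choose (h.exists_decomp x) i : ι → F)

theorem Dec.cmp_mem (h : Dec Q D k) (x : ι → F) (i : Fin t) : h.cmp x i ∈ D i :=
  (Classical.choose (h.exists_decomp x) i).2

theorem Dec.sum_cmp (h : Dec Q D k) (x : ι → F) : ∑ i, h.cmp x i = x :=
  Classical.choose_spec (h.exists_decomp x)

theorem Dec.polar_fam (h : Dec Q D k) (y : Fin t → ι → F) (hy : ∀ i, y i ∈ D i) (i : Fin t)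
    (z : ι → F) (hz : z ∈ D i) : polar (⇑Q) (∑ j, y j) z = polar (⇑Q) (y i) z := by
  rw [polar_sum_left, Finset.sum_eq_single i]
  · intro j _ hji
    exact h.orth j i hji (y j) (hy j) z hz
  · intro hi
    exact absurd (Finset.mem_univ i) hi

theorem Dec.polar_cmp (h : Dec Q D k) (x : ι → F) (i : Fin t) (z : ι → F) (hz : z ∈ D i) :
    polar (⇑Q) x z = polar (⇑Q) (h.cmp x i) z := by
  conv_lhs => rw [← h.sum_cmp x]
  exact h.polar_fam _ (h.cmp_mem x) i z hz

theorem Dec.polar_cmp' (h : Dec Q D k) (x : ι → F) (i : Fin t) (z : ι → F) (hz : z ∈ D i) :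
    polar (⇑Q) z x = polar (⇑Q) z (h.cmp x i) := by
  rw [polar_comm, h.polar_cmp x i z hz, polar_comm]

theorem Dec.cmp_unique (h : Dec Q D k) (x : ι → F) (y : Fin t → ι → F) (hy : ∀ i, y i ∈ D i)
    (hs : ∑ i, y i = x) (i : Fin t) : y i = h.cmp x i := by
  by_contra hne
  have hd : y i - h.cmp x i ∈ D i := (D i).sub_mem (hy i) (h.cmp_mem x i)
  have hd0 : y i - h.cmp x i ≠ 0 := sub_ne_zero.2 hne
  obtain ⟨z, hz, hzd⟩ := h.nd i _ hd hd0
  apply hzd
  rw [polar_sub_right, polar_comm (⇑Q) z (y i), ← h.polar_fam y hy i z hz, hs,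
    polar_comm (⇑Q) z (h.cmp x i), ← h.polar_cmp x i z hz, sub_self]

theorem Dec.cmp_add (h : Dec Q D k) (x y : ι → F) (i : Fin t) :
    h.cmp (x + y) i = h.cmp x i + h.cmp y i := by
  symm
  apply h.cmp_unique (x + y) (fun j => h.cmp x j + h.cmp y j)
  · intro j
    exact (D j).add_mem (h.cmp_mem x j) (h.cmp_mem y j)
  · rw [Finset.sum_add_distrib, h.sum_cmp, h.sum_cmp]

theorem Dec.cmp_smul (h : Dec Q D k) (c : F) (x : ι → F) (i : Fin t) :
    h.cmp (c • x) i = c • h.cmp x i := by
  symm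
  apply h.cmp_unique (c • x) (fun j => c • h.cmp x j)
  · intro j
    exact (D j).smul_mem _ (h.cmp_mem x j)
  · rw [← Finset.smul_sum, h.sum_cmp]

theorem Dec.cmp_self (h : Dec Q D k) {x : ι → F} {i : Fin t} (hx : x ∈ D i) :
    h.cmp x i = x := by
  classical
  symm
  have := h.cmp_unique x (fun j => if j = i then x else 0)
    (fun j => by
      by_cases hj : j = i
      · simp only [hj, if_true]; exact hx
      · simp only [hj, if_false]; exact (D j).zero_mem)
    (by simp) i
  simpa using this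

theorem Dec.cmp_other (h : Dec Q D k) {x : ι → F} {i j : Fin t} (hx : x ∈ D i) (hji : j ≠ i) :
    h.cmp x j = 0 := by
  classical
  symm
  have := h.cmp_unique x (fun j => if j = i then x else 0)
    (fun j => by
      by_cases hj : j = i
      · simp only [hj, if_true]; exact hx
      · simp only [hj, if_false]; exact (D j).zero_mem)
    (by simp) j
  simpa [hji] using this

theorem Dec.cmp_zero (h : Dec Q D k) (i : Fin t) : h.cmp 0 i = 0 := by
  have := h.cmp_smul (0 : F) 0 i
  simpa using this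

theorem Dec.cmp_neg (h : Dec Q D k) (x : ι → F) (i : Fin t) : h.cmp (-x) i = -h.cmp x i := by
  have := h.cmp_smul (-1 : F) x i
  simpa using this

theorem Dec.cmp_sub (h : Dec Q D k) (x y : ι → F) (i : Fin t) :
    h.cmp (x - y) i = h.cmp x i - h.cmp y i := by
  rw [sub_eq_add_neg, h.cmp_add, h.cmp_neg, ← sub_eq_add_neg]

theorem Dec.Q_eq_sum (h : Dec Q D k) (x : ι → F) : Q x = ∑ i, Q (h.cmp x i) := by
  conv_lhs => rw [← h.sum_cmp x]
  apply Q_sum_orth
  intro i _ j _ hij
  exact h.orth i j hij _ (h.cmp_mem x i) _ (h.cmp_mem x j)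

theorem Dec.disjoint (h : Dec Q D k) {i j : Fin t} (hij : i ≠ j) {x : ι → F} (hi : x ∈ D i)
    (hj : x ∈ D j) : x = 0 := by
  have h1 := h.cmp_self hi
  have h3 := h.cmp_other hj hij
  rw [← h1, h3]

/-- `x` lies in one of the blocks -/
def IsBlk (D : Fin t → Submodule F (ι → F)) (x : ι → F) : Prop := ∃ i, x ∈ D i

theorem Dec.not_blk_of_two (h : Dec Q D k) {x : ι → F} {i j : Fin t} (hij : i ≠ j)
    (hi : h.cmp x i ≠ 0) (hj : h.cmp x j ≠ 0) : ¬ IsBlk D x := by
  rintro ⟨m, hm⟩
  by_cases him : i = m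
  · exact hj (h.cmp_other hm (fun hjm => hij (him.trans hjm.symm)))
  · exact hi (h.cmp_other hm him)

theorem Dec.exists_two_of_not_blk (h : Dec Q D k) {x : ι → F} (hx : ¬ IsBlk D x) :
    ∃ i j, i ≠ j ∧ h.cmp x i ≠ 0 ∧ h.cmp x j ≠ 0 := by
  by_contra hcon
  push Not at hcon
  apply hx
  by_cases hex : ∃ i, h.cmp x i ≠ 0
  · obtain ⟨i, hi⟩ := hex
    refine ⟨i, ?_⟩
    have : x = h.cmp x i := by
      conv_lhs => rw [← h.sum_cmp x]
      apply Finset.sum_eq_single i
      · intro j _ hji
        exact hcon i j (Ne.symm hji) hi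
      · intro hi'
        exact absurd (Finset.mem_univ i) hi'
    rw [this]
    exact h.cmp_mem x i
  · push Not at hex
    have : x = 0 := by
      rw [← h.sum_cmp x]
      exact Finset.sum_eq_zero (fun i _ => hex i)
    have ht := h.two_le
    refine ⟨⟨0, by omega⟩, ?_⟩
    rw [this]
    exact Submodule.zero_mem _

/-- if `g` maps every block into itself then it commutes with taking components -/
theorem Dec.cmp_map (h : Dec Q D k) (g : Matrix ι ι F) (hg : ∀ m, ∀ x ∈ D m, g *ᵥ x ∈ D m)
    (x : ι → F) (i : Fin t) : h.cmp (g *ᵥ x) i = g *ᵥ h.cmp x i := by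
  symm
  apply h.cmp_unique (g *ᵥ x) (fun j => g *ᵥ h.cmp x j)
  · intro j
    exact hg j _ (h.cmp_mem x j)
  · rw [← Matrix.mulVec_sum, h.sum_cmp]

theorem Dec.block_eq (h : Dec Q D k) {i j : Fin t} {x y : ι → F} (hx : x ∈ D i) (hy : y ∈ D j)
    (hxy : polar (⇑Q) x y ≠ 0) : i = j := by
  by_contra hne
  exact hxy (h.orth i j hne x hx y hy)

theorem Dec.card_ge (h : Dec Q D k) : t * k = Fintype.card ι := by
  classical
  have hint := DirectSum.isInternal_submodule_of_iSupIndep_of_iSup_eq_top h.indep h.top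
  have e := LinearEquiv.ofBijective (DirectSum.coeLinearMap D) hint
  have h1 := e.finrank_eq
  rw [Module.finrank_directSum] at h1
  simp only [h.fr, Finset.sum_const, Finset.card_univ, Fintype.card_fin, smul_eq_mul,
    Module.finrank_fintype_fun_eq_card] at h1
  exact h1

end Base

end Cfsg.Agent.Helper97.ODec
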