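import Mathlib
import Cfsg.Agent.Lib.Helper97.ODecBase

/-!
# Elements of the stabiliser of an orthogonal decomposition inside `Ω`
-/

set_option autoImplicit false
set_option linter.unusedSectionVars false
set_option linter.unusedVariables false

namespace Cfsg.Agent.Helper97.ODec

open Matrix QuadraticMap Cfsg.Geo Module
open Cfsg.Agent.S0794 Cfsg.Agent.Helper14.ReflGen Cfsg.Agent.Helper93 Cfsg.Agent.Helper43
  Cfsg.Agent.Helper13
open scoped commutatorElement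

section H

variable {F : Type*} [Field F] {ι : Type} [Fintype ι] [DecidableEq ι]
  {Q : QuadraticForm F (ι → F)} {t : ℕ} {D : Fin t → Submodule F (ι → F)} {k : ℕ}

theorem Dec.stab_of_perm (h : Dec Q D k) (g : GL ι F) (σ : Equiv.Perm (Fin t))
    (hg : ∀ m, ∀ x ∈ D m, (g : Matrix ι ι F) *ᵥ x ∈ D (σ m)) :
    g ∈ decompositionStabilizer D :=
  ⟨σ, fun m => map_gl_eq_of_maps g (D m) (D (σ m)) (by rw [h.fr, h.fr]) (hg m)⟩

theorem Dec.stab_of_maps (h : Dec Q D k) (g : GL ι F)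
    (hg : ∀ m, ∀ x ∈ D m, (g : Matrix ι ι F) *ᵥ x ∈ D m) :
    g ∈ decompositionStabilizer D :=
  h.stab_of_perm g 1 hg

theorem Dec.refl_maps (h : Dec Q D k) {a : ι → F} {i : Fin t} (ha : a ∈ D i) (m : Fin t)
    (x : ι → F) (hx : x ∈ D m) : Cfsg.reflectionMatrix (⇑Q) a *ᵥ x ∈ D m := by
  rw [reflectionMatrix_mulVec]
  by_cases hmi : m = i
  · subst hmi
    exact (D m).sub_mem hx ((D m).smul_mem _ ha)
  · rw [h.orth i m (Ne.symm hmi) a ha x hx, mul_zero, zero_smul, sub_zero]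
    exact hx

/-- the product of two reflections, as an element of `GL` -/
noncomputable def rr (Q : QuadraticForm F (ι → F)) (a b : ι → F) (ha : Q a ≠ 0) (hb : Q b ≠ 0) :
    GL ι F := reflGL Q a ha * reflGL Q b hb

theorem rr_val (a b : ι → F) (ha : Q a ≠ 0) (hb : Q b ≠ 0) :
    ((rr Q a b ha hb : GL ι F) : Matrix ι ι F)
      = Cfsg.reflectionMatrix (⇑Q) a * Cfsg.reflectionMatrix (⇑Q) b := rfl

theorem rr_mulVec (a b : ι → F) (ha : Q a ≠ 0) (hb : Q b ≠ 0) (x : ι → F) :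
    ((rr Q a b ha hb : GL ι F) : Matrix ι ι F) *ᵥ x
      = Cfsg.reflectionMatrix (⇑Q) a *ᵥ (Cfsg.reflectionMatrix (⇑Q) b *ᵥ x) := by
  rw [rr_val, Matrix.mulVec_mulVec]

theorem rr_isom (a b : ι → F) (ha : Q a ≠ 0) (hb : Q b ≠ 0) (x : ι → F) :
    Q (((rr Q a b ha hb : GL ι F) : Matrix ι ι F) *ᵥ x) = Q x := by
  rw [rr_mulVec, refl_isom Q a ha, refl_isom Q b hb]

theorem rr_mem_omega [Finite F] (hQ : (polarBilin Q).Nondegenerate) (hn : 5 ≤ Fintype.card ι)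
    (a b : ι → F) (ha : Q a ≠ 0) (hb : Q b ≠ 0) (hab : Q b = Q a) :
    rr Q a b ha hb ∈ omegaGL ⇑Q := by
  obtain ⟨g, hgE, hg⟩ := refl_mul_refl_mem_EG Q hQ hn a b ha hab
  have : rr Q a b ha hb = g := Units.ext (by rw [rr_val, hg])
  rw [this]
  exact EG_le_omegaGL Q hQ hn hgE

theorem Dec.rr_mem_stab (h : Dec Q D k) {a b : ι → F} {i j : Fin t} (hai : a ∈ D i)
    (hbj : b ∈ D j) (ha : Q a ≠ 0) (hb : Q b ≠ 0) :
    rr Q a b ha hb ∈ decompositionStabilizer D := by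
  apply h.stab_of_maps
  intro m x hx
  rw [rr_mulVec]
  exact h.refl_maps hai m _ (h.refl_maps hbj m x hx)

theorem Dec.rr_mem_H [Finite F] (h : Dec Q D k) (hQ : (polarBilin Q).Nondegenerate)
    (hn : 5 ≤ Fintype.card ι) {a b : ι → F} {i j : Fin t} (hai : a ∈ D i)
    (hbj : b ∈ D j) (ha : Q a ≠ 0) (hb : Q b ≠ 0) (hab : Q b = Q a) :
    rr Q a b ha hb ∈ decompositionStabilizer D ⊓ omegaGL ⇑Q :=
  ⟨h.rr_mem_stab hai hbj ha hb, rr_mem_omega hQ hn a b ha hb hab⟩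

theorem Dec.eich_mem_H (h : Dec Q D k) (hQ : (polarBilin Q).Nondegenerate)
    (hn : 5 ≤ Fintype.card ι) {s w : ι → F} {i : Fin t} (hs : s ∈ D i) (hw : w ∈ D i)
    (hQs : Q s = 0) (hsw : polar (⇑Q) s w = 0) :
    eichGL Q s w hQs hsw ∈ decompositionStabilizer D ⊓ omegaGL ⇑Q := by
  refine ⟨h.stab_of_maps _ ?_, eichGL_mem_omegaGL Q hQ hn s w hQs hsw⟩
  intro m x hx
  change eichM Q s w *ᵥ x ∈ D m
  rw [eichM_mulVec]
  by_cases hmi : m = i
  · subst hmi
    exact (D m).sub_mem ((D m).sub_mem ((D m).add_mem hx ((D m).smul_mem _ hw))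
      ((D m).smul_mem _ hs)) ((D m).smul_mem _ hs)
  · rw [h.orth i m (Ne.symm hmi) s hs x hx, h.orth i m (Ne.symm hmi) w hw x hx]
    simpa using hx

/-! ### block swaps -/

/-- the component map as a linear map into the block -/
noncomputable def Dec.cmpD (h : Dec Q D k) (i : Fin t) : (ι → F) →ₗ[F] D i where
  toFun x := ⟨h.cmp x i, h.cmp_mem x i⟩
  map_add' x y := Subtype.ext (h.cmp_add x y i)
  map_smul' c x := Subtype.ext (h.cmp_smul c x i)

theorem Dec.cmpD_coe (h : Dec Q D k) (i : Fin t) (x : ι → F) :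
    (h.cmpD i x : ι → F) = h.cmp x i := rfl

theorem Dec.cmpD_self (h : Dec Q D k) {i : Fin t} {x : ι → F} (hx : x ∈ D i) :
    h.cmpD i x = ⟨x, hx⟩ := Subtype.ext (h.cmp_self hx)

theorem Dec.cmpD_other (h : Dec Q D k) {i j : Fin t} {x : ι → F} (hx : x ∈ D i) (hji : j ≠ i) :
    h.cmpD j x = 0 := Subtype.ext (h.cmp_other hx hji)

/-- two linear maps agreeing on every block are equal -/
theorem Dec.ext_blocks (h : Dec Q D k) (f g : (ι → F) →ₗ[F] (ι → F))
    (hfg : ∀ m, ∀ x ∈ D m, f x = g x) (x : ι → F) : f x = g x := by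
  rw [← h.sum_cmp x, map_sum, map_sum]
  exact Finset.sum_congr rfl (fun m _ => hfg m _ (h.cmp_mem x m))

/-- the linear map swapping the blocks `D i` and `D j` via `e` -/
noncomputable def Dec.swapL (h : Dec Q D k) (i j : Fin t) (e : D i ≃ₗ[F] D j) :
    (ι → F) →ₗ[F] (ι → F) :=
  LinearMap.id - (D i).subtype ∘ₗ h.cmpD i - (D j).subtype ∘ₗ h.cmpD j
    + (D j).subtype ∘ₗ e.toLinearMap ∘ₗ h.cmpD i
    + (D i).subtype ∘ₗ e.symm.toLinearMap ∘ₗ h.cmpD j

theorem Dec.swapL_apply (h : Dec Q D k) (i j : Fin t) (e : D i ≃ₗ[F] D j) (x : ι → F) :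
    h.swapL i j e x = x - (h.cmpD i x : ι → F) - (h.cmpD j x : ι → F)
      + (e (h.cmpD i x) : ι → F) + (e.symm (h.cmpD j x) : ι → F) := by
  simp [Dec.swapL]

theorem Dec.swapL_left (h : Dec Q D k) {i j : Fin t} (hij : i ≠ j) (e : D i ≃ₗ[F] D j)
    {x : ι → F} (hx : x ∈ D i) : h.swapL i j e x = (e ⟨x, hx⟩ : ι → F) := by
  rw [h.swapL_apply, h.cmpD_self hx, h.cmpD_other hx (Ne.symm hij)]
  simp

theorem Dec.swapL_right (h : Dec Q D k) {i j : Fin t} (hij : i ≠ j) (e : D i ≃ₗ[F] D j)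
    {x : ι → F} (hx : x ∈ D j) : h.swapL i j e x = (e.symm ⟨x, hx⟩ : ι → F) := by
  rw [h.swapL_apply, h.cmpD_self hx, h.cmpD_other hx hij]
  simp

theorem Dec.swapL_other (h : Dec Q D k) {i j m : Fin t} (hmi : m ≠ i) (hmj : m ≠ j)
    (e : D i ≃ₗ[F] D j) {x : ι → F} (hx : x ∈ D m) : h.swapL i j e x = x := by
  rw [h.swapL_apply, h.cmpD_other hx (Ne.symm hmi), h.cmpD_other hx (Ne.symm hmj)]
  simp

theorem Dec.swapL_mem (h : Dec Q D k) {i j : Fin t} (hij : i ≠ j) (e : D i ≃ₗ[F] D j)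
    (m : Fin t) {x : ι → F} (hx : x ∈ D m) : h.swapL i j e x ∈ D (Equiv.swap i j m) := by
  by_cases hmi : m = i
  · subst hmi
    rw [h.swapL_left hij e hx, Equiv.swap_apply_left]
    exact (e ⟨x, hx⟩).2
  by_cases hmj : m = j
  · subst hmj
    rw [h.swapL_right hij e hx, Equiv.swap_apply_right]
    exact (e.symm ⟨x, hx⟩).2
  rw [h.swapL_other hmi hmj e hx, Equiv.swap_apply_of_ne_of_ne hmi hmj]
  exact hx

theorem Dec.swapL_Q_block (h : Dec Q D k) {i j : Fin t} (hij : i ≠ j) (e : D i ≃ₗ[F] D j)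
    (he : ∀ w : D i, Q (e w : ι → F) = Q (w : ι → F)) (m : Fin t) {x : ι → F} (hx : x ∈ D m) :
    Q (h.swapL i j e x) = Q x := by
  by_cases hmi : m = i
  · subst hmi
    rw [h.swapL_left hij e hx, he]
  by_cases hmj : m = j
  · subst hmj
    rw [h.swapL_right hij e hx]
    have := he (e.symm ⟨x, hx⟩)
    rw [LinearEquiv.apply_symm_apply] at this
    exact this.symm
  rw [h.swapL_other hmi hmj e hx]

theorem Dec.swapL_isom (h : Dec Q D k) {i j : Fin t} (hij : i ≠ j) (e : D i ≃ₗ[F] D j)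
    (he : ∀ w : D i, Q (e w : ι → F) = Q (w : ι → F)) (x : ι → F) :
    Q (h.swapL i j e x) = Q x := by
  conv_lhs => rw [← h.sum_cmp x, map_sum]
  rw [Q_sum_orth, h.Q_eq_sum x]
  · exact Finset.sum_congr rfl (fun m _ => h.swapL_Q_block hij e he m (h.cmp_mem x m))
  · intro m _ m' _ hmm'
    exact h.orth _ _ (fun hσ => hmm' ((Equiv.swap i j).injective hσ)) _
      (h.swapL_mem hij e m (h.cmp_mem x m)) _ (h.swapL_mem hij e m' (h.cmp_mem x m'))

theorem Dec.swapL_swapL (h : Dec Q D k) {i j : Fin t} (hij : i ≠ j) (e : D i ≃ₗ[F] D j)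
    (x : ι → F) : h.swapL i j e (h.swapL i j e x) = x := by
  have := h.ext_blocks ((h.swapL i j e) ∘ₗ (h.swapL i j e)) LinearMap.id ?_ x
  · simpa using this
  intro m y hy
  rw [LinearMap.comp_apply, LinearMap.id_apply]
  by_cases hmi : m = i
  · subst hmi
    rw [h.swapL_left hij e hy, h.swapL_right hij e (e ⟨y, hy⟩).2]
    simp
  by_cases hmj : m = j
  · subst hmj
    rw [h.swapL_right hij e hy, h.swapL_left hij e (e.symm ⟨y, hy⟩).2]
    simp
  rw [h.swapL_other hmi hmj e hy, h.swapL_other hmi hmj e hy]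

/-- block swap as an element of `GL` -/
theorem Dec.exists_swap (h : Dec Q D k) {i j : Fin t} (hij : i ≠ j) :
    ∃ G : GL ι F, (∀ x, Q ((G : Matrix ι ι F) *ᵥ x) = Q x) ∧ G * G = 1 ∧
      ∀ m, ∀ x ∈ D m, (G : Matrix ι ι F) *ᵥ x ∈ D (Equiv.swap i j m) := by
  obtain ⟨e, he⟩ := h.iso i j
  have hSS : (h.swapL i j e) ∘ₗ (h.swapL i j e) = LinearMap.id := by
    apply LinearMap.ext
    intro x
    rw [LinearMap.comp_apply, LinearMap.id_apply, h.swapL_swapL hij e]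
  obtain ⟨G, hG⟩ := Cfsg.Agent.Helper14.ReflClass.exists_GL_of_linearEquiv
    (LinearEquiv.ofLinearMap (h.swapL i j e) (h.swapL i j e) hSS hSS)
  have hG' : ∀ x, (G : Matrix ι ι F) *ᵥ x = h.swapL i j e x := fun x => by
    rw [hG]; rfl
  refine ⟨G, fun x => by rw [hG', h.swapL_isom hij e he], ?_, ?_⟩
  · apply Units.ext
    rw [Units.val_mul, Units.val_one]
    apply mat_ext_mulVec
    intro x
    rw [← Matrix.mulVec_mulVec, hG', hG', h.swapL_swapL hij e, Matrix.one_mulVec]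
  · intro m x hx
    rw [hG']
    exact h.swapL_mem hij e m hx

/-- a 3-cycle of blocks inside `Ω`: `D p → D q → D r` -/
theorem Dec.exists_three_cycle (h : Dec Q D k) {p q r : Fin t} (hpq : p ≠ q) (hpr : p ≠ r)
    (hqr : q ≠ r) :
    ∃ c : GL ι F, c ∈ decompositionStabilizer D ⊓ omegaGL ⇑Q ∧
      (∀ x ∈ D p, (c : Matrix ι ι F) *ᵥ x ∈ D q) ∧ (∀ x ∈ D q, (c : Matrix ι ι F) *ᵥ x ∈ D r) := by
  obtain ⟨A, hAI, hAA, hAm⟩ := h.exists_swap hpq
  obtain ⟨B, hBI, hBB, hBm⟩ := h.exists_swap hpr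
  have hAinv : A⁻¹ = A := inv_eq_of_mul_eq_one_right hAA
  have hBinv : B⁻¹ = B := inv_eq_of_mul_eq_one_right hBB
  have hAmem : A ∈ Cfsg.isometryGroup F ⇑Q := fun u _ => hAI u
  have hBmem : B ∈ Cfsg.isometryGroup F ⇑Q := fun u _ => hBI u
  have hAS : A ∈ decompositionStabilizer D := h.stab_of_perm A (Equiv.swap p q) hAm
  have hBS : B ∈ decompositionStabilizer D := h.stab_of_perm B (Equiv.swap p r) hBm
  refine ⟨A * B * A * B, ⟨?_, ?_⟩, ?_, ?_⟩
  · exact (decompositionStabilizer D).mul_mem ((decompositionStabilizer D).mul_mem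
      ((decompositionStabilizer D).mul_mem hAS hBS) hAS) hBS
  · apply mem_omegaGL_of_comm Q ⟨A, hAmem⟩ ⟨B, hBmem⟩
    rw [commutatorElement_def]
    simp only [Subgroup.coe_mul, Subgroup.coe_inv]
    rw [hAinv, hBinv]
  · intro x hx
    rw [Units.val_mul, Units.val_mul, Units.val_mul, ← Matrix.mulVec_mulVec,
      ← Matrix.mulVec_mulVec, ← Matrix.mulVec_mulVec]
    have h1 := hBm p x hx
    rw [Equiv.swap_apply_left] at h1
    have h3 := hAm r _ h1
    rw [Equiv.swap_apply_of_ne_of_ne (Ne.symm hpr) (Ne.symm hqr)] at h3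
    have h4 := hBm r _ h3
    rw [Equiv.swap_apply_right] at h4
    have h5 := hAm p _ h4
    rw [Equiv.swap_apply_left] at h5
    exact h5
  · intro x hx
    rw [Units.val_mul, Units.val_mul, Units.val_mul, ← Matrix.mulVec_mulVec,
      ← Matrix.mulVec_mulVec, ← Matrix.mulVec_mulVec]
    have h1 := hBm q x hx
    rw [Equiv.swap_apply_of_ne_of_ne (Ne.symm hpq) hqr] at h1
    have h3 := hAm q _ h1
    rw [Equiv.swap_apply_right] at h3
    have h4 := hBm p _ h3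
    rw [Equiv.swap_apply_left] at h4
    have h5 := hAm r _ h4
    rw [Equiv.swap_apply_of_ne_of_ne (Ne.symm hpr) (Ne.symm hqr)] at h5
    exact h5

end H

end Cfsg.Agent.Helper97.ODec
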