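import Mathlib
import Cfsg.Agent.Lib.Helper97.ODecH

/-!
# Classes of nonsingular vectors under `u ~ v :⇔ r_u r_v ∈ M`
-/

set_option autoImplicit false
set_option linter.unusedSectionVars false
set_option linter.unusedVariables false

namespace Cfsg.Agent.Helper97.ODec

open Matrix QuadraticMap Cfsg.Geo Module
open Cfsg.Agent.S0794 Cfsg.Agent.Helper14.ReflGen Cfsg.Agent.Helper93 Cfsg.Agent.Helper43
  Cfsg.Agent.Helper13

section Cls

variable {F : Type*} [Field F] {ι : Type} [Fintype ι] [DecidableEq ι]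
  {Q : QuadraticForm F (ι → F)} {t : ℕ} {D : Fin t → Submodule F (ι → F)} {k : ℕ}

theorem reflGL_mul_self (v : ι → F) (hv : Q v ≠ 0) : reflGL Q v hv * reflGL Q v hv = 1 :=
  Units.ext (refl_sq Q v hv)

theorem reflGL_inv (v : ι → F) (hv : Q v ≠ 0) : (reflGL Q v hv)⁻¹ = reflGL Q v hv :=
  inv_eq_of_mul_eq_one_right (reflGL_mul_self v hv)

theorem reflGL_congr {v v' : ι → F} (hv : Q v ≠ 0) (hv' : Q v' ≠ 0) (h : v = v') :
    reflGL Q v hv = reflGL Q v' hv' := by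
  subst h; rfl

theorem reflGL_mulVec (v : ι → F) (hv : Q v ≠ 0) (x : ι → F) :
    ((reflGL Q v hv : GL ι F) : Matrix ι ι F) *ᵥ x = x - ((Q v)⁻¹ * polar (⇑Q) v x) • v :=
  reflectionMatrix_mulVec Q v x

theorem reflGL_conj (g : GL ι F) (hg : ∀ x, Q ((g : Matrix ι ι F) *ᵥ x) = Q x) (v : ι → F)
    (hv : Q v ≠ 0) (hv' : Q ((g : Matrix ι ι F) *ᵥ v) ≠ 0) :
    g * reflGL Q v hv * g⁻¹ = reflGL Q ((g : Matrix ι ι F) *ᵥ v) hv' := by
  apply Units.ext
  rw [Units.val_mul, Units.val_mul]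
  have hMM' : (g : Matrix ι ι F) * ((g⁻¹ : GL ι F) : Matrix ι ι F) = 1 := by
    rw [← Units.val_mul, mul_inv_cancel, Units.val_one]
  exact Cfsg.Agent.Helper14.ReflClass.refl_conj Q _ _ hMM' hg v

theorem rr_conj (g : GL ι F) (hg : ∀ x, Q ((g : Matrix ι ι F) *ᵥ x) = Q x) (u v : ι → F)
    (hu : Q u ≠ 0) (hv : Q v ≠ 0) (hu' : Q ((g : Matrix ι ι F) *ᵥ u) ≠ 0)
    (hv' : Q ((g : Matrix ι ι F) *ᵥ v) ≠ 0) :
    g * rr Q u v hu hv * g⁻¹
      = rr Q ((g : Matrix ι ι F) *ᵥ u) ((g : Matrix ι ι F) *ᵥ v) hu' hv' := by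
  unfold rr
  rw [← reflGL_conj g hg u hu hu', ← reflGL_conj g hg v hv hv']
  group

/-- `u ~ v`: equal nonzero norms and `r_u r_v ∈ M` -/
def Rel (Q : QuadraticForm F (ι → F)) (M : Subgroup (GL ι F)) (u v : ι → F) : Prop :=
  ∃ (hu : Q u ≠ 0) (hv : Q v ≠ 0), Q v = Q u ∧ rr Q u v hu hv ∈ M

variable {M : Subgroup (GL ι F)}

theorem Rel.refl' {u : ι → F} (hu : Q u ≠ 0) : Rel Q M u u :=
  ⟨hu, hu, rfl, by unfold rr; rw [reflGL_mul_self]; exact M.one_mem⟩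

theorem Rel.symm {u v : ι → F} (h : Rel Q M u v) : Rel Q M v u := by
  obtain ⟨hu, hv, huv, hm⟩ := h
  refine ⟨hv, hu, huv.symm, ?_⟩
  have : rr Q v u hv hu = (rr Q u v hu hv)⁻¹ := by
    unfold rr
    rw [_root_.mul_inv_rev, reflGL_inv, reflGL_inv]
  rw [this]
  exact M.inv_mem hm

theorem Rel.trans {u v w : ι → F} (h1 : Rel Q M u v) (h3 : Rel Q M v w) : Rel Q M u w := by
  obtain ⟨hu, hv, huv, hm⟩ := h1
  obtain ⟨hv', hw, hvw, hm'⟩ := h3
  refine ⟨hu, hw, hvw.trans huv, ?_⟩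
  have : rr Q u w hu hw = rr Q u v hu hv * rr Q v w hv' hw := by
    unfold rr
    rw [mul_assoc, ← mul_assoc (reflGL Q v hv), reflGL_mul_self, one_mul]
  rw [this]
  exact M.mul_mem hm hm'

theorem Rel.map {u v : ι → F} (h : Rel Q M u v) (m : GL ι F) (hm : m ∈ M)
    (hmI : ∀ x, Q ((m : Matrix ι ι F) *ᵥ x) = Q x) :
    Rel Q M ((m : Matrix ι ι F) *ᵥ u) ((m : Matrix ι ι F) *ᵥ v) := by
  obtain ⟨hu, hv, huv, hr⟩ := h
  have hu' : Q ((m : Matrix ι ι F) *ᵥ u) ≠ 0 := by rw [hmI]; exact hu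
  have hv' : Q ((m : Matrix ι ι F) *ᵥ v) ≠ 0 := by rw [hmI]; exact hv
  refine ⟨hu', hv', by rw [hmI, hmI]; exact huv, ?_⟩
  rw [← rr_conj m hmI u v hu hv hu' hv']
  exact M.mul_mem (M.mul_mem hm hr) (M.inv_mem hm)

/-- the class of `b` is closed under reflections in its members -/
theorem Rel.refl_closed {b u : ι → F} (h : Rel Q M b u) :
    Rel Q M b (Cfsg.reflectionMatrix (⇑Q) u *ᵥ b) := by
  obtain ⟨hb, hu, hbu, hr⟩ := h
  have hI : ∀ x, Q (((reflGL Q u hu : GL ι F) : Matrix ι ι F) *ᵥ x) = Q x :=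
    fun x => refl_isom Q u hu x
  have hb' : Q (Cfsg.reflectionMatrix (⇑Q) u *ᵥ b) ≠ 0 := by
    rw [refl_isom Q u hu]; exact hb
  refine ⟨hb, hb', refl_isom Q u hu b, ?_⟩
  have h1 := reflGL_conj (reflGL Q u hu) hI b hb hb'
  rw [reflGL_inv] at h1
  have : rr Q b (Cfsg.reflectionMatrix (⇑Q) u *ᵥ b) hb hb' = rr Q b u hb hu * rr Q b u hb hu := by
    unfold rr
    change _ * reflGL Q (((reflGL Q u hu : GL ι F) : Matrix ι ι F) *ᵥ b) hb' = _
    rw [← h1]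
    group
  rw [this]
  exact M.mul_mem hr hr

/-- `x` lies in the class of the block vectors of norm `c` -/
def InC (Q : QuadraticForm F (ι → F)) (D : Fin t → Submodule F (ι → F))
    (M : Subgroup (GL ι F)) (c : F) (x : ι → F) : Prop :=
  ∃ a, IsBlk D a ∧ Q a = c ∧ Rel Q M a x

theorem InC.norm {c : F} {x : ι → F} (h : InC Q D M c x) : Q x = c := by
  obtain ⟨a, -, hQa, hu, hv, huv, -⟩ := h
  rw [huv, hQa]

theorem InC.ne_zero {c : F} {x : ι → F} (h : InC Q D M c x) : c ≠ 0 := by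
  obtain ⟨a, -, hQa, hu, hv, huv, -⟩ := h
  rw [← hQa]; exact hu

theorem InC.of_rel {c : F} {x y : ι → F} (h : InC Q D M c x) (hxy : Rel Q M x y) :
    InC Q D M c y := by
  obtain ⟨a, ha, hQa, hr⟩ := h
  exact ⟨a, ha, hQa, hr.trans hxy⟩

theorem InC.refl_closed {c : F} {x y : ι → F} (hx : InC Q D M c x) (hy : InC Q D M c y)
    (hblk : ∀ a b, IsBlk D a → IsBlk D b → Q a ≠ 0 → Q b = Q a → Rel Q M a b) :
    InC Q D M c (Cfsg.reflectionMatrix (⇑Q) y *ᵥ x) := by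
  obtain ⟨a, ha, hQa, hr⟩ := hx
  obtain ⟨a', ha', hQa', hr'⟩ := hy
  have h1 : Rel Q M a a' := hblk a a' ha ha' hr.1 (by rw [hQa', hQa])
  have h3 : Rel Q M x y := hr.symm.trans (h1.trans hr')
  exact ⟨a, ha, hQa, hr.trans h3.refl_closed⟩

end Cls

section LemmaS

variable {F : Type*} [Field F] [Fintype F] {ι : Type} [Fintype ι] [DecidableEq ι]
  {Q : QuadraticForm F (ι → F)} {t : ℕ} {D : Fin t → Submodule F (ι → F)} {k : ℕ}

/-- (CN) two orthogonal vectors of norm `c` of a block have a common non-orthogonal neighbour of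
norm `c` -/
theorem Dec.common_nbr (h2 : (2 : F) ≠ 0) (h : Dec Q D k) (hk : 3 ≤ k)
    (hqk : 5 ≤ Fintype.card F ∨ 5 ≤ k) {i : Fin t} {a b : ι → F} (ha : a ∈ D i) (hb : b ∈ D i)
    {c : F} (hc : c ≠ 0) (hQa : Q a = c) (hQb : Q b = c) (hab : polar (⇑Q) a b = 0) :
    ∃ b'' ∈ D i, Q b'' = c ∧ polar (⇑Q) a b'' ≠ 0 ∧ polar (⇑Q) b b'' ≠ 0 := by
  obtain ⟨w₀, hw₀, haw, hbw, hQw₀, hQw₀'⟩ := (h.nd i).exists_perp2_avoid h2
    (by rw [h.fr]; exact hk) (by rw [h.fr]; exact hqk) ha hb (by rw [hQa]; exact hc)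
    (by rw [hQb]; exact hc) hab (-(2 * c))
  obtain ⟨w, hwdef⟩ : ∃ w, w = a + b + w₀ := ⟨_, rfl⟩
  have hQw : Q w = 2 * c + Q w₀ := by
    rw [hwdef, Q_add', Q_add', hQa, hQb, hab, polar_add_left, haw, hbw]; ring
  have hQw0 : Q w ≠ 0 := by
    rw [hQw]
    intro h0
    apply hQw₀'
    linear_combination h0
  have hwa : polar (⇑Q) w a = 2 * c := by
    rw [hwdef, polar_add_left, polar_add_left, polar_self', hQa, polar_comm (⇑Q) b a, hab,
      polar_comm (⇑Q) w₀ a, haw]; ring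
  have hwb : polar (⇑Q) w b = 2 * c := by
    rw [hwdef, polar_add_left, polar_add_left, polar_self', hQb, hab,
      polar_comm (⇑Q) w₀ b, hbw]; ring
  have hwD : w ∈ D i := by rw [hwdef]; exact (D i).add_mem ((D i).add_mem ha hb) hw₀
  refine ⟨Cfsg.reflectionMatrix (⇑Q) w *ᵥ a, h.refl_maps hwD i a ha, ?_, ?_, ?_⟩
  · rw [refl_isom Q w hQw0, hQa]
  · rw [reflectionMatrix_mulVec, polar_sub_right, polar_smul_right, polar_self', hQa, hwa,
      polar_comm (⇑Q) a w, hwa]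
    simp only [smul_eq_mul]
    have hinv : (Q w)⁻¹ * Q w = 1 := inv_mul_cancel₀ hQw0
    intro h0
    have h3 : 2 * c * Q w₀ = 0 := by
      linear_combination (Q w) * h0 + (2 * c) * (2 * c) * hinv - (2 * c) * hQw
    exact hQw₀ ((mul_eq_zero.1 h3).resolve_left (mul_ne_zero h2 hc))
  · rw [reflectionMatrix_mulVec, polar_sub_right, polar_smul_right, polar_comm (⇑Q) b a, hab,
      hwa, polar_comm (⇑Q) b w, hwb]
    simp only [smul_eq_mul, zero_sub, neg_ne_zero]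
    exact mul_ne_zero (mul_ne_zero (inv_ne_zero hQw0) (mul_ne_zero h2 hc)) (mul_ne_zero h2 hc)

/-- every vector of a block is a sum of vectors of norm `c` of that block -/
theorem Dec.span_norm (h2 : (2 : F) ≠ 0) (h : Dec Q D k) (hk : 3 ≤ k) {i : Fin t} {c : F}
    (hc : c ≠ 0) (S : Submodule F (ι → F)) (hS : ∀ a ∈ D i, Q a = c → a ∈ S) :
    ∀ x ∈ D i, x ∈ S := by
  have hdim : 3 ≤ finrank F (D i) := by rw [h.fr]; exact hk
  have key : ∀ x ∈ D i, Q x ≠ 0 → x ∈ S := by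
    intro x hx hQx
    have hx0 : x ≠ 0 := by
      rintro rfl
      apply hQx; simp
    obtain ⟨a, ha, hQa, hxa⟩ := (h.nd i).exists_norm_polar h2 hdim hx hx0 (Q x) hQx c
    have h1 : Q (x - a) = c := by rw [Q_sub, hQa, hxa]; ring
    have := S.add_mem (hS (x - a) ((D i).sub_mem hx ha) h1) (hS a ha hQa)
    rwa [sub_add_cancel] at this
  intro x hx
  by_cases hQx : Q x ≠ 0
  · exact key x hx hQx
  rw [not_not] at hQx
  by_cases hx0 : x = 0
  · rw [hx0]; exact S.zero_mem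
  have hβ : c * 2⁻¹ ≠ 0 := mul_ne_zero hc (inv_ne_zero h2)
  obtain ⟨a, ha, hQa, hxa⟩ := (h.nd i).exists_norm_polar h2 hdim hx hx0 (c * 2⁻¹) hβ c
  have h1 : Q (x - a) ≠ 0 := by
    rw [Q_sub, hQa, hxa, hQx]
    intro h0
    apply hβ
    have : c * 2⁻¹ * 2 = c := by rw [mul_assoc, inv_mul_cancel₀ h2, mul_one]
    linear_combination h0 + this
  have := S.add_mem (key (x - a) ((D i).sub_mem hx ha) h1) (hS a ha hQa)
  rwa [sub_add_cancel] at this

/-- **Lemma S**: an isometry mapping the block vectors of norm `c` to block vectors stabilises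
the decomposition -/
theorem Dec.lemmaS (h2 : (2 : F) ≠ 0) (h : Dec Q D k) (hk : 3 ≤ k)
    (hqk : 5 ≤ Fintype.card F ∨ 5 ≤ k) (y : GL ι F)
    (hyI : ∀ x, Q ((y : Matrix ι ι F) *ᵥ x) = Q x) {c : F} (hc : c ≠ 0)
    (hy : ∀ a, IsBlk D a → Q a = c → IsBlk D ((y : Matrix ι ι F) *ᵥ a)) :
    y ∈ decompositionStabilizer D := by
  classical
  have hdim : ∀ i, 3 ≤ finrank F (D i) := fun i => by rw [h.fr]; exact hk
  have hpol : ∀ u v, polar (⇑Q) ((y : Matrix ι ι F) *ᵥ u) ((y : Matrix ι ι F) *ᵥ v)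
      = polar (⇑Q) u v := fun u v => polar_of_isometry Q _ hyI u v
  have step : ∀ i, ∃ m, ∀ x ∈ D i, (y : Matrix ι ι F) *ᵥ x ∈ D m := by
    intro i
    obtain ⟨a₀, ha₀, hQa₀⟩ := (h.nd i).univ h2 (by have := hdim i; omega) c
    obtain ⟨m, hm⟩ := hy a₀ ⟨i, ha₀⟩ hQa₀
    refine ⟨m, ?_⟩
    have near : ∀ a ∈ D i, Q a = c → (y : Matrix ι ι F) *ᵥ a ∈ D m →
        ∀ b ∈ D i, Q b = c → polar (⇑Q) a b ≠ 0 → (y : Matrix ι ι F) *ᵥ b ∈ D m := by
      intro a ha hQa hya b hb hQb hab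
      obtain ⟨m', hm'⟩ := hy b ⟨i, hb⟩ hQb
      have : m = m' := h.block_eq hya hm' (by rw [hpol]; exact hab)
      rw [this]; exact hm'
    have all : ∀ b ∈ D i, Q b = c → (y : Matrix ι ι F) *ᵥ b ∈ D m := by
      intro b hb hQb
      by_cases hab : polar (⇑Q) a₀ b ≠ 0
      · exact near a₀ ha₀ hQa₀ hm b hb hQb hab
      rw [not_not] at hab
      obtain ⟨b'', hb'', hQb'', h1, h3⟩ := h.common_nbr h2 hk hqk ha₀ hb hc hQa₀ hQb hab
      have h4 := near a₀ ha₀ hQa₀ hm b'' hb'' hQb'' h1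
      exact near b'' hb'' hQb'' h4 b hb hQb (by rw [polar_comm]; exact h3)
    have := h.span_norm h2 hk hc ((D m).comap (Matrix.toLin' (y : Matrix ι ι F)))
      (fun a ha hQa => by
        rw [Submodule.mem_comap, Matrix.toLin'_apply]
        exact all a ha hQa)
    intro x hx
    have h5 := this x hx
    rwa [Submodule.mem_comap, Matrix.toLin'_apply] at h5
  choose σ₀ hσ₀ using step
  have hmapeq : ∀ i, (D i).map (Matrix.toLin' (y : Matrix ι ι F)) = D (σ₀ i) := fun i =>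
    map_gl_eq_of_maps y (D i) (D (σ₀ i)) (by rw [h.fr, h.fr]) (hσ₀ i)
  have hinj : Function.Injective σ₀ := by
    intro i j hij
    by_contra hne
    have h1 : (D i).map (Matrix.toLin' (y : Matrix ι ι F))
        = (D j).map (Matrix.toLin' (y : Matrix ι ι F)) := by rw [hmapeq, hmapeq, hij]
    have h3 := Submodule.map_injective_of_injective (toLin_gl_injective y) h1
    obtain ⟨x, hx, hx0⟩ := exists_ne_zero_of_finrank (N := D i) (by have := hdim i; omega)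
    exact hx0 (h.disjoint hne hx (h3 ▸ hx))
  exact ⟨Equiv.ofBijective σ₀ (Finite.injective_iff_bijective.1 hinj), fun i => by
    rw [hmapeq]; rfl⟩

end LemmaS

end Cfsg.Agent.Helper97.ODec
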