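import Mathlib
import Cfsg.Agent.Lib.Helper97.ODecClass

/-!
# Step I: a subgroup strictly above the decomposition stabiliser has a mixed class
-/

set_option autoImplicit false
set_option linter.unusedSectionVars false
set_option linter.unusedVariables false

namespace Cfsg.Agent.Helper97.ODec

open Matrix QuadraticMap Cfsg.Geo Module
open Cfsg.Agent.S0794 Cfsg.Agent.Helper14.ReflGen Cfsg.Agent.Helper93 Cfsg.Agent.Helper43
  Cfsg.Agent.Helper13

section StepI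

variable {F : Type*} [Field F] [Fintype F] {ι : Type} [Fintype ι] [DecidableEq ι]
  {Q : QuadraticForm F (ι → F)} {t : ℕ} {D : Fin t → Submodule F (ι → F)} {k : ℕ}

theorem rr_mulVec_orth {b₁ b₂ : ι → F} (hb₁ : Q b₁ ≠ 0) (hb₂ : Q b₂ ≠ 0)
    (h12 : polar (⇑Q) b₁ b₂ = 0) (x : ι → F) :
    ((rr Q b₁ b₂ hb₁ hb₂ : GL ι F) : Matrix ι ι F) *ᵥ x
      = x - ((Q b₂)⁻¹ * polar (⇑Q) b₂ x) • b₂ - ((Q b₁)⁻¹ * polar (⇑Q) b₁ x) • b₁ := by
  rw [rr_mulVec, reflectionMatrix_mulVec Q b₂ x, reflectionMatrix_mulVec, polar_sub_right,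
    polar_smul_right, h12]
  simp

theorem finrank_span_pair_le (u v : ι → F) :
    finrank F (Submodule.span F ({u, v} : Set (ι → F))) ≤ 2 := by
  classical
  have h1 := finrank_span_finset_le_card (R := F) ({u, v} : Finset (ι → F))
  have h3 : (({u, v} : Finset (ι → F)) : Set (ι → F)) = {u, v} := by simp
  rw [h3] at h1
  exact le_trans h1 Finset.card_le_two

/-- if `r_{b₁} r_{b₂}` (with `b₁ ⊥ b₂`) stabilises the decomposition then all components of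
`b₁` lie in the plane spanned by `b₁, b₂` -/
theorem Dec.split_comps (h2 : (2 : F) ≠ 0) (h : Dec Q D k) (hk : 3 ≤ k) {b₁ b₂ : ι → F}
    (hb₁ : Q b₁ ≠ 0) (hb₂ : Q b₂ ≠ 0) (h12 : polar (⇑Q) b₁ b₂ = 0)
    (hy : rr Q b₁ b₂ hb₁ hb₂ ∈ decompositionStabilizer D) (m : Fin t) :
    h.cmp b₁ m ∈ Submodule.span F ({b₁, b₂} : Set (ι → F)) := by
  obtain ⟨y, hydef⟩ : ∃ y, y = rr Q b₁ b₂ hb₁ hb₂ := ⟨_, rfl⟩
  rw [← hydef] at hy
  have yv : ∀ x, (y : Matrix ι ι F) *ᵥ x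
      = x - ((Q b₂)⁻¹ * polar (⇑Q) b₂ x) • b₂ - ((Q b₁)⁻¹ * polar (⇑Q) b₁ x) • b₁ := by
    intro x; rw [hydef]; exact rr_mulVec_orth hb₁ hb₂ h12 x
  have hb₁P : b₁ ∈ Submodule.span F ({b₁, b₂} : Set (ι → F)) :=
    Submodule.subset_span (by simp)
  have hb₂P : b₂ ∈ Submodule.span F ({b₁, b₂} : Set (ι → F)) :=
    Submodule.subset_span (by simp)
  have hdiff : ∀ x, x - (y : Matrix ι ι F) *ᵥ x ∈ Submodule.span F ({b₁, b₂} : Set (ι → F)) := by
    intro x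
    rw [yv]
    have : x - (x - ((Q b₂)⁻¹ * polar (⇑Q) b₂ x) • b₂ - ((Q b₁)⁻¹ * polar (⇑Q) b₁ x) • b₁)
        = ((Q b₂)⁻¹ * polar (⇑Q) b₂ x) • b₂ + ((Q b₁)⁻¹ * polar (⇑Q) b₁ x) • b₁ := by abel
    rw [this]
    exact Submodule.add_mem _ (Submodule.smul_mem _ _ hb₂P) (Submodule.smul_mem _ _ hb₁P)
  obtain ⟨σ, hσ⟩ := hy
  have hσm : ∀ m, σ m = m := by
    intro m
    by_contra hne
    obtain ⟨L, hL⟩ : ∃ L : D m →ₗ[F] Submodule.span F ({b₁, b₂} : Set (ι → F)),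
        ∀ x : D m, (L x : ι → F) = (x : ι → F) - (y : Matrix ι ι F) *ᵥ (x : ι → F) := by
      refine ⟨LinearMap.codRestrict _
        ((LinearMap.id - Matrix.toLin' (y : Matrix ι ι F)) ∘ₗ (D m).subtype) ?_, ?_⟩
      · intro x
        simp only [LinearMap.comp_apply, LinearMap.sub_apply, LinearMap.id_apply,
          Submodule.subtype_apply, Matrix.toLin'_apply]
        exact hdiff _
      · intro x
        simp [LinearMap.codRestrict_apply]
    have hinj : Function.Injective L := by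
      rw [← LinearMap.ker_eq_bot, LinearMap.ker_eq_bot']
      intro x hx
      have h1 : (x : ι → F) - (y : Matrix ι ι F) *ᵥ (x : ι → F) = 0 := by
        rw [← hL, hx]; rfl
      have h3 : (y : Matrix ι ι F) *ᵥ (x : ι → F) ∈ D (σ m) := by
        rw [← hσ m]
        exact ⟨x, x.2, by rw [Matrix.toLin'_apply]⟩
      have h4 : (y : Matrix ι ι F) *ᵥ (x : ι → F) = x := (sub_eq_zero.1 h1).symm
      rw [h4] at h3
      exact Subtype.ext (h.disjoint (Ne.symm hne) x.2 h3)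
    have h5 := LinearMap.finrank_le_finrank_of_injective hinj
    have h6 := finrank_span_pair_le (F := F) b₁ b₂
    rw [h.fr] at h5
    omega
  have hmaps : ∀ m, ∀ x ∈ D m, (y : Matrix ι ι F) *ᵥ x ∈ D m := by
    intro m x hx
    have : (y : Matrix ι ι F) *ᵥ x ∈ D (σ m) := by
      rw [← hσ m]
      exact ⟨x, hx, by rw [Matrix.toLin'_apply]⟩
    rwa [hσm m] at this
  have hyb₁ : (y : Matrix ι ι F) *ᵥ b₁ = -b₁ := by
    rw [yv, polar_comm (⇑Q) b₂ b₁, h12, polar_self']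
    have : (Q b₁)⁻¹ * (2 * Q b₁) = 2 := by field_simp
    rw [this]
    simp only [mul_zero, zero_smul, sub_zero]
    module
  have h7 := h.cmp_map (y : Matrix ι ι F) hmaps b₁ m
  rw [hyb₁, h.cmp_neg, yv] at h7
  have h8 : (2 : F) • h.cmp b₁ m = ((Q b₂)⁻¹ * polar (⇑Q) b₂ (h.cmp b₁ m)) • b₂
      + ((Q b₁)⁻¹ * polar (⇑Q) b₁ (h.cmp b₁ m)) • b₁ := by
    have e : (2 : F) • h.cmp b₁ m = h.cmp b₁ m - (-h.cmp b₁ m) := by module
    rw [e, h7]
    abel
  have h9 : h.cmp b₁ m = (2 : F)⁻¹ • ((2 : F) • h.cmp b₁ m) := by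
    rw [smul_smul, inv_mul_cancel₀ h2, one_smul]
  rw [h9, h8]
  exact Submodule.smul_mem _ _
    (Submodule.add_mem _ (Submodule.smul_mem _ _ hb₂P) (Submodule.smul_mem _ _ hb₁P))

/-- **Step I**: if no class of block vectors contains a non-block vector, then `M` stabilises
the decomposition -/
theorem Dec.stepI (h2 : (2 : F) ≠ 0) (hQ : (polarBilin Q).Nondegenerate)
    (hn : 5 ≤ Fintype.card ι) (h : Dec Q D k) (hk : 3 ≤ k)
    (hqk : 5 ≤ Fintype.card F ∨ 5 ≤ k) (M : Subgroup (GL ι F))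
    (hHM : decompositionStabilizer D ⊓ omegaGL ⇑Q ≤ M)
    (hMI : ∀ g ∈ M, ∀ x, Q ((g : Matrix ι ι F) *ᵥ x) = Q x)
    (hno : ∀ c x, InC Q D M c x → IsBlk D x) : M ≤ decompositionStabilizer D := by
  classical
  have hblk : ∀ a b, IsBlk D a → IsBlk D b → Q a ≠ 0 → Q b = Q a → Rel Q M a b := by
    rintro a b ⟨i, hai⟩ ⟨j, hbj⟩ ha hab
    have hb : Q b ≠ 0 := by rw [hab]; exact ha
    exact ⟨ha, hb, hab, hHM (h.rr_mem_H hQ hn hai hbj ha hb hab)⟩
  have key : ∀ y ∈ M, ∀ a, IsBlk D a → Q a ≠ 0 → IsBlk D ((y : Matrix ι ι F) *ᵥ a) →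
      y ∈ decompositionStabilizer D := by
    intro y hyM a ha hQa hya
    apply h.lemmaS h2 hk hqk y (hMI y hyM) hQa
    intro a₁ ha₁ hQa₁
    have h1 : Rel Q M a a₁ := hblk a a₁ ha ha₁ hQa hQa₁
    have h3 := h1.map y hyM (hMI y hyM)
    exact hno (Q a) _ ⟨(y : Matrix ι ι F) *ᵥ a, hya, hMI y hyM a, h3⟩
  intro g hgM
  by_contra hgS
  have hgI := hMI g hgM
  have hginvM := M.inv_mem hgM
  have hginvI := hMI g⁻¹ hginvM
  have hdim : ∀ i, 3 ≤ finrank F (D i) := fun i => by rw [h.fr]; exact hk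
  have ht := h.two_le
  obtain ⟨a₀, ha₀, hQa₀⟩ := (h.nd ⟨0, by omega⟩).univ h2 (by have := hdim ⟨0, by omega⟩; omega) 1
  obtain ⟨v, hvdef⟩ : ∃ v, v = (g : Matrix ι ι F) *ᵥ a₀ := ⟨_, rfl⟩
  have hQv : Q v = 1 := by rw [hvdef, hgI, hQa₀]
  obtain ⟨i, hi⟩ : ∃ i, Q (h.cmp v i) ≠ 0 := by
    by_contra hcon
    push Not at hcon
    have h1 := h.Q_eq_sum v
    rw [Finset.sum_eq_zero (fun i _ => hcon i), hQv] at h1
    exact one_ne_zero h1
  obtain ⟨l, hli⟩ : ∃ l : Fin t, l ≠ i := by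
    by_cases h0 : i = ⟨0, by omega⟩
    · refine ⟨⟨1, by omega⟩, ?_⟩
      rw [h0]
      intro h1
      have := congrArg Fin.val h1
      simp at this
    · exact ⟨⟨0, by omega⟩, Ne.symm h0⟩
  obtain ⟨e, he0, b', hb', b'', hb'', hQb', hQb'', hpb', hpb'', hind⟩ :=
    (h.nd l).exists_indep_pair h2 (hdim l) (by rw [h.fr]; exact hqk) (h.cmp_mem v l)
  obtain ⟨b, hb, hzb, hQb⟩ := (h.nd i).exists_norm_perp h2 (hdim i) (h.cmp_mem v i) hi e
  have hQb0 : Q b ≠ 0 := by rw [hQb]; exact he0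
  have hvb : polar (⇑Q) v b = 0 := by rw [h.polar_cmp v i b hb]; exact hzb
  have hvb' : polar (⇑Q) v b' = 0 := by rw [h.polar_cmp v l b' hb']; exact hpb'
  have hvb'' : polar (⇑Q) v b'' = 0 := by rw [h.polar_cmp v l b'' hb'']; exact hpb''
  obtain ⟨b₁, hb₁def⟩ : ∃ b₁, b₁ = ((g⁻¹ : GL ι F) : Matrix ι ι F) *ᵥ b := ⟨_, rfl⟩
  have claim : ∀ c' ∈ D l, Q c' = e → polar (⇑Q) v c' = 0 → ∀ m,
      h.cmp b₁ m ∈ Submodule.span F
        ({b₁, ((g⁻¹ : GL ι F) : Matrix ι ι F) *ᵥ c'} : Set (ι → F)) := by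
    intro c' hc' hQc' hvc' m
    have hQc0 : Q c' ≠ 0 := by rw [hQc']; exact he0
    have hH := hHM (h.rr_mem_H hQ hn hb hc' hQb0 hQc0 (by rw [hQc', hQb]))
    have hfix : ((rr Q b c' hQb0 hQc0 : GL ι F) : Matrix ι ι F) *ᵥ v = v := by
      rw [rr_mulVec, reflectionMatrix_mulVec Q c' v, polar_comm (⇑Q) c' v, hvc', mul_zero,
        zero_smul, sub_zero, reflectionMatrix_mulVec, polar_comm (⇑Q) b v, hvb, mul_zero,
        zero_smul, sub_zero]
    have hy'M : g⁻¹ * rr Q b c' hQb0 hQc0 * g ∈ M := M.mul_mem (M.mul_mem hginvM hH) hgM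
    have hy'a : ((g⁻¹ * rr Q b c' hQb0 hQc0 * g : GL ι F) : Matrix ι ι F) *ᵥ a₀ = a₀ := by
      rw [Units.val_mul, Units.val_mul, ← Matrix.mulVec_mulVec, ← Matrix.mulVec_mulVec, ← hvdef,
        hfix, hvdef, gl_inv_apply_apply]
    have hy'S := key _ hy'M a₀ ⟨_, ha₀⟩ (by rw [hQa₀]; exact one_ne_zero)
      (by rw [hy'a]; exact ⟨_, ha₀⟩)
    have hu' : Q (((g⁻¹ : GL ι F) : Matrix ι ι F) *ᵥ b) ≠ 0 := by rw [hginvI]; exact hQb0
    have hv' : Q (((g⁻¹ : GL ι F) : Matrix ι ι F) *ᵥ c') ≠ 0 := by rw [hginvI]; exact hQc0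
    have hconj := rr_conj g⁻¹ hginvI b c' hQb0 hQc0 hu' hv'
    rw [inv_inv] at hconj
    rw [hconj] at hy'S
    have h12 : polar (⇑Q) (((g⁻¹ : GL ι F) : Matrix ι ι F) *ᵥ b)
        (((g⁻¹ : GL ι F) : Matrix ι ι F) *ᵥ c') = 0 := by
      rw [polar_of_isometry Q _ hginvI]
      exact h.orth i l (Ne.symm hli) b hb c' hc'
    have := h.split_comps h2 hk hu' hv' h12 hy'S m
    rw [hb₁def]
    exact this
  have hnb : ¬ IsBlk D b₁ := by
    intro hblk1
    apply hgS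
    have := key g⁻¹ hginvM b ⟨i, hb⟩ hQb0 (by rw [← hb₁def]; exact hblk1)
    have h3 := (decompositionStabilizer D).inv_mem this
    rwa [inv_inv] at h3
  obtain ⟨m, m', hmm', hp, hp'⟩ := h.exists_two_of_not_blk hnb
  have hli2 : LinearIndependent F ![h.cmp b₁ m, h.cmp b₁ m'] := by
    rw [LinearIndependent.pair_iff]
    intro α β hαβ
    have h1 : α • h.cmp b₁ m = -(β • h.cmp b₁ m') := by
      rw [eq_neg_iff_add_eq_zero]; exact hαβ
    have h3 : α • h.cmp b₁ m ∈ D m' := by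
      rw [h1]
      exact (D m').neg_mem ((D m').smul_mem _ (h.cmp_mem b₁ m'))
    have h4 := h.disjoint hmm' ((D m).smul_mem α (h.cmp_mem b₁ m)) h3
    have hα : α = 0 := (smul_eq_zero.1 h4).resolve_right hp
    rw [hα, zero_smul, zero_add] at hαβ
    exact ⟨hα, (smul_eq_zero.1 hαβ).resolve_right hp'⟩
  obtain ⟨S2, hS2⟩ : ∃ S2, S2 = Submodule.span F (Set.range ![h.cmp b₁ m, h.cmp b₁ m']) :=
    ⟨_, rfl⟩
  have hS2fr : finrank F S2 = 2 := by
    rw [hS2, finrank_span_eq_card hli2]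
    simp
  have hS2le : ∀ c' ∈ D l, Q c' = e → polar (⇑Q) v c' = 0 →
      S2 ≤ Submodule.span F ({b₁, ((g⁻¹ : GL ι F) : Matrix ι ι F) *ᵥ c'} : Set (ι → F)) := by
    intro c' hc' hQc' hvc'
    rw [hS2, Submodule.span_le]
    rintro z ⟨j, rfl⟩
    fin_cases j
    · exact claim c' hc' hQc' hvc' m
    · exact claim c' hc' hQc' hvc' m'
  have hP' : S2 = Submodule.span F
      ({b₁, ((g⁻¹ : GL ι F) : Matrix ι ι F) *ᵥ b'} : Set (ι → F)) := by
    apply Submodule.eq_of_le_of_finrank_le (hS2le b' hb' hQb' hvb')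
    rw [hS2fr]
    exact finrank_span_pair_le _ _
  have h10 : ((g⁻¹ : GL ι F) : Matrix ι ι F) *ᵥ b' ∈ Submodule.span F
      ({b₁, ((g⁻¹ : GL ι F) : Matrix ι ι F) *ᵥ b''} : Set (ι → F)) := by
    apply hS2le b'' hb'' hQb'' hvb''
    rw [hP']
    exact Submodule.subset_span (by simp)
  obtain ⟨α, β, hαβ⟩ := Submodule.mem_span_pair.1 h10
  have h11 : α • b + β • b'' = b' := by
    have := congrArg (fun z => (g : Matrix ι ι F) *ᵥ z) hαβ
    simp only [Matrix.mulVec_add, Matrix.mulVec_smul, hb₁def, gl_apply_inv_apply] at this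
    exact this
  have h12 : α • b ∈ D l := by
    have : α • b = b' - β • b'' := by rw [← h11]; abel
    rw [this]
    exact (D l).sub_mem hb' ((D l).smul_mem _ hb'')
  have h13 := h.disjoint (Ne.symm hli) ((D i).smul_mem α hb) h12
  have hb0 : b ≠ 0 := by
    rintro rfl
    apply hQb0; simp
  have hα : α = 0 := (smul_eq_zero.1 h13).resolve_right hb0
  rw [hα, zero_smul, zero_add] at h11
  have h14 := (LinearIndependent.pair_iff.1 hind) 1 (-β) (by rw [one_smul, neg_smul, h11]; abel)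
  exact one_ne_zero h14.1

end StepI

end Cfsg.Agent.Helper97.ODec
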