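import Mathlib
import Cfsg.Agent.Lib.Helper97.ODecStepI

/-!
# Maximality of the stabiliser of an orthogonal decomposition (odd characteristic,
at least three blocks of dimension at least three)
-/

set_option autoImplicit false
set_option linter.unusedSectionVars false
set_option linter.unusedVariables false

namespace Cfsg.Agent.Helper97.ODec

open Matrix QuadraticMap Cfsg.Geo Module
open Cfsg.Agent.S0794 Cfsg.Agent.Helper14.ReflGen Cfsg.Agent.Helper93 Cfsg.Agent.Helper43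
  Cfsg.Agent.Helper13

section Main

variable {F : Type*} [Field F] [Fintype F] {ι : Type} [Fintype ι] [DecidableEq ι]
  {Q : QuadraticForm F (ι → F)} {t : ℕ} {D : Fin t → Submodule F (ι → F)} {k : ℕ}
  {M : Subgroup (GL ι F)}

theorem blk_of_stab {g : GL ι F} (hg : g ∈ decompositionStabilizer D) {a : ι → F}
    (ha : IsBlk D a) : IsBlk D ((g : Matrix ι ι F) *ᵥ a) := by
  obtain ⟨σ, hσ⟩ := hg
  obtain ⟨i, hi⟩ := ha
  refine ⟨σ i, ?_⟩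
  rw [← hσ i]
  exact ⟨a, hi, by rw [Matrix.toLin'_apply]⟩

theorem omega_isom {g : GL ι F} (hg : g ∈ omegaGL ⇑Q) (x : ι → F) :
    Q ((g : Matrix ι ι F) *ᵥ x) = Q x := by
  obtain ⟨g', _, rfl⟩ := Subgroup.mem_map.1 hg
  exact g'.2 x x

theorem InC.map_H {c : F} {x : ι → F} (hx : InC Q D M c x)
    (hHM : decompositionStabilizer D ⊓ omegaGL ⇑Q ≤ M) {g : GL ι F}
    (hg : g ∈ decompositionStabilizer D ⊓ omegaGL ⇑Q) :
    InC Q D M c ((g : Matrix ι ι F) *ᵥ x) := by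
  obtain ⟨a, ha, hQa, hr⟩ := hx
  exact ⟨(g : Matrix ι ι F) *ᵥ a, blk_of_stab hg.1 ha, by rw [omega_isom hg.2, hQa],
    hr.map g (hHM hg) (omega_isom hg.2)⟩

theorem Dec.rel_blk (h : Dec Q D k) (hQ : (polarBilin Q).Nondegenerate)
    (hn : 5 ≤ Fintype.card ι) (hHM : decompositionStabilizer D ⊓ omegaGL ⇑Q ≤ M) :
    ∀ a b, IsBlk D a → IsBlk D b → Q a ≠ 0 → Q b = Q a → Rel Q M a b := by
  rintro a b ⟨i, hai⟩ ⟨j, hbj⟩ ha hab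
  have hb : Q b ≠ 0 := by rw [hab]; exact ha
  exact ⟨ha, hb, hab, hHM (h.rr_mem_H hQ hn hai hbj ha hb hab)⟩

/-- **Lemma N**: from a member `x` of the class with a nonsingular component in `D l` and a
singular `t₀ ∈ D i` not orthogonal to `x`, a two-component member `z₁ + z₂` with `z₁ ⊥ t₀` -/
theorem Dec.lemmaN (h2 : (2 : F) ≠ 0) (hQ : (polarBilin Q).Nondegenerate)
    (hn : 5 ≤ Fintype.card ι) (h : Dec Q D k) (hk : 3 ≤ k)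
    (hqk : 5 ≤ Fintype.card F ∨ 5 ≤ k)
    (hHM : decompositionStabilizer D ⊓ omegaGL ⇑Q ≤ M) {c : F} {x : ι → F}
    (hx : InC Q D M c x) {i l : Fin t} (hil : i ≠ l) (hxl : Q (h.cmp x l) ≠ 0) {t₀ : ι → F}
    (ht₀ : t₀ ∈ D i) (hQt₀ : Q t₀ = 0) (hxt : polar (⇑Q) x t₀ ≠ 0) :
    ∃ z₁ ∈ D i, ∃ z₂ ∈ D l, InC Q D M c (z₁ + z₂) ∧ Q z₁ ≠ 0 ∧ polar (⇑Q) t₀ z₁ = 0 ∧
      Q z₂ ≠ 0 := by
  have hc : c ≠ 0 := hx.ne_zero
  have hQx : Q x = c := hx.norm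
  have hdim : ∀ i, 3 ≤ finrank F (D i) := fun i => by rw [h.fr]; exact hk
  have ht₀0 : t₀ ≠ 0 := by
    rintro rfl
    apply hxt; rw [polar_zero_right]
  obtain ⟨u, hu, htu, hQu, hQuc⟩ := (h.nd i).exists_perp_sing_avoid h2 (hdim i)
    (by rw [h.fr]; exact hqk) ht₀ ht₀0 hQt₀ c
  obtain ⟨N₁, hN₁⟩ : ∃ N₁, N₁ = Q u := ⟨_, rfl⟩
  obtain ⟨N₂, hN₂⟩ : ∃ N₂, N₂ = c - N₁ := ⟨_, rfl⟩
  have hN₁0 : N₁ ≠ 0 := by rw [hN₁]; exact hQu
  have hN₂0 : N₂ ≠ 0 := by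
    rw [hN₂, hN₁]
    intro h0
    apply hQuc
    linear_combination -h0
  obtain ⟨p, hp⟩ : ∃ p, p = polar (⇑Q) x t₀ := ⟨_, rfl⟩
  have hp0 : p ≠ 0 := by rw [hp]; exact hxt
  -- `z₁` and `b₁`
  obtain ⟨z₁, hz₁def⟩ : ∃ z₁, z₁ = ((N₁ - polar (⇑Q) x u) * p⁻¹) • t₀ + u := ⟨_, rfl⟩
  obtain ⟨b₁, hb₁def⟩ : ∃ b₁, b₁ = u - (polar (⇑Q) x u * p⁻¹) • t₀ := ⟨_, rfl⟩
  have hz₁D : z₁ ∈ D i := by rw [hz₁def]; exact (D i).add_mem ((D i).smul_mem _ ht₀) hu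
  have hb₁D : b₁ ∈ D i := by rw [hb₁def]; exact (D i).sub_mem hu ((D i).smul_mem _ ht₀)
  have hQz₁ : Q z₁ = N₁ := by
    rw [hz₁def, Q_add', Q_smul', hQt₀, polar_smul_left, htu, hN₁]; simp
  have hQb₁ : Q b₁ = N₁ := by
    rw [hb₁def, Q_sub, Q_smul', hQt₀, polar_smul_right, polar_comm (⇑Q) u t₀, htu, hN₁]; simp
  have hxz₁ : polar (⇑Q) x z₁ = N₁ := by
    rw [hz₁def, polar_add_right, polar_smul_right, ← hp, smul_eq_mul, mul_assoc,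
      inv_mul_cancel₀ hp0]
    ring
  have hxb₁ : polar (⇑Q) x b₁ = 0 := by
    rw [hb₁def, polar_sub_right, polar_smul_right, ← hp, smul_eq_mul, mul_assoc,
      inv_mul_cancel₀ hp0]
    ring
  have htz₁ : polar (⇑Q) t₀ z₁ = 0 := by
    rw [hz₁def, polar_add_right, polar_smul_right, polar_self', hQt₀, htu]; simp
  -- `z₂` and `b₂`
  have hxl0 : h.cmp x l ≠ 0 := by
    intro h0
    apply hxl; rw [h0]; simp
  obtain ⟨z₂, hz₂D, hQz₂, hxz₂'⟩ := (h.nd l).exists_norm_polar h2 (hdim l) (h.cmp_mem x l) hxl0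
    N₂ hN₂0 N₂
  obtain ⟨b₂, hb₂D, hxb₂', hQb₂⟩ := (h.nd l).exists_norm_perp h2 (hdim l) (h.cmp_mem x l) hxl N₂
  have hxz₂ : polar (⇑Q) x z₂ = N₂ := by rw [h.polar_cmp x l z₂ hz₂D]; exact hxz₂'
  have hxb₂ : polar (⇑Q) x b₂ = 0 := by rw [h.polar_cmp x l b₂ hb₂D]; exact hxb₂'
  have hz₁0 : Q z₁ ≠ 0 := by rw [hQz₁]; exact hN₁0
  have hb₁0 : Q b₁ ≠ 0 := by rw [hQb₁]; exact hN₁0
  have hz₂0 : Q z₂ ≠ 0 := by rw [hQz₂]; exact hN₂0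
  have hb₂0 : Q b₂ ≠ 0 := by rw [hQb₂]; exact hN₂0
  have hH₁ := h.rr_mem_H hQ hn hz₁D hb₁D hz₁0 hb₁0 (by rw [hQb₁, hQz₁])
  have hH₂ := h.rr_mem_H hQ hn hz₂D hb₂D hz₂0 hb₂0 (by rw [hQb₂, hQz₂])
  -- the element `x'' = x - z₁ - z₂` of the class
  have e2 : ((rr Q z₂ b₂ hz₂0 hb₂0 : GL ι F) : Matrix ι ι F) *ᵥ x = x - z₂ := by
    rw [rr_mulVec, reflectionMatrix_mulVec Q b₂ x, polar_comm (⇑Q) b₂ x, hxb₂, mul_zero,
      zero_smul, sub_zero, reflectionMatrix_mulVec, polar_comm (⇑Q) z₂ x, hxz₂, hQz₂,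
      inv_mul_cancel₀ hN₂0, one_smul]
  have e1 : ((rr Q z₁ b₁ hz₁0 hb₁0 : GL ι F) : Matrix ι ι F) *ᵥ (x - z₂) = x - z₂ - z₁ := by
    have o1 : polar (⇑Q) b₁ z₂ = 0 := h.orth i l hil b₁ hb₁D z₂ hz₂D
    have o2 : polar (⇑Q) z₁ z₂ = 0 := h.orth i l hil z₁ hz₁D z₂ hz₂D
    rw [rr_mulVec, reflectionMatrix_mulVec Q b₁ (x - z₂), polar_sub_right,
      polar_comm (⇑Q) b₁ x, hxb₁, o1, sub_zero, mul_zero, zero_smul, sub_zero,
      reflectionMatrix_mulVec, polar_sub_right, polar_comm (⇑Q) z₁ x, hxz₁, o2, sub_zero, hQz₁,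
      inv_mul_cancel₀ hN₁0, one_smul]
  have hx2 : InC Q D M c (x - z₂ - z₁) := by
    have := (hx.map_H hHM hH₂).map_H hHM hH₁
    rwa [e2, e1] at this
  have hx3 := hx.refl_closed hx2 (h.rel_blk hQ hn hHM)
  have e3 : Cfsg.reflectionMatrix (⇑Q) (x - z₂ - z₁) *ᵥ x = z₁ + z₂ := by
    rw [reflectionMatrix_mulVec, hx2.norm, polar_sub_left, polar_sub_left, polar_self', hQx,
      polar_comm (⇑Q) z₂ x, hxz₂, polar_comm (⇑Q) z₁ x, hxz₁]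
    have : c⁻¹ * (2 * c - N₂ - N₁) = 1 := by
      rw [hN₂]
      field_simp
      ring
    rw [this, one_smul]
    abel
  rw [e3] at hx3
  exact ⟨z₁, hz₁D, z₂, hz₂D, hx3, hz₁0, htz₁, hz₂0⟩

/-- **Step II**: a two-component member `z₁ + z₂` with `z₁ ⊥ t₀` nonsingular puts `F z₂` into the
Eichler centre group of `t₀` -/
theorem Dec.stepII (h2 : (2 : F) ≠ 0) (hQ : (polarBilin Q).Nondegenerate)
    (hn : 5 ≤ Fintype.card ι) (h : Dec Q D k) (hk : 3 ≤ k)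
    (hHM : decompositionStabilizer D ⊓ omegaGL ⇑Q ≤ M)
    (hMI : ∀ g ∈ M, ∀ x, Q ((g : Matrix ι ι F) *ᵥ x) = Q x) {c : F}
    {i l j : Fin t} (hil : i ≠ l) (hij : i ≠ j) (hlj : l ≠ j) {t₀ : ι → F} (ht₀ : t₀ ∈ D i)
    (hQt₀ : Q t₀ = 0) {z₁ z₂ : ι → F} (hz₁ : z₁ ∈ D i) (hz₂ : z₂ ∈ D l)
    (hz : InC Q D M c (z₁ + z₂)) (hQz₁ : Q z₁ ≠ 0) (htz₁ : polar (⇑Q) t₀ z₁ = 0) :
    ∀ μ : F, μ • z₂ ∈ ACtr Q M t₀ hQt₀ := by
  have hc : c ≠ 0 := hz.ne_zero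
  have hQx : Q (z₁ + z₂) = c := hz.norm
  have hdim : ∀ i, 3 ≤ finrank F (D i) := fun i => by rw [h.fr]; exact hk
  obtain ⟨a', ha', hQa'⟩ := (h.nd j).univ h2 (by have := hdim j; omega) c
  have hQa'0 : Q a' ≠ 0 := by rw [hQa']; exact hc
  obtain ⟨a, ha, hQa, hr⟩ := hz
  have hr' : Rel Q M a' (z₁ + z₂) :=
    (h.rel_blk hQ hn hHM a' a ⟨j, ha'⟩ ha hQa'0 (by rw [hQa, hQa'])).trans hr
  obtain ⟨_, hx0, -, hyM⟩ := hr'
  obtain ⟨y, hydef⟩ : ∃ y, y = rr Q a' (z₁ + z₂) hQa'0 hx0 := ⟨_, rfl⟩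
  rw [← hydef] at hyM
  have o1 : polar (⇑Q) a' z₁ = 0 := by
    rw [polar_comm]; exact h.orth i j hij z₁ hz₁ a' ha'
  have o2 : polar (⇑Q) a' z₂ = 0 := by
    rw [polar_comm]; exact h.orth l j hlj z₂ hz₂ a' ha'
  have o3 : polar (⇑Q) a' t₀ = 0 := by
    rw [polar_comm]; exact h.orth i j hij t₀ ht₀ a' ha'
  have o4 : polar (⇑Q) z₂ t₀ = 0 := by
    rw [polar_comm]; exact h.orth i l hil t₀ ht₀ z₂ hz₂
  have o5 : polar (⇑Q) z₂ z₁ = 0 := by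
    rw [polar_comm]; exact h.orth i l hil z₁ hz₁ z₂ hz₂
  have hfix : (y : Matrix ι ι F) *ᵥ t₀ = t₀ := by
    rw [hydef, rr_mulVec, reflectionMatrix_mulVec Q (z₁ + z₂) t₀, polar_add_left,
      polar_comm (⇑Q) z₁ t₀, htz₁, o4, add_zero, mul_zero, zero_smul, sub_zero,
      reflectionMatrix_mulVec, o3, mul_zero, zero_smul, sub_zero]
  have hconj := ACtr_conj_gl hQt₀ y hyM (hMI y hyM) hfix
  have hz₁A : ∀ lam : F, lam • z₁ ∈ ACtr Q M t₀ hQt₀ := by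
    intro lam
    have hp : polar (⇑Q) t₀ (lam • z₁) = 0 := by rw [polar_smul_right, htz₁, smul_zero]
    exact ⟨hp, eichGL Q t₀ (lam • z₁) hQt₀ hp,
      hHM (h.eich_mem_H hQ hn ht₀ ((D i).smul_mem _ hz₁) hQt₀ hp), rfl⟩
  have hy1 : ∀ lam : F, (y : Matrix ι ι F) *ᵥ (lam • z₁)
      = lam • z₁ - (c⁻¹ * (lam * (2 * Q z₁))) • (z₁ + z₂) := by
    intro lam
    rw [hydef, rr_mulVec, reflectionMatrix_mulVec Q (z₁ + z₂) (lam • z₁), hQx, polar_smul_right,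
      polar_add_left, polar_self', o5, add_zero, reflectionMatrix_mulVec, polar_sub_right,
      polar_smul_right, polar_smul_right, o1, polar_add_right, o1, o2]
    simp
  intro μ
  obtain ⟨lam, hlam⟩ : ∃ lam, lam = μ * c * (2 * Q z₁)⁻¹ := ⟨_, rfl⟩
  have h2Q : (2 * Q z₁) ≠ 0 := mul_ne_zero h2 hQz₁
  have hκ : c⁻¹ * (lam * (2 * Q z₁)) = μ := by
    rw [hlam]
    field_simp
  have h1 := hconj _ (hz₁A lam)
  rw [hy1, hκ] at h1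
  have h3 := (ACtr Q M t₀ hQt₀).sub_mem (hz₁A lam) h1
  have h4 := (ACtr Q M t₀ hQt₀).sub_mem h3 (hz₁A μ)
  have e : lam • z₁ - (lam • z₁ - μ • (z₁ + z₂)) - μ • z₁ = μ • z₂ := by
    rw [smul_add]; abel
  rwa [e] at h4

/-- irreducibility of a block under its Eichler transformations -/
theorem Dec.block_le_ACtr (hQ : (polarBilin Q).Nondegenerate) (hn : 5 ≤ Fintype.card ι)
    (h : Dec Q D k) (hk : 3 ≤ k) (hHM : decompositionStabilizer D ⊓ omegaGL ⇑Q ≤ M)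
    {i l : Fin t} (hil : i ≠ l) {t₀ : ι → F} (ht₀ : t₀ ∈ D i) (hQt₀ : Q t₀ = 0) {z₂ : ι → F}
    (hz₂ : z₂ ∈ D l) (hz₂0 : z₂ ≠ 0) (hμ : ∀ μ : F, μ • z₂ ∈ ACtr Q M t₀ hQt₀) :
    ∀ x ∈ D l, x ∈ ACtr Q M t₀ hQt₀ := by
  obtain ⟨z, hz, hzz₂⟩ := h.nd l z₂ hz₂ hz₂0
  apply eich_invariant_ge' (h.nd l) (by rw [h.fr]; exact hk) (ACtr Q M t₀ hQt₀) ?_ z₂ hμ z hz hzz₂
  intro s w hs hw hQs hsw
  apply ACtr_conj hQt₀ s w hQs hsw
    ⟨eichGL Q s w hQs hsw, hHM (h.eich_mem_H hQ hn hs hw hQs hsw), rfl⟩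
  rw [eichM_mulVec, polar_comm (⇑Q) s t₀, h.orth i l hil t₀ ht₀ s hs, polar_comm (⇑Q) w t₀,
    h.orth i l hil t₀ ht₀ w hw]
  simp

/-- the class of norm `c` contains a vector with nonsingular components in `D i` and `D l` only -/
def Good (Q : QuadraticForm F (ι → F)) (D : Fin t → Submodule F (ι → F))
    (M : Subgroup (GL ι F)) (c : F) (i l : Fin t) : Prop :=
  ∃ w₁ ∈ D i, ∃ w₂ ∈ D l, Q w₁ ≠ 0 ∧ Q w₂ ≠ 0 ∧ InC Q D M c (w₁ + w₂)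

theorem Good.symm {c : F} {i l : Fin t} (hg : Good Q D M c i l) : Good Q D M c l i := by
  obtain ⟨w₁, hw₁, w₂, hw₂, h1, h3, h4⟩ := hg
  exact ⟨w₂, hw₂, w₁, hw₁, h3, h1, by rwa [add_comm]⟩

theorem Dec.good_cycle (h : Dec Q D k) (hHM : decompositionStabilizer D ⊓ omegaGL ⇑Q ≤ M)
    {c : F} {p q r : Fin t} (hpq : p ≠ q) (hpr : p ≠ r) (hqr : q ≠ r)
    (hg : Good Q D M c p q) : Good Q D M c q r := by
  obtain ⟨w₁, hw₁, w₂, hw₂, h1, h3, h4⟩ := hg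
  obtain ⟨g, hgH, hgp, hgq⟩ := h.exists_three_cycle hpq hpr hqr
  refine ⟨(g : Matrix ι ι F) *ᵥ w₁, hgp _ hw₁, (g : Matrix ι ι F) *ᵥ w₂, hgq _ hw₂,
    by rw [omega_isom hgH.2]; exact h1, by rw [omega_isom hgH.2]; exact h3, ?_⟩
  have := h4.map_H hHM hgH
  rwa [Matrix.mulVec_add] at this

theorem Dec.good_all (h : Dec Q D k) (hHM : decompositionStabilizer D ⊓ omegaGL ⇑Q ≤ M)
    {c : F} {p q : Fin t} (hpq : p ≠ q) (hg : Good Q D M c p q) :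
    ∀ i l : Fin t, i ≠ l → Good Q D M c i l := by
  -- one step: `Good a b` and `r ∉ {a, b}` give `Good b r` and `Good a r`
  have step1 : ∀ a b r : Fin t, a ≠ b → a ≠ r → b ≠ r → Good Q D M c a b → Good Q D M c b r :=
    fun a b r hab har hbr hg' => h.good_cycle hHM hab har hbr hg'
  have step2 : ∀ a b r : Fin t, a ≠ b → a ≠ r → b ≠ r → Good Q D M c a b → Good Q D M c a r :=
    fun a b r hab har hbr hg' => step1 b a r (Ne.symm hab) hbr har hg'.symm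
  intro i l hil
  by_cases hip : i = p
  · subst hip
    by_cases hlq : l = q
    · subst hlq; exact hg
    · exact step2 i q l hpq hil (Ne.symm hlq) hg
  by_cases hiq : i = q
  · subst hiq
    by_cases hlp : l = p
    · subst hlp; exact hg.symm
    · exact step1 p i l hpq (Ne.symm hlp) hil hg
  -- `i ∉ {p, q}`
  have hqi : Good Q D M c q i := step1 p q i hpq (Ne.symm hip) (Ne.symm hiq) hg
  by_cases hlq : l = q
  · subst hlq; exact hqi.symm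
  · exact step1 q i l (Ne.symm hiq) (Ne.symm hlq) hil hqi

end Main

end Cfsg.Agent.Helper97.ODec
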