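import Mathlib
import Cfsg.Agent.Lib.Helper97.ODecMain

/-!
# Maximality of the stabiliser of an orthogonal decomposition: final assembly
-/

set_option autoImplicit false
set_option linter.unusedSectionVars false
set_option linter.unusedVariables false

namespace Cfsg.Agent.Helper97.ODec

open Matrix QuadraticMap Cfsg.Geo Module
open Cfsg.Agent.S0794 Cfsg.Agent.Helper14.ReflGen Cfsg.Agent.Helper93 Cfsg.Agent.Helper43
  Cfsg.Agent.Helper13

section Final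

variable {F : Type*} [Field F] [Fintype F] {ι : Type} [Fintype ι] [DecidableEq ι]
  {Q : QuadraticForm F (ι → F)} {t : ℕ} {D : Fin t → Submodule F (ι → F)} {k : ℕ}
  {M : Subgroup (GL ι F)}

theorem exists_third_fin {t : ℕ} (ht : 3 ≤ t) (i m : Fin t) : ∃ j : Fin t, j ≠ i ∧ j ≠ m := by
  by_cases h0 : (i : ℕ) ≠ 0 ∧ (m : ℕ) ≠ 0
  · refine ⟨⟨0, by omega⟩, ?_, ?_⟩
    · intro hh; apply h0.1; rw [← hh]
    · intro hh; apply h0.2; rw [← hh]
  by_cases h1 : (i : ℕ) ≠ 1 ∧ (m : ℕ) ≠ 1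
  · refine ⟨⟨1, by omega⟩, ?_, ?_⟩
    · intro hh; apply h1.1; rw [← hh]
    · intro hh; apply h1.2; rw [← hh]
  refine ⟨⟨2, by omega⟩, ?_, ?_⟩
  · intro hh
    have h3 : (i : ℕ) = 2 := by rw [← hh]
    omega
  · intro hh
    have h3 : (m : ℕ) = 2 := by rw [← hh]
    omega

/-- the stabiliser is a proper subgroup of `Ω` -/
theorem Dec.H_lt (hQ : (polarBilin Q).Nondegenerate) (hn : 5 ≤ Fintype.card ι)
    (h : Dec Q D k) (hk : 3 ≤ k) (ht : 3 ≤ t) :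
    decompositionStabilizer D ⊓ omegaGL ⇑Q < omegaGL ⇑Q := by
  have hdim : ∀ i, 3 ≤ finrank F (D i) := fun i => by rw [h.fr]; exact hk
  obtain ⟨i0, hi0⟩ : ∃ i0 : Fin t, i0 = ⟨0, by omega⟩ := ⟨_, rfl⟩
  obtain ⟨i1, hi1⟩ : ∃ i1 : Fin t, i1 = ⟨1, by omega⟩ := ⟨_, rfl⟩
  have h01 : i0 ≠ i1 := by
    rw [hi0, hi1]
    intro hh
    have := congrArg Fin.val hh
    simp at this
  obtain ⟨t₁, ht₁, ht₁0, hQt₁⟩ := (h.nd i0).exists_sing (hdim i0)
  obtain ⟨w, hw, hw0⟩ := exists_ne_zero_of_finrank (N := D i1) (by have := hdim i1; omega)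
  obtain ⟨x, hx, hQx, htx⟩ := (h.nd i0).partner ht₁ ht₁0 hQt₁
  have htw : polar (⇑Q) t₁ w = 0 := h.orth i0 i1 h01 t₁ ht₁ w hw
  refine lt_of_le_of_ne inf_le_right ?_
  intro heq
  have hE : eichGL Q t₁ w hQt₁ htw ∈ decompositionStabilizer D ⊓ omegaGL ⇑Q :=
    heq.ge (eichGL_mem_omegaGL Q hQ hn t₁ w hQt₁ htw)
  have hb := blk_of_stab hE.1 ⟨i0, hx⟩
  have e : ((eichGL Q t₁ w hQt₁ htw : GL ι F) : Matrix ι ι F) *ᵥ x = (x - Q w • t₁) + w := by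
    change eichM Q t₁ w *ᵥ x = _
    rw [eichM_mulVec, htx, polar_comm (⇑Q) w x, h.orth i0 i1 h01 x hx w hw]
    simp only [one_smul, zero_smul, sub_zero, mul_one]
    abel
  rw [e] at hb
  have hxm : x - Q w • t₁ ∈ D i0 := (D i0).sub_mem hx ((D i0).smul_mem _ ht₁)
  apply h.not_blk_of_two h01 _ _ hb
  · rw [h.cmp_add, h.cmp_self hxm, h.cmp_other hw h01, add_zero]
    intro h0
    have h3 : polar (⇑Q) t₁ (x - Q w • t₁) = 1 := by
      rw [polar_sub_right, polar_smul_right, polar_self', hQt₁, htx]; simp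
    rw [h0, polar_zero_right] at h3
    exact zero_ne_one h3
  · rw [h.cmp_add, h.cmp_other hxm (Ne.symm h01), h.cmp_self hw, zero_add]
    exact hw0

/-- a good pair of blocks puts the second block into the Eichler centre group of any singular
vector of the first block -/
theorem Dec.block_of_good (h2 : (2 : F) ≠ 0) (hQ : (polarBilin Q).Nondegenerate)
    (hn : 5 ≤ Fintype.card ι) (h : Dec Q D k) (hk : 3 ≤ k)
    (hqk : 5 ≤ Fintype.card F ∨ 5 ≤ k)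
    (hHM : decompositionStabilizer D ⊓ omegaGL ⇑Q ≤ M)
    (hMI : ∀ g ∈ M, ∀ x, Q ((g : Matrix ι ι F) *ᵥ x) = Q x) {c : F}
    {i l j : Fin t} (hil : i ≠ l) (hij : i ≠ j) (hlj : l ≠ j)
    (hg : Good Q D M c i l) {t₀ : ι → F} (ht₀ : t₀ ∈ D i) (hQt₀ : Q t₀ = 0) :
    ∀ x ∈ D l, x ∈ ACtr Q M t₀ hQt₀ := by
  obtain ⟨w₁, hw₁, w₂, hw₂, hQw₁, hQw₂, hin⟩ := hg
  by_cases hp : polar (⇑Q) t₀ w₁ = 0
  · have hμ := h.stepII h2 hQ hn hk hHM hMI hil hij hlj ht₀ hQt₀ hw₁ hw₂ hin hQw₁ hp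
    have hw₂0 : w₂ ≠ 0 := by
      rintro rfl
      apply hQw₂; simp
    exact h.block_le_ACtr hQ hn hk hHM hil ht₀ hQt₀ hw₂ hw₂0 hμ
  · have hxl : Q (h.cmp (w₁ + w₂) l) ≠ 0 := by
      rw [h.cmp_add, h.cmp_other hw₁ (Ne.symm hil), h.cmp_self hw₂, zero_add]; exact hQw₂
    have hxt : polar (⇑Q) (w₁ + w₂) t₀ ≠ 0 := by
      rw [polar_add_left, h.orth l i (Ne.symm hil) w₂ hw₂ t₀ ht₀, add_zero, polar_comm]
      exact hp
    obtain ⟨z₁, hz₁, z₂, hz₂, hin', hQz₁, htz₁, hQz₂⟩ :=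
      h.lemmaN h2 hQ hn hk hqk hHM hin hil hxl ht₀ hQt₀ hxt
    have hμ := h.stepII h2 hQ hn hk hHM hMI hil hij hlj ht₀ hQt₀ hz₁ hz₂ hin' hQz₁ htz₁
    have hz₂0 : z₂ ≠ 0 := by
      rintro rfl
      apply hQz₂; simp
    exact h.block_le_ACtr hQ hn hk hHM hil ht₀ hQt₀ hz₂ hz₂0 hμ

/-- a non-block member of a class gives a good pair of blocks -/
theorem Dec.good_of_not_blk (h2 : (2 : F) ≠ 0) (hQ : (polarBilin Q).Nondegenerate)
    (hn : 5 ≤ Fintype.card ι) (h : Dec Q D k) (hk : 3 ≤ k)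
    (hqk : 5 ≤ Fintype.card F ∨ 5 ≤ k)
    (hHM : decompositionStabilizer D ⊓ omegaGL ⇑Q ≤ M) {c : F} {x : ι → F}
    (hx : InC Q D M c x) (hnb : ¬ IsBlk D x) :
    ∃ i l : Fin t, i ≠ l ∧ Good Q D M c i l := by
  have hdim : ∀ i, 3 ≤ finrank F (D i) := fun i => by rw [h.fr]; exact hk
  have hc : c ≠ 0 := hx.ne_zero
  have hQx : Q x = c := hx.norm
  obtain ⟨l, hl⟩ : ∃ l, Q (h.cmp x l) ≠ 0 := by
    by_contra hcon
    push Not at hcon
    apply hc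
    rw [← hQx, h.Q_eq_sum x]
    exact Finset.sum_eq_zero (fun i _ => hcon i)
  obtain ⟨a, b, hab, ha, hb⟩ := h.exists_two_of_not_blk hnb
  obtain ⟨i, hil, hi⟩ : ∃ i, i ≠ l ∧ h.cmp x i ≠ 0 := by
    by_cases hal : a = l
    · exact ⟨b, fun hbl => hab (hal.trans hbl.symm), hb⟩
    · exact ⟨a, hal, ha⟩
  obtain ⟨t₀, ht₀, hQt₀, hpt⟩ := (h.nd i).exists_norm_polar h2 (hdim i) (h.cmp_mem x i) hi 1
    one_ne_zero 0
  have hxt : polar (⇑Q) x t₀ ≠ 0 := by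
    rw [h.polar_cmp x i t₀ ht₀, hpt]; exact one_ne_zero
  obtain ⟨z₁, hz₁, z₂, hz₂, hin', hQz₁, htz₁, hQz₂⟩ :=
    h.lemmaN h2 hQ hn hk hqk hHM hx hil hl ht₀ hQt₀ hxt
  exact ⟨i, l, hil, z₁, hz₁, z₂, hz₂, hQz₁, hQz₂, hin'⟩

/-- if all pairs of blocks are good, every singular vector of a block is a full Eichler centre -/
theorem Dec.ectr_of_good (h2 : (2 : F) ≠ 0) (hQ : (polarBilin Q).Nondegenerate)
    (hn : 5 ≤ Fintype.card ι) (h : Dec Q D k) (hk : 3 ≤ k) (ht : 3 ≤ t)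
    (hqk : 5 ≤ Fintype.card F ∨ 5 ≤ k)
    (hHM : decompositionStabilizer D ⊓ omegaGL ⇑Q ≤ M)
    (hMI : ∀ g ∈ M, ∀ x, Q ((g : Matrix ι ι F) *ᵥ x) = Q x) {c : F}
    (hgood : ∀ i l : Fin t, i ≠ l → Good Q D M c i l) {i : Fin t} {t₀ : ι → F}
    (ht₀ : t₀ ∈ D i) (hQt₀ : Q t₀ = 0) : ECtr Q M t₀ := by
  refine ⟨hQt₀, fun w htw => ?_⟩
  have hall : ∀ m, h.cmp w m ∈ ACtr Q M t₀ hQt₀ := by
    intro m
    by_cases hmi : m = i
    · subst hmi
      have hp : polar (⇑Q) t₀ (h.cmp w m) = 0 := by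
        rw [← h.polar_cmp' w m t₀ ht₀]; exact htw
      exact ⟨hp, eichGL Q t₀ (h.cmp w m) hQt₀ hp,
        hHM (h.eich_mem_H hQ hn ht₀ (h.cmp_mem w m) hQt₀ hp), rfl⟩
    · obtain ⟨j, hji, hjm⟩ := exists_third_fin ht i m
      exact h.block_of_good h2 hQ hn hk hqk hHM hMI (Ne.symm hmi) (Ne.symm hji) (Ne.symm hjm)
        (hgood i m (Ne.symm hmi)) ht₀ hQt₀ _ (h.cmp_mem w m)
  have hs := (ACtr Q M t₀ hQt₀).sum_mem (t := Finset.univ) (fun m _ => hall m)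
  rw [h.sum_cmp w] at hs
  exact hs.2

/-- **Maximality of the stabiliser of an orthogonal decomposition** into at least three blocks of
dimension at least three, odd characteristic, `q ≥ 5` or `k ≥ 5` -/
theorem Dec.stab_max (h2 : (2 : F) ≠ 0) (hQ : (polarBilin Q).Nondegenerate) (h : Dec Q D k)
    (hk : 3 ≤ k) (ht : 3 ≤ t) (hqk : 5 ≤ Fintype.card F ∨ 5 ≤ k) :
    IsMaximalIn (omegaGL ⇑Q) (decompositionStabilizer D ⊓ omegaGL ⇑Q) := by
  have hn : 5 ≤ Fintype.card ι := by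
    rw [← h.card_ge]
    nlinarith
  refine ⟨h.H_lt hQ hn hk ht, fun M hHM hMΩ => ?_⟩
  have hMI : ∀ g ∈ M, ∀ x, Q ((g : Matrix ι ι F) *ᵥ x) = Q x :=
    fun g hg x => omega_isom (hMΩ hg) x
  by_cases hMS : M ≤ decompositionStabilizer D
  · left
    exact le_antisymm (le_inf hMS hMΩ) hHM
  right
  apply le_antisymm hMΩ
  have hex : ∃ c x, InC Q D M c x ∧ ¬ IsBlk D x := by
    by_contra hcon
    push Not at hcon
    exact hMS (h.stepI h2 hQ hn hk hqk M hHM hMI hcon)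
  obtain ⟨c, x, hx, hnb⟩ := hex
  obtain ⟨p, q, hpq, hg⟩ := h.good_of_not_blk h2 hQ hn hk hqk hHM hx hnb
  have hgood := h.good_all hHM hpq hg
  have hdim : ∀ i, 3 ≤ finrank F (D i) := fun i => by rw [h.fr]; exact hk
  obtain ⟨i0, hi0⟩ : ∃ i0 : Fin t, i0 = ⟨0, by omega⟩ := ⟨_, rfl⟩
  obtain ⟨s, hs, hs0, hQs⟩ := (h.nd i0).exists_sing (hdim i0)
  obtain ⟨s', hs', hQs', hss'⟩ := (h.nd i0).partner hs hs0 hQs
  have hC : ECtr Q M s := h.ectr_of_good h2 hQ hn hk ht hqk hHM hMI hgood hs hQs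
  have hQa : Q (s + s') = 1 := by rw [Q_add', hQs, hQs', hss']; ring
  have hQb : Q (s - s') = -1 := by rw [Q_sub, hQs, hQs', hss']; ring
  have hab : polar (⇑Q) (s + s') (s - s') = 0 := by
    rw [polar_add_left, polar_sub_right, polar_sub_right, polar_self', polar_self', hQs, hQs',
      polar_comm (⇑Q) s' s]
    ring
  obtain ⟨u, hu, hau, hbu, hQu, -⟩ := (h.nd i0).exists_perp2_avoid h2 (hdim i0)
    (by rw [h.fr]; exact hqk) ((D i0).add_mem hs hs') ((D i0).sub_mem hs hs')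
    (by rw [hQa]; exact one_ne_zero) (by rw [hQb]; simp) hab 0
  rw [polar_add_left] at hau
  rw [polar_sub_left] at hbu
  have hsu : polar (⇑Q) s u = 0 := by
    have h3 : 2 * polar (⇑Q) s u = 0 := by linear_combination hau + hbu
    exact (mul_eq_zero.1 h3).resolve_left h2
  have hs'u : polar (⇑Q) s' u = 0 := by
    have h3 : 2 * polar (⇑Q) s' u = 0 := by linear_combination hau - hbu
    exact (mul_eq_zero.1 h3).resolve_left h2
  have hE := h.eich_mem_H hQ hn hs' hu hQs' hs'u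
  have hC' := hC.conj (eichGL Q s' u hQs' hs'u) (hHM hE) (hMI _ (hHM hE))
  have hes : ((eichGL Q s' u hQs' hs'u : GL ι F) : Matrix ι ι F) *ᵥ s = s + u - Q u • s' := by
    change eichM Q s' u *ᵥ s = _
    rw [eichM_mulVec, polar_comm (⇑Q) s' s, hss', polar_comm (⇑Q) u s, hsu]
    simp
  have hβ : polar (⇑Q) s (((eichGL Q s' u hQs' hs'u : GL ι F) : Matrix ι ι F) *ᵥ s) ≠ 0 := by
    rw [hes, polar_sub_right, polar_add_right, polar_self', hQs, hsu, polar_smul_right, hss']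
    simpa using hQu
  exact (omegaGL_le_EG Q hQ hn).trans (EG_le_of_all Q (ECtr.all hQ hC hC' hβ))

end Final

end Cfsg.Agent.Helper97.ODec
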