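import Mathlib

set_option autoImplicit false
set_option linter.unusedSectionVars false
set_option linter.unusedSimpArgs false

namespace Cfsg.Agent.Helper97

open Matrix

variable {F : Type*} [Field F] {ι : Type*} [Fintype ι] [DecidableEq ι]

theorem vmv_sq (v φ : ι → F) (h : φ ⬝ᵥ v = 0) : vecMulVec v φ * vecMulVec v φ = 0 := by
  rw [vecMulVec_mul_vecMulVec, h, zero_smul, vecMulVec_zero]

/-- The transvection `1 + v φᵀ` (for `φ ⬝ᵥ v = 0`) as an element of `GL`. -/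
def tv (v φ : ι → F) (h : φ ⬝ᵥ v = 0) : GL ι F :=
  ⟨1 + vecMulVec v φ, 1 - vecMulVec v φ, by
    rw [mul_sub, mul_one, add_mul, one_mul, vmv_sq v φ h]; abel, by
    rw [sub_mul, one_mul, mul_add, mul_one, vmv_sq v φ h]; abel⟩

theorem tv_val (v φ : ι → F) (h : φ ⬝ᵥ v = 0) :
    ((tv v φ h : GL ι F) : Matrix ι ι F) = 1 + vecMulVec v φ := rfl

theorem tv_inv_val (v φ : ι → F) (h : φ ⬝ᵥ v = 0) :
    (((tv v φ h)⁻¹ : GL ι F) : Matrix ι ι F) = 1 - vecMulVec v φ := rfl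

theorem tv_mulVec (v φ : ι → F) (h : φ ⬝ᵥ v = 0) (x : ι → F) :
    ((tv v φ h : GL ι F) : Matrix ι ι F) *ᵥ x = x + (φ ⬝ᵥ x) • v := by
  rw [tv_val, add_mulVec, one_mulVec, vecMulVec_mulVec]
  congr 1
  ext i
  simp [mul_comm]

theorem tv_ext {v φ v' φ' : ι → F} {h : φ ⬝ᵥ v = 0} {h' : φ' ⬝ᵥ v' = 0}
    (heq : vecMulVec v φ = vecMulVec v' φ') : tv v φ h = tv v' φ' h' := by
  apply Units.ext
  rw [tv_val, tv_val, heq]

theorem tv_zero_left (φ : ι → F) : tv (0 : ι → F) φ (dotProduct_zero φ) = 1 := by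
  apply Units.ext
  rw [tv_val, zero_vecMulVec, add_zero]
  rfl

theorem tv_mul_same_center (v φ φ' : ι → F) (h : φ ⬝ᵥ v = 0) (h' : φ' ⬝ᵥ v = 0) :
    tv v φ h * tv v φ' h' = tv v (φ + φ') (by rw [add_dotProduct, h, h', add_zero]) := by
  apply Units.ext
  rw [Units.val_mul, tv_val, tv_val, tv_val, add_mul, one_mul, mul_add, mul_one,
    vecMulVec_mul_vecMulVec, h, zero_smul, vecMulVec_zero, add_zero, vecMulVec_add]
  abel

theorem tv_mul_same_axis (v v' φ : ι → F) (h : φ ⬝ᵥ v = 0) (h' : φ ⬝ᵥ v' = 0) :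
    tv v φ h * tv v' φ h' = tv (v + v') φ (by rw [dotProduct_add, h, h', add_zero]) := by
  apply Units.ext
  rw [Units.val_mul, tv_val, tv_val, tv_val, add_mul, one_mul, mul_add, mul_one,
    vecMulVec_mul_vecMulVec, h', zero_smul, vecMulVec_zero, add_zero, add_vecMulVec]
  abel

theorem tv_smul (c : F) (v φ : ι → F) (h : φ ⬝ᵥ (c • v) = 0) (h' : (c • φ) ⬝ᵥ v = 0) :
    tv (c • v) φ h = tv v (c • φ) h' := by
  apply tv_ext
  rw [smul_vecMulVec, vecMulVec_smul]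

theorem tv_conj (g : GL ι F) (v φ : ι → F) (h : φ ⬝ᵥ v = 0)
    (h' : (φ ᵥ* ((g⁻¹ : GL ι F) : Matrix ι ι F)) ⬝ᵥ ((g : Matrix ι ι F) *ᵥ v) = 0) :
    g * tv v φ h * g⁻¹ = tv ((g : Matrix ι ι F) *ᵥ v) (φ ᵥ* ((g⁻¹ : GL ι F) : Matrix ι ι F)) h' := by
  apply Units.ext
  rw [Units.val_mul, Units.val_mul, tv_val, tv_val, mul_add, mul_one, add_mul, ← Units.val_mul,
    mul_inv_cancel, Units.val_one, mul_vecMulVec, vecMulVec_mul]

theorem tv_conj_dot (g : GL ι F) (v φ : ι → F) (h : φ ⬝ᵥ v = 0) :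
    (φ ᵥ* ((g⁻¹ : GL ι F) : Matrix ι ι F)) ⬝ᵥ ((g : Matrix ι ι F) *ᵥ v) = 0 := by
  rw [← dotProduct_mulVec, mulVec_mulVec, ← Units.val_mul, inv_mul_cancel, Units.val_one, one_mulVec, h]

/-- Elementary transvections are transvections. -/
theorem transvection_eq_tv (i j : ι) (hij : i ≠ j) (c : F) :
    Matrix.transvection i j c =
      ((tv (Pi.single i c) (Pi.single j 1)
        (by rw [single_dotProduct, one_mul, Pi.single_eq_of_ne (Ne.symm hij)]) : GL ι F) : Matrix ι ι F) := by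
  rw [tv_val, Matrix.transvection]
  congr 1
  ext a b
  rw [vecMulVec_apply, Matrix.single_apply]
  by_cases ha : i = a
  · subst ha
    by_cases hb : j = b
    · subst hb
      simp
    · simp [hb, Pi.single_eq_of_ne (Ne.symm hb)]
  · simp [ha, Pi.single_eq_of_ne (Ne.symm ha)]

end Cfsg.Agent.Helper97
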