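import Mathlib
import Cfsg.Prelude.Def_GeometricClasses
import Cfsg.Agent.Lib.Helper97.Transvection

set_option autoImplicit false
set_option linter.unusedSectionVars false
set_option linter.unusedSimpArgs false
set_option linter.unusedVariables false

namespace Cfsg.Agent.Helper97

open Matrix Cfsg Cfsg.Geo
open scoped Kronecker

variable {F : Type*} [Field F] {ι : Type} [Fintype ι] [DecidableEq ι]
  {κ : Type} [Fintype κ] [DecidableEq κ]

/-- The group of invertible matrices preserving a two-variable function. -/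
def isoG (h : (κ → F) → (κ → F) → F) : Subgroup (GL κ F) where
  carrier := {g | ∀ x y, h ((g : Matrix κ κ F) *ᵥ x) ((g : Matrix κ κ F) *ᵥ y) = h x y}
  mul_mem' := by
    intro a b ha hb x y
    rw [Units.val_mul, ← Matrix.mulVec_mulVec, ← Matrix.mulVec_mulVec, ha, hb]
  one_mem' := by
    intro x y
    simp
  inv_mem' := by
    intro a ha x y
    have := ha (((a⁻¹ : GL κ F) : Matrix κ κ F) *ᵥ x) (((a⁻¹ : GL κ F) : Matrix κ κ F) *ᵥ y)
    rw [Matrix.mulVec_mulVec, Matrix.mulVec_mulVec, ← Units.val_mul, mul_inv_cancel,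
      Units.val_one, Matrix.one_mulVec, Matrix.one_mulVec] at this
    exact this.symm

theorem mem_isoG (h : (κ → F) → (κ → F) → F) (g : GL κ F) :
    g ∈ isoG h ↔ ∀ x y, h ((g : Matrix κ κ F) *ᵥ x) ((g : Matrix κ κ F) *ᵥ y) = h x y := Iff.rfl

/-- The special linear group on a general index type. -/
def slG (κ : Type) [Fintype κ] [DecidableEq κ] (F : Type*) [Field F] : Subgroup (GL κ F) :=
  (Matrix.GeneralLinearGroup.det : GL κ F →* Fˣ).ker

theorem mem_slG (g : GL κ F) : g ∈ slG κ F ↔ (g : Matrix κ κ F).det = 1 := by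
  unfold slG
  rw [MonoidHom.mem_ker]
  constructor
  · intro h
    have := congrArg Units.val h
    rwa [Matrix.GeneralLinearGroup.val_det_apply, Units.val_one] at this
  · intro h
    apply Units.ext
    rw [Matrix.GeneralLinearGroup.val_det_apply, Units.val_one, h]

theorem slG_eq_specialLinear : slG ι F = specialLinear ι F := rfl

theorem glReindex_val (e : ι ≃ κ) (g : GL κ F) (i j : ι) :
    ((glReindex e.symm g : GL ι F) : Matrix ι ι F) i j = (g : Matrix κ κ F) (e i) (e j) := by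
  simp [glReindex, Matrix.reindexAlgEquiv_apply, Matrix.reindex_apply, Matrix.submatrix_apply]

theorem glReindex_mulVec (e : ι ≃ κ) (g : GL κ F) (x : κ → F) :
    ((glReindex e.symm g : GL ι F) : Matrix ι ι F) *ᵥ (x ∘ e) =
      ((g : Matrix κ κ F) *ᵥ x) ∘ e := by
  ext i
  simp only [Matrix.mulVec, dotProduct, Function.comp_apply, glReindex_val]
  exact Equiv.sum_comp e (fun b => (g : Matrix κ κ F) (e i) b * x b)

theorem glReindex_det (e : ι ≃ κ) (g : GL κ F) :
    ((glReindex e.symm g : GL ι F) : Matrix ι ι F).det = (g : Matrix κ κ F).det := by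
  have : ((glReindex e.symm g : GL ι F) : Matrix ι ι F) =
      Matrix.reindex e.symm e.symm (g : Matrix κ κ F) := by
    ext i j
    rw [glReindex_val]
    simp [Matrix.reindex_apply, Matrix.submatrix_apply]
  rw [this, Matrix.det_reindex_self]

/-- The transport isomorphism from the Kronecker side to `GL ι F`. -/
def tphi (e : ι ≃ κ) (P : GL ι F) : GL κ F ≃* GL ι F :=
  (glReindex e.symm).trans (MulAut.conj P)

theorem tphi_apply (e : ι ≃ κ) (P : GL ι F) (g : GL κ F) :
    tphi e P g = P * glReindex e.symm g * P⁻¹ := rfl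

theorem tphi_mulVec (e : ι ≃ κ) (P : GL ι F) (g : GL κ F) (x : κ → F) :
    ((tphi e P g : GL ι F) : Matrix ι ι F) *ᵥ ((P : Matrix ι ι F) *ᵥ (x ∘ e)) =
      (P : Matrix ι ι F) *ᵥ (((g : Matrix κ κ F) *ᵥ x) ∘ e) := by
  rw [tphi_apply, Units.val_mul, Units.val_mul, Matrix.mulVec_mulVec, Matrix.mul_assoc,
    Matrix.mul_assoc, ← Units.val_mul, inv_mul_cancel, Units.val_one, Matrix.mul_one,
    ← Matrix.mulVec_mulVec, glReindex_mulVec]

theorem tphi_det (e : ι ≃ κ) (P : GL ι F) (g : GL κ F) :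
    ((tphi e P g : GL ι F) : Matrix ι ι F).det = (g : Matrix κ κ F).det := by
  rw [tphi_apply, Units.val_mul, Units.val_mul, Matrix.det_mul, Matrix.det_mul, glReindex_det,
    mul_comm, ← mul_assoc, ← Matrix.det_mul, ← Units.val_mul, inv_mul_cancel, Units.val_one,
    Matrix.det_one, one_mul]

theorem exists_rep (e : ι ≃ κ) (P : GL ι F) (u : ι → F) :
    ∃ x : κ → F, u = (P : Matrix ι ι F) *ᵥ (x ∘ e) := by
  refine ⟨(((P⁻¹ : GL ι F) : Matrix ι ι F) *ᵥ u) ∘ e.symm, ?_⟩
  have : ((((P⁻¹ : GL ι F) : Matrix ι ι F) *ᵥ u) ∘ e.symm) ∘ e =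
      ((P⁻¹ : GL ι F) : Matrix ι ι F) *ᵥ u := by
    ext i; simp
  rw [this, Matrix.mulVec_mulVec, ← Units.val_mul, mul_inv_cancel, Units.val_one,
    Matrix.one_mulVec]

/-- Isometries correspond under the transport. -/
theorem tphi_mem_preserving_iff (e : ι ≃ κ) (P : GL ι F) (f : (ι → F) → (ι → F) → F)
    (Ψ : (κ → F) → (κ → F) → F) (c : F) (hc : c ≠ 0)
    (hH : ∀ x y : κ → F, f ((P : Matrix ι ι F) *ᵥ (x ∘ e)) ((P : Matrix ι ι F) *ᵥ (y ∘ e)) =
      c * Ψ x y) (g : GL κ F) :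
    tphi e P g ∈ preserving (Units.coeHom (Matrix ι ι F)) f ↔ g ∈ isoG Ψ := by
  constructor
  · intro hg x y
    have h1 := hg ((P : Matrix ι ι F) *ᵥ (x ∘ e)) ((P : Matrix ι ι F) *ᵥ (y ∘ e))
    simp only [Units.coeHom_apply] at h1
    rw [tphi_mulVec, tphi_mulVec, hH, hH] at h1
    exact mul_left_cancel₀ hc h1
  · intro hg u v
    obtain ⟨x, rfl⟩ := exists_rep e P u
    obtain ⟨y, rfl⟩ := exists_rep e P v
    simp only [Units.coeHom_apply]
    rw [tphi_mulVec, tphi_mulVec, hH, hH, hg x y]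

theorem tphi_mem_sl_iff (e : ι ≃ κ) (P : GL ι F) (g : GL κ F) :
    tphi e P g ∈ specialLinear ι F ↔ g ∈ slG κ F := by
  rw [← slG_eq_specialLinear, mem_slG, mem_slG, tphi_det]

/-- The main transport: strict chains on the Kronecker side give strict chains in `GL ι F`. -/
theorem transport_chain (e : ι ≃ κ) (P : GL ι F) (T₀ J₀ K₀ : Subgroup (GL κ F))
    (I : Subgroup (GL ι F)) (hI : ∀ g, tphi e P g ∈ I ↔ g ∈ J₀)
    (h1 : T₀ ⊓ J₀ < K₀) (h2 : K₀ < J₀) :
    ∃ K : Subgroup (GL ι F), T₀.map (tphi e P).toMonoidHom ⊓ I < K ∧ K < I := by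
  have hinj : Function.Injective (tphi e P).toMonoidHom := (tphi e P).injective
  have hImap : I = J₀.map (tphi e P).toMonoidHom := by
    ext g
    constructor
    · intro hg
      refine ⟨(tphi e P).symm g, ?_, by simp⟩
      rw [SetLike.mem_coe, ← hI]
      simpa using hg
    · rintro ⟨g₀, hg₀, rfl⟩
      exact (hI g₀).mpr hg₀
  refine ⟨K₀.map (tphi e P).toMonoidHom, ?_, ?_⟩
  · rw [hImap, ← Subgroup.map_inf _ _ _ hinj]
    exact (Subgroup.map_lt_map_iff_of_injective hinj).mpr h1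
  · rw [hImap]
    exact (Subgroup.map_lt_map_iff_of_injective hinj).mpr h2

theorem tensorProductSubgroup_eq_map (n₁ n₂ : ℕ) (e : ι ≃ Fin n₁ × Fin n₂) (P : GL ι F) :
    tensorProductSubgroup n₁ n₂ e P = (kroneckerSubgroup n₁ n₂ F).map (tphi e P).toMonoidHom := by
  rw [tensorProductSubgroup, Subgroup.map_map]
  rfl

/-- Multiplying `P` on the right by a transported Kronecker element does not change the tensor
product subgroup. -/
theorem tensorProductSubgroup_mul (n₁ n₂ : ℕ) (e : ι ≃ Fin n₁ × Fin n₂) (P : GL ι F)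
    (k : GL (Fin n₁ × Fin n₂) F) (hk : k ∈ kroneckerSubgroup n₁ n₂ F) :
    tensorProductSubgroup n₁ n₂ e (P * glReindex e.symm k) = tensorProductSubgroup n₁ n₂ e P := by
  rw [tensorProductSubgroup_eq_map, tensorProductSubgroup_eq_map]
  ext g
  simp only [Subgroup.mem_map, MulEquiv.coe_toMonoidHom]
  constructor
  · rintro ⟨g₀, hg₀, rfl⟩
    refine ⟨k * g₀ * k⁻¹, Subgroup.mul_mem _ (Subgroup.mul_mem _ hk hg₀) (Subgroup.inv_mem _ hk), ?_⟩
    rw [tphi_apply, tphi_apply, map_mul, map_mul, map_inv]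
    group
  · rintro ⟨g₀, hg₀, rfl⟩
    refine ⟨k⁻¹ * g₀ * k, Subgroup.mul_mem _ (Subgroup.mul_mem _ (Subgroup.inv_mem _ hk) hg₀) hk, ?_⟩
    rw [tphi_apply, tphi_apply, map_mul, map_mul, map_inv]
    group

theorem tv_det (v φ : κ → F) (h : φ ⬝ᵥ v = 0) :
    ((tv v φ h : GL κ F) : Matrix κ κ F).det = 1 := by
  rw [tv_val, Matrix.vecMulVec_eq (ι := Unit), Matrix.det_one_add_replicateCol_mul_replicateRow,
    h, add_zero]

theorem tv_apply (v φ : κ → F) (h : φ ⬝ᵥ v = 0) (a b : κ) :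
    ((tv v φ h : GL κ F) : Matrix κ κ F) a b = (if a = b then 1 else 0) + v a * φ b := by
  rw [tv_val, Matrix.add_apply, Matrix.vecMulVec_apply, Matrix.one_apply]

end Cfsg.Agent.Helper97
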