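import Mathlib
import Cfsg.Prelude.Def_GeometricClasses
import Cfsg.Agent.Lib.Helper97.TensorForm
import Cfsg.Agent.S5667

set_option autoImplicit false
set_option linter.unusedSectionVars false
set_option linter.unusedSimpArgs false
set_option linter.unusedVariables false

namespace Cfsg.Agent.Helper97.OT3

open Matrix Cfsg Cfsg.Geo Cfsg.Agent.Helper97 Cfsg.Agent.S5667
open scoped Kronecker commutatorElement

section generic

variable {F : Type*} [Field F] {ι : Type} [Fintype ι] [DecidableEq ι]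
  {κ : Type} [Fintype κ] [DecidableEq κ]

/-- The coefficient functional of a reflection. -/
def reflFun (h : (κ → F) → (κ → F) → F) (v : κ → F) (c : F) : κ → F :=
  fun b => c * h (Pi.single b 1) v

theorem reflFun_dot {h : (κ → F) → (κ → F) → F} (hb : IsBilinearForm h) (v : κ → F) (c : F)
    (x : κ → F) : reflFun h v c ⬝ᵥ x = c * h x v := by
  rw [bil_expand_left hb x v, dotProduct, dotProduct, Finset.mul_sum]
  refine Finset.sum_congr rfl fun b _ => ?_
  simp only [reflFun]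
  ring

theorem reflB_aux (v φ : κ → F) (hv : φ ⬝ᵥ v = -2) :
    (1 + Matrix.vecMulVec v φ) * (1 + Matrix.vecMulVec v φ) = (1 : Matrix κ κ F) := by
  rw [Matrix.add_mul, Matrix.mul_add, Matrix.mul_add, Matrix.one_mul, Matrix.mul_one,
    Matrix.one_mul, Matrix.vecMulVec_mul_vecMulVec, hv]
  ext i j
  simp only [Matrix.add_apply, Matrix.vecMulVec_apply, Pi.smul_apply, smul_eq_mul]
  ring

/-- The reflection `x ↦ x + c h(x, v) v` (with `c h(v, v) = -2`) as an invertible matrix. -/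
def reflB {h : (κ → F) → (κ → F) → F} (hb : IsBilinearForm h) (v : κ → F) (c : F)
    (hc : c * h v v = -2) : GL κ F :=
  ⟨1 + Matrix.vecMulVec v (reflFun h v c), 1 + Matrix.vecMulVec v (reflFun h v c),
    reflB_aux v _ (by rw [reflFun_dot hb]; exact hc),
    reflB_aux v _ (by rw [reflFun_dot hb]; exact hc)⟩

theorem reflB_mulVec {h : (κ → F) → (κ → F) → F} (hb : IsBilinearForm h) (v : κ → F) (c : F)
    (hc : c * h v v = -2) (x : κ → F) :
    ((reflB hb v c hc : GL κ F) : Matrix κ κ F) *ᵥ x = x + (c * h x v) • v := by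
  show (1 + Matrix.vecMulVec v (reflFun h v c)) *ᵥ x = _
  rw [Matrix.add_mulVec, Matrix.one_mulVec, Matrix.vecMulVec_mulVec, reflFun_dot hb]
  ext i
  simp [mul_comm]

theorem reflB_inv_mulVec {h : (κ → F) → (κ → F) → F} (hb : IsBilinearForm h) (v : κ → F) (c : F)
    (hc : c * h v v = -2) (x : κ → F) :
    (((reflB hb v c hc)⁻¹ : GL κ F) : Matrix κ κ F) *ᵥ x = x + (c * h x v) • v :=
  reflB_mulVec hb v c hc x

theorem reflB_mem_isoG {h : (κ → F) → (κ → F) → F} (hb : IsBilinearForm h)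
    (hsym : ∀ x y, h x y = h y x) (v : κ → F) (c : F) (hc : c * h v v = -2) :
    reflB hb v c hc ∈ isoG h := by
  intro x y
  rw [reflB_mulVec, reflB_mulVec, hb.add_left, hb.add_right, hb.add_right, hb.smul_left,
    hb.smul_left, hb.smul_right, hb.smul_right, hsym v y]
  linear_combination (c * h x v * h y v) * hc

/-- Permutation matrices as invertible matrices. -/
def permGL (F : Type*) [Field F] (τ : Equiv.Perm κ) : GL κ F :=
  ⟨τ.permMatrix F, τ⁻¹.permMatrix F,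
    by rw [← Matrix.permMatrix_mul, inv_mul_cancel, Matrix.permMatrix_one],
    by rw [← Matrix.permMatrix_mul, mul_inv_cancel, Matrix.permMatrix_one]⟩

theorem permGL_mulVec (τ : Equiv.Perm κ) (x : κ → F) :
    ((permGL F τ : GL κ F) : Matrix κ κ F) *ᵥ x = x ∘ τ :=
  Matrix.permMatrix_mulVec τ

theorem permGL_inv_mulVec (τ : Equiv.Perm κ) (x : κ → F) :
    (((permGL F τ)⁻¹ : GL κ F) : Matrix κ κ F) *ᵥ x = x ∘ ⇑(τ⁻¹) :=
  Matrix.permMatrix_mulVec τ⁻¹

theorem comm_mulVec (a b : GL κ F) (x : κ → F) :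
    ((⁅a, b⁆ : GL κ F) : Matrix κ κ F) *ᵥ x =
      (a : Matrix κ κ F) *ᵥ ((b : Matrix κ κ F) *ᵥ (((a⁻¹ : GL κ F) : Matrix κ κ F) *ᵥ
        (((b⁻¹ : GL κ F) : Matrix κ κ F) *ᵥ x))) := by
  rw [commutatorElement_def, Units.val_mul, Units.val_mul, Units.val_mul, Matrix.mulVec_mulVec,
    Matrix.mulVec_mulVec, Matrix.mulVec_mulVec, Matrix.mul_assoc, Matrix.mul_assoc]

/-- Transport of strict chains below a commutator subgroup. -/
theorem transport_chain_comm (e : ι ≃ κ) (P : GL ι F) (T₀ J₀ K₀ : Subgroup (GL κ F))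
    (O : Subgroup (GL ι F)) (hO : ∀ g, tphi e P g ∈ O ↔ g ∈ J₀)
    (h1 : T₀ ⊓ ⁅J₀, J₀⁆ < K₀) (h2 : K₀ < ⁅J₀, J₀⁆) :
    ∃ K : Subgroup (GL ι F), T₀.map (tphi e P).toMonoidHom ⊓ ⁅O, O⁆ < K ∧ K < ⁅O, O⁆ := by
  have hinj : Function.Injective (tphi e P).toMonoidHom := (tphi e P).injective
  have hOmap : O = J₀.map (tphi e P).toMonoidHom := by
    ext g
    constructor
    · intro hg
      refine ⟨(tphi e P).symm g, ?_, by simp⟩
      rw [SetLike.mem_coe, ← hO]
      simpa using hg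
    · rintro ⟨g₀, hg₀, rfl⟩
      exact (hO g₀).mpr hg₀
  have hcomm : ⁅O, O⁆ = (⁅J₀, J₀⁆).map (tphi e P).toMonoidHom := by
    rw [Subgroup.map_commutator, ← hOmap]
  refine transport_chain e P T₀ ⁅J₀, J₀⁆ K₀ ⁅O, O⁆ ?_ h1 h2
  intro g
  rw [hcomm]
  exact Subgroup.mem_map_iff_mem hinj

theorem omegaGL_eq (Q : (ι → F) → F) :
    omegaGL Q = ⁅isometryGroup F Q, isometryGroup F Q⁆ :=
  Subgroup.map_subtype_commutator _

/-- In odd characteristic the isometries of a quadratic form are the isometries of its polar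
form. -/
theorem mem_isometryGroup_iff_polar (h2 : (2 : F) ≠ 0) (Q : (ι → F) → F)
    (hQ : ∀ (c : F) (v : ι → F), Q (c • v) = c ^ 2 * Q v) (g : GL ι F) :
    g ∈ isometryGroup F Q ↔
      g ∈ preserving (Units.coeHom (Matrix ι ι F)) (QuadraticMap.polar Q) := by
  have hpol : ∀ v : ι → F, QuadraticMap.polar Q v v = 2 * Q v := by
    intro v
    have := hQ 2 v
    rw [two_smul] at this
    rw [QuadraticMap.polar, this]
    ring
  constructor
  · intro hg u v
    have hg' : ∀ w, Q ((g : Matrix ι ι F) *ᵥ w) = Q w := fun w => hg w w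
    simp only [Units.coeHom_apply, QuadraticMap.polar]
    rw [← Matrix.mulVec_add, hg', hg', hg']
  · intro hg u _
    have := hg u u
    simp only [Units.coeHom_apply] at this ⊢
    rw [hpol, hpol] at this
    exact mul_left_cancel₀ h2 this

end generic

section blocks

variable {F : Type*} [Field F] {n₂ : ℕ}

/-- The `i`-th row block of a vector. -/
def row3 (x : Fin 3 × Fin n₂ → F) (i : Fin 3) : Fin n₂ → F := fun k => x (i, k)

/-- The vector with a single non-zero block. -/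
def blk (l : Fin 3) (y : Fin n₂ → F) : Fin 3 × Fin n₂ → F := fun p => if p.1 = l then y p.2 else 0

theorem row3_blk (l : Fin 3) (y : Fin n₂ → F) (i : Fin 3) :
    row3 (blk l y) i = if i = l then y else 0 := by
  ext k
  by_cases h : i = l
  · simp [row3, blk, h]
  · simp [row3, blk, h]

theorem row3_add (x y : Fin 3 × Fin n₂ → F) (i : Fin 3) : row3 (x + y) i = row3 x i + row3 y i := rfl

theorem row3_smul (a : F) (x : Fin 3 × Fin n₂ → F) (i : Fin 3) : row3 (a • x) i = a • row3 x i := rfl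

/-- The block-sum form. -/
def psiR (f₂ : (Fin n₂ → F) → (Fin n₂ → F) → F) (x y : Fin 3 × Fin n₂ → F) : F :=
  ∑ i : Fin 3, f₂ (row3 x i) (row3 y i)

theorem psiR_def (f₂ : (Fin n₂ → F) → (Fin n₂ → F) → F) (x y : Fin 3 × Fin n₂ → F) :
    psiR f₂ x y = f₂ (row3 x 0) (row3 y 0) + f₂ (row3 x 1) (row3 y 1) + f₂ (row3 x 2) (row3 y 2) := by
  rw [psiR, Fin.sum_univ_three]

theorem bil_psiR (f₂ : (Fin n₂ → F) → (Fin n₂ → F) → F) (hb : IsBilinearForm f₂) :
    IsBilinearForm (psiR f₂) where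
  add_left := by
    intro x x' y
    simp only [psiR_def, row3_add, hb.add_left]
    ring
  add_right := by
    intro x y y'
    simp only [psiR_def, row3_add, hb.add_right]
    ring
  smul_left := by
    intro a x y
    simp only [psiR_def, row3_smul, hb.smul_left]
    ring
  smul_right := by
    intro a x y
    simp only [psiR_def, row3_smul, hb.smul_right]
    ring

theorem psiR_symm (f₂ : (Fin n₂ → F) → (Fin n₂ → F) → F) (hsym : ∀ u v, f₂ u v = f₂ v u)
    (x y : Fin 3 × Fin n₂ → F) : psiR f₂ x y = psiR f₂ y x := by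
  simp only [psiR_def]
  rw [hsym (row3 x 0), hsym (row3 x 1), hsym (row3 x 2)]

/-- Support in a single block. -/
def suppIn (x : Fin 3 × Fin n₂ → F) (l : Fin 3) : Prop := ∀ i, i ≠ l → row3 x i = 0

theorem suppIn_blk (l : Fin 3) (y : Fin n₂ → F) : suppIn (blk l y) l := by
  intro i hi
  rw [row3_blk, if_neg hi]

/-- Block-monomial matrices (blocks indexed by the first coordinate), as a submonoid. -/
def bmRMonoid (F : Type*) [Field F] (n₂ : ℕ) : Submonoid (GL (Fin 3 × Fin n₂) F) where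
  carrier := {g | ∃ π : Fin 3 → Fin 3, ∀ l x, suppIn x l →
    suppIn ((g : Matrix (Fin 3 × Fin n₂) (Fin 3 × Fin n₂) F) *ᵥ x) (π l)}
  one_mem' := by
    refine ⟨id, fun l x hx => ?_⟩
    rw [Units.val_one, Matrix.one_mulVec]
    exact hx
  mul_mem' := by
    rintro g g' ⟨π, hπ⟩ ⟨π', hπ'⟩
    refine ⟨π ∘ π', fun l x hx => ?_⟩
    rw [Units.val_mul, ← Matrix.mulVec_mulVec]
    exact hπ _ _ (hπ' l x hx)

/-- Block-monomial matrices, as a subgroup (the ambient group is finite). -/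
def bmRGroup (F : Type*) [Field F] [Fintype F] (n₂ : ℕ) : Subgroup (GL (Fin 3 × Fin n₂) F) where
  toSubmonoid := bmRMonoid F n₂
  inv_mem' := by
    intro g hg
    classical
    have : Finite (GL (Fin 3 × Fin n₂) F) := inferInstance
    have hfin : IsOfFinOrder g := isOfFinOrder_of_finite g
    have hpos := hfin.orderOf_pos
    have : g⁻¹ = g ^ (orderOf g - 1) := by
      rw [inv_eq_iff_mul_eq_one, ← pow_succ', Nat.sub_add_cancel hpos, pow_orderOf_eq_one]
    rw [this]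
    exact (bmRMonoid F n₂).pow_mem hg _

theorem mem_bmRGroup [Fintype F] (g : GL (Fin 3 × Fin n₂) F) : g ∈ bmRGroup F n₂ ↔
    ∃ π : Fin 3 → Fin 3, ∀ l x, suppIn x l →
      suppIn ((g : Matrix (Fin 3 × Fin n₂) (Fin 3 × Fin n₂) F) *ᵥ x) (π l) := Iff.rfl

/-- Pure tensors. -/
def pureR (w : Fin 3 → F) (z : Fin n₂ → F) : Fin 3 × Fin n₂ → F := fun p => w p.1 * z p.2

theorem row3_pureR (w : Fin 3 → F) (z : Fin n₂ → F) (i : Fin 3) :
    row3 (pureR w z) i = w i • z := rfl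

theorem kron_mulVec_pureR (a : Matrix (Fin 3) (Fin 3) F) (b : Matrix (Fin n₂) (Fin n₂) F)
    (w : Fin 3 → F) (z : Fin n₂ → F) :
    (a ⊗ₖ b) *ᵥ pureR w z = pureR (a *ᵥ w) (b *ᵥ z) := by
  ext ⟨i, k⟩
  simp only [Matrix.mulVec, dotProduct, pureR, Matrix.kroneckerMap_apply, Fintype.sum_prod_type]
  rw [Finset.sum_mul_sum]
  refine Finset.sum_congr rfl fun j _ => Finset.sum_congr rfl fun l _ => ?_
  ring

theorem psiR_pureR (f₂ : (Fin n₂ → F) → (Fin n₂ → F) → F) (hb : IsBilinearForm f₂)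
    (w w' : Fin 3 → F) (z z' : Fin n₂ → F) :
    psiR f₂ (pureR w z) (pureR w' z') = (w 0 * w' 0 + w 1 * w' 1 + w 2 * w' 2) * f₂ z z' := by
  simp only [psiR_def, row3_pureR, hb.smul_left, hb.smul_right]
  ring

theorem blk_eq_pureR (l : Fin 3) (z : Fin n₂ → F) : blk l z = pureR (Pi.single l 1) z := by
  ext ⟨i, k⟩
  by_cases h : i = l
  · subst h; simp [blk, pureR]
  · simp [blk, pureR, Pi.single_apply, h]

end blocks

section core

variable {F : Type*} [Field F] [Fintype F] {n₂ : ℕ}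

theorem exists_norm_ne_zero (h2 : (2 : F) ≠ 0) (hn : 1 ≤ n₂)
    (f₂ : (Fin n₂ → F) → (Fin n₂ → F) → F) (hf : IsSymmetricForm f₂) :
    ∃ a : Fin n₂ → F, f₂ a a ≠ 0 := by
  by_contra hcon
  push Not at hcon
  have hb := hf.bilinear
  set z : Fin n₂ → F := Pi.single ⟨0, by omega⟩ 1 with hz
  have hz0 : z ≠ 0 := by
    intro h
    have := congrFun h ⟨0, by omega⟩
    simp [hz] at this
  obtain ⟨_, ⟨z', hzz'⟩⟩ := hf.nondegenerate z hz0
  apply hzz'
  have := hcon (z + z')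
  rw [hb.add_left, hb.add_right, hb.add_right, hcon z, hcon z', hf.symm z' z] at this
  have h' : 2 * f₂ z z' = 0 := by linear_combination this
  rcases mul_eq_zero.mp h' with h | h
  · exact absurd h h2
  · exact h

theorem kron_inf_le_bmR (hq : Fintype.card F = 3) (hn : 1 ≤ n₂)
    (f₂ : (Fin n₂ → F) → (Fin n₂ → F) → F) (hf : IsSymmetricForm f₂)
    (g : GL (Fin 3 × Fin n₂) F) (hg : g ∈ kroneckerSubgroup 3 n₂ F) (hiso : g ∈ isoG (psiR f₂)) :
    g ∈ bmRGroup F n₂ := by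
  have hb := hf.bilinear
  have h3 := three_eq_zero hq
  obtain ⟨a, b, hab⟩ := hg
  set z : Fin n₂ → F := Pi.single ⟨0, by omega⟩ 1 with hz
  have hz0 : z ≠ 0 := by
    intro h
    have := congrFun h ⟨0, by omega⟩
    simp [hz] at this
  obtain ⟨_, ⟨z', hzz'⟩⟩ := hf.nondegenerate z hz0
  set B := (a : Matrix (Fin 3) (Fin 3) F) with hB
  set μ := f₂ ((b : Matrix (Fin n₂) (Fin n₂) F) *ᵥ z) ((b : Matrix (Fin n₂) (Fin n₂) F) *ᵥ z') with hμ
  set ν := f₂ z z' with hν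
  have key : ∀ w w' : Fin 3 → F,
      ((B *ᵥ w) 0 * (B *ᵥ w') 0 + (B *ᵥ w) 1 * (B *ᵥ w') 1 + (B *ᵥ w) 2 * (B *ᵥ w') 2) * μ =
        (w 0 * w' 0 + w 1 * w' 1 + w 2 * w' 2) * ν := by
    intro w w'
    have := hiso (pureR w z) (pureR w' z')
    rw [hab, kron_mulVec_pureR, kron_mulVec_pureR, psiR_pureR f₂ hb, psiR_pureR f₂ hb] at this
    exact this
  have keyD : ∀ l l' : Fin 3, (B 0 l * B 0 l' + B 1 l * B 1 l' + B 2 l * B 2 l') * μ =
      (if l = l' then 1 else 0) * ν := by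
    intro l l'
    have := key (Pi.single l 1) (Pi.single l' 1)
    simp only [Matrix.mulVec_single_one, Matrix.col_apply] at this
    rw [this]
    congr 1
    fin_cases l <;> fin_cases l' <;> simp
  have hμ0 : μ ≠ 0 := by
    intro h
    have := keyD 0 0
    rw [h, mul_zero, if_pos rfl, one_mul] at this
    exact hzz' this.symm
  set lam := ν * μ⁻¹ with hlam
  have hlam0 : lam ≠ 0 := mul_ne_zero hzz' (inv_ne_zero hμ0)
  have hD : ∀ l l' : Fin 3, B 0 l * B 0 l' + B 1 l * B 1 l' + B 2 l * B 2 l' =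
      if l = l' then lam else 0 := by
    intro l l'
    have := keyD l l'
    have h' : B 0 l * B 0 l' + B 1 l * B 1 l' + B 2 l * B 2 l' =
        (if l = l' then 1 else 0) * ν * μ⁻¹ := by
      rw [← this, mul_assoc, mul_inv_cancel₀ hμ0, mul_one]
    rw [h']
    split_ifs
    · rw [one_mul]
    · rw [zero_mul, zero_mul]
  have hlam1 : lam = 1 := by
    rcases eq_one_or_neg_one hq lam hlam0 with h | h
    · exact h
    · exfalso
      have hBB : Bᵀ * B = -1 := by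
        ext l l'
        rw [Matrix.mul_apply, Fin.sum_univ_three, Matrix.neg_apply, Matrix.one_apply]
        simp only [Matrix.transpose_apply]
        rw [hD l l', h]
        split_ifs <;> simp
      have hdet := congrArg Matrix.det hBB
      rw [Matrix.det_mul, Matrix.det_transpose, Matrix.det_neg, Matrix.det_one] at hdet
      simp only [Fintype.card_fin] at hdet
      have hsq : B.det ^ 2 = -1 := by rw [pow_two, hdet]; ring
      rcases sq_zero_or_one hq B.det with h0 | h1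
      · rw [h0] at hsq
        have : (1 : F) = 0 := by linear_combination hsq
        exact one_ne_zero this
      · rw [h1] at hsq
        have : (1 : F) = 0 := by linear_combination h3 - hsq
        exact one_ne_zero this
  have hcolumn : ∀ l : Fin 3, ∃ k : Fin 3, ∀ k' : Fin 3, k' ≠ k → B k' l = 0 := by
    intro l
    have hsum := hD l l
    rw [if_pos rfl, hlam1] at hsum
    have hone : (1 : F) ≠ 0 := one_ne_zero
    have e0 : B 0 l * B 0 l = B 0 l ^ 2 := (pow_two _).symm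
    have e1 : B 1 l * B 1 l = B 1 l ^ 2 := (pow_two _).symm
    have e2 : B 2 l * B 2 l = B 2 l ^ 2 := (pow_two _).symm
    rw [e0, e1, e2] at hsum
    have hz : ∀ k, B k l ^ 2 = 0 → B k l = 0 := fun k h => pow_eq_zero_iff (two_ne_zero) |>.mp h
    rcases sq_zero_or_one hq (B 0 l) with h0 | h0 <;>
    rcases sq_zero_or_one hq (B 1 l) with h1 | h1 <;>
    rcases sq_zero_or_one hq (B 2 l) with h2 | h2 <;> rw [h0, h1, h2] at hsum
    · exfalso; apply hone; linear_combination -hsum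
    · refine ⟨2, fun k' hk' => ?_⟩
      fin_cases k'
      · exact hz 0 h0
      · exact hz 1 h1
      · exact absurd rfl hk'
    · refine ⟨1, fun k' hk' => ?_⟩
      fin_cases k'
      · exact hz 0 h0
      · exact absurd rfl hk'
      · exact hz 2 h2
    · exfalso; apply hone; linear_combination hsum
    · refine ⟨0, fun k' hk' => ?_⟩
      fin_cases k'
      · exact absurd rfl hk'
      · exact hz 1 h1
      · exact hz 2 h2
    · exfalso; apply hone; linear_combination hsum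
    · exfalso; apply hone; linear_combination hsum
    · exfalso; apply hone; linear_combination h3 - hsum
  choose π hπ using hcolumn
  rw [mem_bmRGroup]
  refine ⟨π, fun l x hx i hi => ?_⟩
  ext k
  rw [hab]
  simp only [row3, Matrix.mulVec, dotProduct, Fintype.sum_prod_type, Matrix.kroneckerMap_apply,
    Pi.zero_apply]
  refine Finset.sum_eq_zero fun j _ => Finset.sum_eq_zero fun k' _ => ?_
  by_cases hj : j = l
  · subst hj
    rw [hπ j i hi, zero_mul, zero_mul]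
  · have : x (j, k') = 0 := congrFun (hx j hj) k'
    rw [this, mul_zero]

end core

section witnesses

variable {F : Type*} [Field F] [Fintype F] {n₂ : ℕ}

/-- Block permutations. -/
def sperm (F : Type*) [Field F] (n₂ : ℕ) (σ : Equiv.Perm (Fin 3)) : GL (Fin 3 × Fin n₂) F :=
  permGL F (σ.prodCongr (Equiv.refl (Fin n₂)))

theorem row3_sperm (σ : Equiv.Perm (Fin 3)) (x : Fin 3 × Fin n₂ → F) (i : Fin 3) :
    row3 (((sperm F n₂ σ : GL (Fin 3 × Fin n₂) F) : Matrix (Fin 3 × Fin n₂) (Fin 3 × Fin n₂) F) *ᵥ x) i =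
      row3 x (σ i) := by
  rw [sperm, permGL_mulVec]
  rfl

theorem row3_sperm_inv (σ : Equiv.Perm (Fin 3)) (x : Fin 3 × Fin n₂ → F) (i : Fin 3) :
    row3 ((((sperm F n₂ σ)⁻¹ : GL (Fin 3 × Fin n₂) F) : Matrix (Fin 3 × Fin n₂) (Fin 3 × Fin n₂) F) *ᵥ x) i =
      row3 x (σ.symm i) := by
  rw [sperm, permGL_inv_mulVec]
  rfl

theorem sperm_mem_isoG (f₂ : (Fin n₂ → F) → (Fin n₂ → F) → F) (σ : Equiv.Perm (Fin 3)) :
    sperm F n₂ σ ∈ isoG (psiR f₂) := by
  intro x y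
  simp only [psiR, row3_sperm]
  exact Equiv.sum_comp σ (fun i => f₂ (row3 x i) (row3 y i))

theorem sperm_mem_bmR (σ : Equiv.Perm (Fin 3)) : sperm F n₂ σ ∈ bmRGroup F n₂ := by
  refine ⟨σ.symm, fun l x hx i hi => ?_⟩
  rw [row3_sperm]
  apply hx
  intro h
  apply hi
  rw [← h, Equiv.symm_apply_apply]

theorem psiR_blk_right (f₂ : (Fin n₂ → F) → (Fin n₂ → F) → F) (hb : IsBilinearForm f₂)
    (x : Fin 3 × Fin n₂ → F) (l : Fin 3) (a : Fin n₂ → F) :
    psiR f₂ x (blk l a) = f₂ (row3 x l) a := by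
  simp only [psiR_def, row3_blk]
  fin_cases l <;> simp [bil_zero_right hb]

theorem row3_reflB (f₂ : (Fin n₂ → F) → (Fin n₂ → F) → F) (hb : IsBilinearForm (psiR f₂))
    (v : Fin 3 × Fin n₂ → F) (c : F) (hc : c * psiR f₂ v v = -2) (x : Fin 3 × Fin n₂ → F) (i : Fin 3) :
    row3 (((reflB hb v c hc : GL (Fin 3 × Fin n₂) F) : Matrix (Fin 3 × Fin n₂) (Fin 3 × Fin n₂) F) *ᵥ x) i =
      row3 x i + (c * psiR f₂ x v) • row3 v i := by
  rw [reflB_mulVec, row3_add, row3_smul]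

theorem row3_reflB_inv (f₂ : (Fin n₂ → F) → (Fin n₂ → F) → F) (hb : IsBilinearForm (psiR f₂))
    (v : Fin 3 × Fin n₂ → F) (c : F) (hc : c * psiR f₂ v v = -2) (x : Fin 3 × Fin n₂ → F) (i : Fin 3) :
    row3 ((((reflB hb v c hc)⁻¹ : GL (Fin 3 × Fin n₂) F) : Matrix (Fin 3 × Fin n₂) (Fin 3 × Fin n₂) F) *ᵥ x) i =
      row3 x i + (c * psiR f₂ x v) • row3 v i := by
  rw [reflB_inv_mulVec, row3_add, row3_smul]

theorem reflB_blk_mem_bmR (f₂ : (Fin n₂ → F) → (Fin n₂ → F) → F) (hb₂ : IsBilinearForm f₂)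
    (hb : IsBilinearForm (psiR f₂)) (l : Fin 3) (a : Fin n₂ → F) (c : F)
    (hc : c * psiR f₂ (blk l a) (blk l a) = -2) : reflB hb (blk l a) c hc ∈ bmRGroup F n₂ := by
  refine ⟨id, fun l' x hx i hi => ?_⟩
  have hi' : i ≠ l' := hi
  rw [row3_reflB, psiR_blk_right f₂ hb₂, row3_blk, hx i hi', zero_add]
  by_cases hl : l = l'
  · subst hl
    rw [if_neg hi', smul_zero]
  · rw [hx l hl, bil_zero_left hb₂, mul_zero, zero_smul]

end witnesses

section witnesses2

variable {F : Type*} [Field F] [Fintype F] {n₂ : ℕ}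

theorem swap01_0 : (Equiv.swap (0 : Fin 3) 1) 0 = 1 := by decide
theorem swap01_1 : (Equiv.swap (0 : Fin 3) 1) 1 = 0 := by decide
theorem swap01_2 : (Equiv.swap (0 : Fin 3) 1) 2 = 2 := by decide
theorem swap12_0 : (Equiv.swap (1 : Fin 3) 2) 0 = 0 := by decide
theorem swap12_1 : (Equiv.swap (1 : Fin 3) 2) 1 = 2 := by decide
theorem swap12_2 : (Equiv.swap (1 : Fin 3) 2) 2 = 1 := by decide

theorem g2_row2 (f₂ : (Fin n₂ → F) → (Fin n₂ → F) → F) (hb₂ : IsBilinearForm f₂)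
    (hb : IsBilinearForm (psiR f₂)) (a : Fin n₂ → F) (c : F)
    (hc : c * psiR f₂ (blk 0 a) (blk 0 a) = -2) (z : Fin n₂ → F) :
    row3 (((⁅reflB hb (blk 0 a) c hc, sperm F n₂ (Equiv.swap 0 1)⁆ : GL (Fin 3 × Fin n₂) F) :
      Matrix (Fin 3 × Fin n₂) (Fin 3 × Fin n₂) F) *ᵥ blk 2 z) 2 = z := by
  simp only [comm_mulVec, row3_reflB, row3_reflB_inv, row3_sperm, row3_sperm_inv,
    psiR_blk_right f₂ hb₂, row3_blk, Equiv.symm_swap, swap01_0, swap01_1, swap01_2]
  simp [bil_zero_left hb₂]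

theorem g2_row0 (f₂ : (Fin n₂ → F) → (Fin n₂ → F) → F) (hb₂ : IsBilinearForm f₂)
    (hb : IsBilinearForm (psiR f₂)) (a : Fin n₂ → F) (c : F)
    (hc : c * psiR f₂ (blk 0 a) (blk 0 a) = -2) (z : Fin n₂ → F) :
    row3 (((⁅reflB hb (blk 0 a) c hc, sperm F n₂ (Equiv.swap 0 1)⁆ : GL (Fin 3 × Fin n₂) F) :
      Matrix (Fin 3 × Fin n₂) (Fin 3 × Fin n₂) F) *ᵥ blk 0 z) 0 = z + (c * f₂ z a) • a := by
  simp only [comm_mulVec, row3_reflB, row3_reflB_inv, row3_sperm, row3_sperm_inv,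
    psiR_blk_right f₂ hb₂, row3_blk, Equiv.symm_swap, swap01_0, swap01_1, swap01_2]
  simp [bil_zero_left hb₂]

theorem psiR_v (f₂ : (Fin n₂ → F) → (Fin n₂ → F) → F) (hb₂ : IsBilinearForm f₂)
    (hb : IsBilinearForm (psiR f₂)) (a : Fin n₂ → F) (x : Fin 3 × Fin n₂ → F) :
    psiR f₂ x (blk 0 a + blk 1 a) = f₂ (row3 x 0) a + f₂ (row3 x 1) a := by
  rw [hb.add_right, psiR_blk_right f₂ hb₂, psiR_blk_right f₂ hb₂]

theorem g3_row1 (f₂ : (Fin n₂ → F) → (Fin n₂ → F) → F) (hb₂ : IsBilinearForm f₂)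
    (hb : IsBilinearForm (psiR f₂)) (a : Fin n₂ → F) (c : F)
    (hc : c * psiR f₂ (blk 0 a + blk 1 a) (blk 0 a + blk 1 a) = -2) (y : Fin n₂ → F) :
    row3 (((⁅reflB hb (blk 0 a + blk 1 a) c hc, sperm F n₂ (Equiv.swap 1 2)⁆ :
      GL (Fin 3 × Fin n₂) F) : Matrix (Fin 3 × Fin n₂) (Fin 3 × Fin n₂) F) *ᵥ blk 2 y) 1 =
      (c * (c * f₂ y a * f₂ a a)) • a := by
  simp only [comm_mulVec, row3_reflB, row3_reflB_inv, row3_sperm, row3_sperm_inv,
    psiR_v f₂ hb₂ hb, row3_add, row3_blk, Equiv.symm_swap, swap12_0, swap12_1, swap12_2]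
  simp [bil_zero_left hb₂, hb₂.add_left, hb₂.smul_left]

theorem g3_row2 (f₂ : (Fin n₂ → F) → (Fin n₂ → F) → F) (hb₂ : IsBilinearForm f₂)
    (hb : IsBilinearForm (psiR f₂)) (a : Fin n₂ → F) (c : F)
    (hc : c * psiR f₂ (blk 0 a + blk 1 a) (blk 0 a + blk 1 a) = -2) (y : Fin n₂ → F) :
    row3 (((⁅reflB hb (blk 0 a + blk 1 a) c hc, sperm F n₂ (Equiv.swap 1 2)⁆ :
      GL (Fin 3 × Fin n₂) F) : Matrix (Fin 3 × Fin n₂) (Fin 3 × Fin n₂) F) *ᵥ blk 2 y) 2 =
      y + (c * f₂ y a) • a := by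
  simp only [comm_mulVec, row3_reflB, row3_reflB_inv, row3_sperm, row3_sperm_inv,
    psiR_v f₂ hb₂ hb, row3_add, row3_blk, Equiv.symm_swap, swap12_0, swap12_1, swap12_2]
  simp [bil_zero_left hb₂, hb₂.add_left, hb₂.smul_left]

end witnesses2

section chain

variable {F : Type*} [Field F] [Fintype F] {n₂ : ℕ}

theorem coreR (hq : Fintype.card F = 3) (hn : 2 ≤ n₂)
    (f₂ : (Fin n₂ → F) → (Fin n₂ → F) → F) (hf : IsSymmetricForm f₂) :
    ∃ K₀ : Subgroup (GL (Fin 3 × Fin n₂) F),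
      kroneckerSubgroup 3 n₂ F ⊓ ⁅isoG (psiR f₂), isoG (psiR f₂)⁆ < K₀ ∧
        K₀ < ⁅isoG (psiR f₂), isoG (psiR f₂)⁆ := by
  have hb := hf.bilinear
  have h3 := three_eq_zero hq
  have h2 := two_ne_zero' hq
  have hbΨ := bil_psiR f₂ hb
  have hsymΨ := psiR_symm f₂ hf.symm
  obtain ⟨a, had⟩ := exists_norm_ne_zero h2 (by omega) f₂ hf
  obtain ⟨d, hd⟩ : ∃ d, d = f₂ a a := ⟨_, rfl⟩
  rw [← hd] at had
  have hs : Cfsg.Agent.S5635.Sesq id f₂ :=
    ⟨hb.add_left, hb.add_right, hb.smul_left, hb.smul_right, fun x y => hf.symm y x⟩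
  obtain ⟨y', hy'0, hy'a⟩ := Cfsg.Agent.S5671.exists_kernel_vec hn f₂ hs a
  have ha0 : a ≠ 0 := by
    rintro rfl
    exact had (by rw [hd]; exact bil_zero_left hb 0)
  obtain ⟨k₀, hk₀⟩ : ∃ k, a k ≠ 0 := by
    by_contra hcon
    push Not at hcon
    exact ha0 (funext hcon)
  obtain ⟨k₁, hk₁⟩ : ∃ k, y' k ≠ 0 := by
    by_contra hcon
    push Not at hcon
    exact hy'0 (funext hcon)
  have hJ : ∀ σ, sperm F n₂ σ ∈ isoG (psiR f₂) := sperm_mem_isoG f₂
  -- second witness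
  have hZZ : psiR f₂ (blk 0 a) (blk 0 a) = d := by
    rw [psiR_blk_right f₂ hb, row3_blk, if_pos rfl, hd]
  have hc₂ : (-2 * d⁻¹) * psiR f₂ (blk 0 a) (blk 0 a) = -2 := by
    rw [hZZ, mul_assoc, inv_mul_cancel₀ had, mul_one]
  obtain ⟨g₂, hg₂⟩ : ∃ g : GL (Fin 3 × Fin n₂) F,
      g = ⁅reflB hbΨ (blk 0 a) (-2 * d⁻¹) hc₂, sperm F n₂ (Equiv.swap 0 1)⁆ := ⟨_, rfl⟩
  have hg₂Ω : g₂ ∈ ⁅isoG (psiR f₂), isoG (psiR f₂)⁆ := by
    rw [hg₂]
    exact Subgroup.commutator_mem_commutator (reflB_mem_isoG hbΨ hsymΨ _ _ _) (hJ _)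
  have hg₂bm : g₂ ∈ bmRGroup F n₂ := by
    have hR := reflB_blk_mem_bmR f₂ hb hbΨ 0 a _ hc₂
    have hs' := sperm_mem_bmR (F := F) (n₂ := n₂) (Equiv.swap 0 1)
    rw [hg₂, commutatorElement_def]
    exact (bmRGroup F n₂).mul_mem ((bmRGroup F n₂).mul_mem ((bmRGroup F n₂).mul_mem hR hs')
      ((bmRGroup F n₂).inv_mem hR)) ((bmRGroup F n₂).inv_mem hs')
  have hg₂not : g₂ ∉ kroneckerSubgroup 3 n₂ F := by
    rintro ⟨A, B, hAB⟩
    have hpure : ∀ (l : Fin 3) (z : Fin n₂ → F) (i : Fin 3),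
        row3 ((g₂ : Matrix (Fin 3 × Fin n₂) (Fin 3 × Fin n₂) F) *ᵥ blk l z) i =
          (A : Matrix (Fin 3) (Fin 3) F) i l • ((B : Matrix (Fin n₂) (Fin n₂) F) *ᵥ z) := by
      intro l z i
      rw [hAB, blk_eq_pureR, kron_mulVec_pureR, row3_pureR, Matrix.mulVec_single_one]
      rfl
    have E2 : ∀ z : Fin n₂ → F,
        (A : Matrix (Fin 3) (Fin 3) F) 2 2 • ((B : Matrix (Fin n₂) (Fin n₂) F) *ᵥ z) = z := by
      intro z
      rw [← hpure 2 z 2, hg₂, g2_row2 f₂ hb hbΨ]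
    have E0 : ∀ z : Fin n₂ → F,
        (A : Matrix (Fin 3) (Fin 3) F) 0 0 • ((B : Matrix (Fin n₂) (Fin n₂) F) *ᵥ z) =
          z + ((-2 * d⁻¹) * f₂ z a) • a := by
      intro z
      rw [← hpure 0 z 0, hg₂, g2_row0 f₂ hb hbΨ]
    have hA22 : (A : Matrix (Fin 3) (Fin 3) F) 2 2 ≠ 0 := by
      intro h
      have := E2 a
      rw [h, zero_smul] at this
      exact ha0 this.symm
    have hBz : ∀ z : Fin n₂ → F, (B : Matrix (Fin n₂) (Fin n₂) F) *ᵥ z =
        ((A : Matrix (Fin 3) (Fin 3) F) 2 2)⁻¹ • z := by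
      intro z
      conv_rhs => rw [← E2 z]
      rw [smul_smul, inv_mul_cancel₀ hA22, one_smul]
    obtain ⟨lam, hlam⟩ : ∃ lam : F, lam = (A : Matrix (Fin 3) (Fin 3) F) 0 0 *
        ((A : Matrix (Fin 3) (Fin 3) F) 2 2)⁻¹ := ⟨_, rfl⟩
    have E0' : ∀ z : Fin n₂ → F, lam • z = z + ((-2 * d⁻¹) * f₂ z a) • a := by
      intro z
      rw [← E0 z, hBz, smul_smul, hlam]
    have e1 := congrFun (E0' y') k₁
    have e2 := congrFun (E0' a) k₀
    simp only [Pi.smul_apply, Pi.add_apply, smul_eq_mul, hy'a, mul_zero, zero_mul, add_zero] at e1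
    simp only [Pi.smul_apply, Pi.add_apply, smul_eq_mul, ← hd] at e2
    have hl1 : lam = 1 := by
      have : lam * y' k₁ = 1 * y' k₁ := by rw [e1, one_mul]
      exact mul_right_cancel₀ hk₁ this
    have hl2 : lam = -1 := by
      have : lam * a k₀ = (-1) * a k₀ := by
        rw [e2]
        field_simp
        ring
      exact mul_right_cancel₀ hk₀ this
    rw [hl1] at hl2
    apply h2
    linear_combination hl2
  -- third witness
  have hvv : psiR f₂ (blk 0 a + blk 1 a) (blk 0 a + blk 1 a) = 2 * d := by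
    rw [psiR_v f₂ hb hbΨ, row3_add, row3_add, row3_blk, row3_blk, row3_blk, row3_blk, hd]
    simp
    ring
  have hc₃ : (-d⁻¹) * psiR f₂ (blk 0 a + blk 1 a) (blk 0 a + blk 1 a) = -2 := by
    rw [hvv]
    field_simp
  obtain ⟨g₃, hg₃⟩ : ∃ g : GL (Fin 3 × Fin n₂) F,
      g = ⁅reflB hbΨ (blk 0 a + blk 1 a) (-d⁻¹) hc₃, sperm F n₂ (Equiv.swap 1 2)⁆ := ⟨_, rfl⟩
  have hg₃Ω : g₃ ∈ ⁅isoG (psiR f₂), isoG (psiR f₂)⁆ := by
    rw [hg₃]
    exact Subgroup.commutator_mem_commutator (reflB_mem_isoG hbΨ hsymΨ _ _ _) (hJ _)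
  have hg₃not : g₃ ∉ bmRGroup F n₂ := by
    rintro ⟨π, hπ⟩
    have hsup := hπ 2 (blk 2 (a + y')) (suppIn_blk 2 _)
    have hya : f₂ (a + y') a = d := by rw [hb.add_left, hy'a, add_zero, hd]
    have r1 : row3 ((g₃ : Matrix (Fin 3 × Fin n₂) (Fin 3 × Fin n₂) F) *ᵥ blk 2 (a + y')) 1 = a := by
      rw [hg₃, g3_row1 f₂ hb hbΨ, hya, ← hd]
      have : -d⁻¹ * (-d⁻¹ * d * d) = 1 := by field_simp
      rw [this, one_smul]
    have r2 : row3 ((g₃ : Matrix (Fin 3 × Fin n₂) (Fin 3 × Fin n₂) F) *ᵥ blk 2 (a + y')) 2 = y' := by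
      rw [hg₃, g3_row2 f₂ hb hbΨ, hya]
      have : -d⁻¹ * d = -1 := by field_simp
      rw [this, neg_one_smul]
      abel
    by_cases hp : π 2 = 1
    · have := hsup 2 (by rw [hp]; decide)
      rw [r2] at this
      exact hy'0 this
    · have := hsup 1 (fun h => hp h.symm)
      rw [r1] at this
      exact ha0 this
  refine ⟨bmRGroup F n₂ ⊓ ⁅isoG (psiR f₂), isoG (psiR f₂)⁆, ?_, ?_⟩
  · refine lt_of_le_of_ne ?_ ?_
    · intro g hg
      exact ⟨kron_inf_le_bmR hq (by omega) f₂ hf g hg.1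
        (Subgroup.commutator_le_self _ hg.2), hg.2⟩
    · intro heq
      have : g₂ ∈ kroneckerSubgroup 3 n₂ F ⊓ ⁅isoG (psiR f₂), isoG (psiR f₂)⁆ := by
        rw [heq]
        exact ⟨hg₂bm, hg₂Ω⟩
      exact hg₂not this.1
  · refine lt_of_le_of_ne inf_le_right ?_
    intro heq
    have : g₃ ∈ bmRGroup F n₂ ⊓ ⁅isoG (psiR f₂), isoG (psiR f₂)⁆ := by
      rw [heq]
      exact hg₃Ω
    exact hg₃not this.1

end chain

section main

variable {F : Type*} [Field F] [Fintype F] {ι : Type} [Fintype ι] [DecidableEq ι] {n₂ : ℕ}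

/-- The tensor Gram form in terms of the second form. -/
theorem formOfGram_kronR (G₁ : Matrix (Fin 3) (Fin 3) F)
    (f₂ : (Fin n₂ → F) → (Fin n₂ → F) → F) (hb : IsBilinearForm f₂) (x y : Fin 3 × Fin n₂ → F) :
    formOfGram id (G₁ ⊗ₖ gramMatrix f₂) x y =
      ∑ i : Fin 3, ∑ j : Fin 3, G₁ i j * f₂ (row3 x i) (row3 y j) := by
  rw [formOfGram, Fintype.sum_prod_type]
  refine Finset.sum_congr rfl fun i _ => ?_
  have : ∀ k, ∑ b : Fin 3 × Fin n₂, x (i, k) * (G₁ ⊗ₖ gramMatrix f₂) (i, k) b * id (y b) =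
      ∑ j : Fin 3, ∑ l : Fin n₂, x (i, k) * (G₁ i j * gramMatrix f₂ k l) * y (j, l) := by
    intro k
    rw [Fintype.sum_prod_type]
    rfl
  simp_rw [this]
  rw [Finset.sum_comm]
  refine Finset.sum_congr rfl fun j _ => ?_
  rw [← bil_formOfGram_gram hb, formOfGram, Finset.mul_sum]
  refine Finset.sum_congr rfl fun k _ => ?_
  rw [Finset.mul_sum]
  refine Finset.sum_congr rfl fun l _ => ?_
  simp only [row3, id]
  ring

/-- Main theorem: over the field with three elements the `Ω`-part of the stabiliser of a tensor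
decomposition `3 ⊗ n₂` of symmetric forms is not maximal in `Ω`. -/
theorem tensor3_not_maximal (hq : Fintype.card F = 3) (Q : (ι → F) → F)
    (hQ : ∀ (c : F) (v : ι → F), Q (c • v) = c ^ 2 * Q v) (hn : 2 ≤ n₂)
    (e : ι ≃ Fin 3 × Fin n₂) (P : GL ι F)
    (f₁ : (Fin 3 → F) → (Fin 3 → F) → F) (f₂ : (Fin n₂ → F) → (Fin n₂ → F) → F)
    (hf₁ : IsSymmetricForm f₁) (hf₂ : IsSymmetricForm f₂)
    (hT : IsTensorFormStructure id (QuadraticMap.polar Q) f₁ f₂ e P) :
    ∃ K : Subgroup (GL ι F), tensorProductSubgroup 3 n₂ e P ⊓ omegaGL Q < K ∧ K < omegaGL Q := by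
  obtain ⟨c, hc, hH⟩ := hT
  have h2 := two_ne_zero' hq
  have hb₁ := hf₁.bilinear
  have hb₂ := hf₂.bilinear
  obtain ⟨ε, w₀, w₁, w₂, hε, h00, h11, h22, h01, h02, h12⟩ := exists_frame hq f₁ hf₁
  have h10 : f₁ w₁ w₀ = 0 := by rw [hf₁.symm]; exact h01
  have h20 : f₁ w₂ w₀ = 0 := by rw [hf₁.symm]; exact h02
  have h21 : f₁ w₂ w₁ = 0 := by rw [hf₁.symm]; exact h12
  set A : Matrix (Fin 3) (Fin 3) F :=
    Matrix.of fun r p => if p = 0 then w₀ r else if p = 1 then w₁ r else w₂ r with hA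
  have hAw : ∀ t : Fin 3 → F, A *ᵥ t = t 0 • w₀ + t 1 • w₁ + t 2 • w₂ := by
    intro t
    ext r
    simp [hA, Matrix.mulVec, dotProduct, Fin.sum_univ_three]
    ring
  have hinj : Function.Injective A.mulVec := by
    intro t t' htt
    have hd : A *ᵥ (t - t') = 0 := by
      rw [Matrix.mulVec_sub]; exact sub_eq_zero.mpr htt
    rw [hAw] at hd
    have e0 := congrArg (fun y => f₁ y w₀) hd
    have e1 := congrArg (fun y => f₁ y w₁) hd
    have e2 := congrArg (fun y => f₁ y w₂) hd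
    simp only [hb₁.add_left, hb₁.smul_left, h00, h11, h22, h01, h02, h12, h10, h20, h21,
      bil_zero_left hb₁, mul_zero, add_zero, zero_add] at e0 e1 e2
    ext i
    fin_cases i
    · rcases mul_eq_zero.mp e0 with h | h
      · exact sub_eq_zero.mp h
      · exact absurd h hε
    · rcases mul_eq_zero.mp e1 with h | h
      · exact sub_eq_zero.mp h
      · exact absurd h hε
    · rcases mul_eq_zero.mp e2 with h | h
      · exact sub_eq_zero.mp h
      · exact absurd h hε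
  have hunit : IsUnit A := Matrix.mulVec_injective_iff_isUnit.mp hinj
  set Au : GL (Fin 3) F := hunit.unit with hAu
  have hAuval : (Au : Matrix (Fin 3) (Fin 3) F) = A := hunit.unit_spec
  set k : GL (Fin 3 × Fin n₂) F := Cfsg.Agent.S5671.kronGL Au 1 with hk
  have hkrow : ∀ (x : Fin 3 × Fin n₂ → F) (i : Fin 3),
      row3 ((k : Matrix (Fin 3 × Fin n₂) (Fin 3 × Fin n₂) F) *ᵥ x) i =
        A i 0 • row3 x 0 + A i 1 • row3 x 1 + A i 2 • row3 x 2 := by
    intro x i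
    ext l
    simp only [row3, hk, Cfsg.Agent.S5671.kronGL_val, hAuval, Matrix.mulVec, dotProduct,
      Fintype.sum_prod_type, Fin.sum_univ_three, Matrix.kroneckerMap_apply, Units.val_one,
      Matrix.one_apply, Pi.add_apply, Pi.smul_apply, smul_eq_mul, mul_ite, mul_one, mul_zero,
      ite_mul, zero_mul, Finset.sum_ite_eq, Finset.mem_univ, if_true]
  set G₁ := gramMatrix f₁ with hG₁
  have E : ∀ u w : Fin 3 → F, f₁ u w =
      u 0 * G₁ 0 0 * w 0 + u 0 * G₁ 0 1 * w 1 + u 0 * G₁ 0 2 * w 2 +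
        (u 1 * G₁ 1 0 * w 0 + u 1 * G₁ 1 1 * w 1 + u 1 * G₁ 1 2 * w 2) +
        (u 2 * G₁ 2 0 * w 0 + u 2 * G₁ 2 1 * w 1 + u 2 * G₁ 2 2 * w 2) := by
    intro u w
    rw [← bil_formOfGram_gram hb₁ u w, formOfGram]
    simp only [Fin.sum_univ_three, id]
    rfl
  rw [E] at h00 h11 h22 h01 h02 h12 h10 h20 h21
  have hΨ : ∀ x y : Fin 3 × Fin n₂ → F,
      formOfGram id (G₁ ⊗ₖ gramMatrix f₂)
        ((k : Matrix (Fin 3 × Fin n₂) (Fin 3 × Fin n₂) F) *ᵥ x)
        ((k : Matrix (Fin 3 × Fin n₂) (Fin 3 × Fin n₂) F) *ᵥ y) = ε * psiR f₂ x y := by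
    intro x y
    rw [formOfGram_kronR G₁ f₂ hb₂]
    simp only [Fin.sum_univ_three, hkrow, hb₂.add_left, hb₂.add_right, hb₂.smul_left,
      hb₂.smul_right, psiR]
    have a00 : A 0 0 = w₀ 0 := by simp [hA]
    have a10 : A 1 0 = w₀ 1 := by simp [hA]
    have a20 : A 2 0 = w₀ 2 := by simp [hA]
    have a01 : A 0 1 = w₁ 0 := by simp [hA]
    have a11 : A 1 1 = w₁ 1 := by simp [hA]
    have a21 : A 2 1 = w₁ 2 := by simp [hA]
    have a02 : A 0 2 = w₂ 0 := by simp [hA]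
    have a12 : A 1 2 = w₂ 1 := by simp [hA]
    have a22 : A 2 2 = w₂ 2 := by simp [hA]
    rw [a00, a10, a20, a01, a11, a21, a02, a12, a22]
    linear_combination (f₂ (row3 x 0) (row3 y 0)) * h00 + (f₂ (row3 x 0) (row3 y 1)) * h01 +
      (f₂ (row3 x 0) (row3 y 2)) * h02 + (f₂ (row3 x 1) (row3 y 0)) * h10 +
      (f₂ (row3 x 1) (row3 y 1)) * h11 + (f₂ (row3 x 1) (row3 y 2)) * h12 +
      (f₂ (row3 x 2) (row3 y 0)) * h20 + (f₂ (row3 x 2) (row3 y 1)) * h21 +
      (f₂ (row3 x 2) (row3 y 2)) * h22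
  set P' : GL ι F := P * glReindex e.symm k with hP'
  have hH' : ∀ x y : Fin 3 × Fin n₂ → F,
      QuadraticMap.polar Q ((P' : Matrix ι ι F) *ᵥ (x ∘ e))
        ((P' : Matrix ι ι F) *ᵥ (y ∘ e)) = (c * ε) * psiR f₂ x y := by
    intro x y
    rw [hP', Units.val_mul, ← Matrix.mulVec_mulVec, ← Matrix.mulVec_mulVec, glReindex_mulVec,
      glReindex_mulVec, hH, hΨ, mul_assoc]
  have hT' : tensorProductSubgroup 3 n₂ e P' = tensorProductSubgroup 3 n₂ e P :=
    tensorProductSubgroup_mul 3 n₂ e P k (Cfsg.Agent.S5671.kronGL_mem _ _)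
  have hO : ∀ g, tphi e P' g ∈ isometryGroup F Q ↔ g ∈ isoG (psiR f₂) := fun g =>
    (mem_isometryGroup_iff_polar h2 Q hQ _).trans
      (tphi_mem_preserving_iff e P' _ _ (c * ε) (mul_ne_zero hc hε) hH' g)
  obtain ⟨K₀, hK1, hK2⟩ := coreR hq hn f₂ hf₂
  obtain ⟨K, h1, h2'⟩ := transport_chain_comm e P' (kroneckerSubgroup 3 n₂ F) _ K₀ _ hO hK1 hK2
  rw [← tensorProductSubgroup_eq_map, hT', ← omegaGL_eq] at h1
  rw [← omegaGL_eq] at h2'
  exact ⟨K, h1, h2'⟩

end main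

end Cfsg.Agent.Helper97.OT3
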