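import Mathlib

set_option autoImplicit false

namespace Cfsg.Agent.Helper97

variable {Ω : Type*} {ι : Type*}

/-- The permutations preserving the partition of `Ω` into the fibres of `f`. -/
def partSubgroup (f : Ω → ι) : Subgroup (Equiv.Perm Ω) where
  carrier := {g | ∀ x y : Ω, f x = f y ↔ f (g x) = f (g y)}
  mul_mem' {g h} hg hh := by
    intro x y
    rw [hh x y, hg (h x) (h y)]
    rfl
  one_mem' := by
    intro x y
    rfl
  inv_mem' {g} hg := by
    intro x y
    have := hg (g⁻¹ x) (g⁻¹ y)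
    simp only [Equiv.apply_symm_apply, Equiv.Perm.inv_def] at this
    exact this.symm

theorem mem_partSubgroup (f : Ω → ι) (g : Equiv.Perm Ω) :
    g ∈ partSubgroup f ↔ ∀ x y : Ω, f x = f y ↔ f (g x) = f (g y) := Iff.rfl

theorem closure_partSet (f : Ω → ι) :
    Subgroup.closure {g : Equiv.Perm Ω | ∀ x y : Ω, f x = f y ↔ f (g x) = f (g y)} = partSubgroup f :=
  Subgroup.closure_eq (partSubgroup f)

theorem swap_mem_partSubgroup [DecidableEq Ω] (f : Ω → ι) {x y : Ω} (h : f x = f y) :
    Equiv.swap x y ∈ partSubgroup f := by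
  have key : ∀ u, f (Equiv.swap x y u) = f u := by
    intro u
    by_cases hux : u = x
    · subst hux; simp [h]
    · by_cases huy : u = y
      · subst huy; simp [h]
      · rw [Equiv.swap_apply_of_ne_of_ne hux huy]
  intro u v
  rw [key u, key v]

/-- A uniform partition is a product. -/
theorem exists_equiv_prod [Finite Ω] {a b : ℕ} (f : Ω → Fin b)
    (hf : ∀ i : Fin b, Nat.card {x : Ω // f x = i} = a) :
    ∃ e : Ω ≃ Fin b × Fin a, ∀ x, (e x).1 = f x := by
  classical
  have ei : ∀ i : Fin b, {x : Ω // f x = i} ≃ Fin a := fun i => Finite.equivFinOfCardEq (hf i)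
  refine ⟨(Equiv.sigmaFiberEquiv f).symm.trans
    ((Equiv.sigmaCongrRight ei).trans (Equiv.sigmaEquivProd (Fin b) (Fin a))), fun x => ?_⟩
  rfl

theorem exists_perm_of_perm [Finite Ω] {a b : ℕ} (f : Ω → Fin b)
    (hf : ∀ i : Fin b, Nat.card {x : Ω // f x = i} = a) (σ : Equiv.Perm (Fin b)) :
    ∃ k ∈ partSubgroup f, ∀ x, f (k x) = σ (f x) := by
  obtain ⟨e, he⟩ := exists_equiv_prod f hf
  set k : Equiv.Perm Ω := e.trans ((Equiv.prodCongr σ (Equiv.refl (Fin a))).trans e.symm) with hk
  have hfk : ∀ x, f (k x) = σ (f x) := by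
    intro x
    rw [← he (k x), ← he x, hk]
    simp
  refine ⟨k, ?_, hfk⟩
  intro x y
  rw [hfk x, hfk y]
  exact σ.injective.eq_iff.symm

/-- Any subgroup strictly containing the stabiliser of a uniform partition is everything. -/
theorem eq_top_of_partSubgroup_lt [Finite Ω] [DecidableEq Ω] {a b : ℕ} (f : Ω → Fin b)
    (hf : ∀ i : Fin b, Nat.card {x : Ω // f x = i} = a) (L : Subgroup (Equiv.Perm Ω))
    (hL : partSubgroup f < L) : L = ⊤ := by
  -- the relation
  set R : Ω → Ω → Prop := fun x y => x = y ∨ Equiv.swap x y ∈ L with hR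
  have Rsymm : ∀ x y, R x y → R y x := by
    rintro x y (h | h)
    · exact Or.inl h.symm
    · exact Or.inr (Equiv.swap_comm x y ▸ h)
  have Rtrans : ∀ x y z, R x y → R y z → R x z := by
    intro x y z hxy hyz
    rcases hxy with rfl | hxy
    · exact hyz
    rcases hyz with rfl | hyz
    · exact Or.inr hxy
    by_cases hxz : x = z
    · exact Or.inl hxz
    by_cases hxy' : x = y
    · subst hxy'; exact Or.inr hyz
    right
    have h1 := Equiv.swap_mul_swap_mul_swap (x := x) (y := y) (z := z) hxy' hxz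
    have h2 : Equiv.swap y z * Equiv.swap x y * Equiv.swap y z ∈ L := L.mul_mem (L.mul_mem hyz hxy) hyz
    rw [h1, Equiv.swap_comm] at h2
    exact h2
  have RL : ∀ l ∈ L, ∀ x y, R x y → R (l x) (l y) := by
    intro l hl x y hxy
    rcases hxy with rfl | hxy
    · exact Or.inl rfl
    · right
      rw [Equiv.swap_apply_apply]
      exact L.mul_mem (L.mul_mem hl hxy) (L.inv_mem hl)
  have Rblock : ∀ x y, f x = f y → R x y := fun x y h => Or.inr (hL.le (swap_mem_partSubgroup f h))
  -- an element of L outside the stabiliser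
  obtain ⟨g, hgL, hgK⟩ := SetLike.exists_of_lt hL
  have hex : ∃ u v, f u ≠ f v ∧ R u v := by
    rw [mem_partSubgroup] at hgK
    simp only [not_forall] at hgK
    obtain ⟨x, y, hxy⟩ := hgK
    by_cases h1 : f x = f y
    · have h2 : f (g x) ≠ f (g y) := fun h => hxy ⟨fun _ => h, fun _ => h1⟩
      exact ⟨g x, g y, h2, RL g hgL x y (Rblock x y h1)⟩
    · have h2 : f (g x) = f (g y) := by
        by_contra h
        exact hxy ⟨fun h' => absurd h' h1, fun h' => absurd h' h⟩
      have := RL g⁻¹ (L.inv_mem hgL) (g x) (g y) (Rblock _ _ h2)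
      simp only [Equiv.Perm.inv_def, Equiv.symm_apply_apply] at this
      exact ⟨x, y, h1, this⟩
  obtain ⟨u, v, huv, hRuv⟩ := hex
  -- every point is related to u
  have hall : ∀ w, R u w := by
    intro w
    by_cases hwu : f w = f u
    · exact Rblock u w hwu.symm
    by_cases hwv : f w = f v
    · exact Rtrans u v w hRuv (Rblock v w hwv.symm)
    obtain ⟨k, hkK, hk⟩ := exists_perm_of_perm f hf (Equiv.swap (f v) (f w))
    have h1 : R (k u) (k v) := RL k (hL.le hkK) u v hRuv
    have h2 : f (k u) = f u := by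
      rw [hk u, Equiv.swap_apply_of_ne_of_ne huv (fun h => hwu h.symm)]
    have h3 : f (k v) = f w := by
      rw [hk v, Equiv.swap_apply_left]
    exact Rtrans u (k u) w (Rblock _ _ h2.symm) (Rtrans (k u) (k v) w h1 (Rblock _ _ h3))
  have hallR : ∀ x y, R x y := fun x y => Rtrans x u y (Rsymm u x (hall x)) (hall y)
  rw [eq_top_iff, ← Equiv.Perm.closure_isSwap, Subgroup.closure_le]
  rintro σ ⟨x, y, hxy, rfl⟩
  rcases hallR x y with h | h
  · exact absurd h hxy
  · exact h

theorem partSubgroup_ne_top [Finite Ω] [DecidableEq Ω] {a b : ℕ} (ha : 2 ≤ a) (hb : 2 ≤ b) (f : Ω → Fin b)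
    (hf : ∀ i : Fin b, Nat.card {x : Ω // f x = i} = a) : partSubgroup f ≠ ⊤ := by
  obtain ⟨e, he⟩ := exists_equiv_prod f hf
  intro htop
  set x : Ω := e.symm (⟨0, by omega⟩, ⟨0, by omega⟩) with hx
  set y : Ω := e.symm (⟨0, by omega⟩, ⟨1, by omega⟩) with hy
  set z : Ω := e.symm (⟨1, by omega⟩, ⟨0, by omega⟩) with hz
  have hfx : f x = ⟨0, by omega⟩ := by rw [← he x, hx]; simp
  have hfy : f y = ⟨0, by omega⟩ := by rw [← he y, hy]; simp
  have hfz : f z = ⟨1, by omega⟩ := by rw [← he z, hz]; simp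
  have hxy : x ≠ y := by
    intro h
    have := e.symm.injective h
    simp [Fin.ext_iff] at this
  have hxz : x ≠ z := by
    intro h
    have := e.symm.injective h
    simp [Fin.ext_iff] at this
  have hmem : Equiv.swap y z ∈ partSubgroup f := htop ▸ Subgroup.mem_top _
  have := (hmem x y).mp (hfx.trans hfy.symm)
  rw [Equiv.swap_apply_of_ne_of_ne hxy hxz, Equiv.swap_apply_left, hfx, hfz] at this
  simp [Fin.ext_iff] at this

theorem isCoatom_partSubgroup [Finite Ω] [DecidableEq Ω] {a b : ℕ} (ha : 2 ≤ a) (hb : 2 ≤ b) (f : Ω → Fin b)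
    (hf : ∀ i : Fin b, Nat.card {x : Ω // f x = i} = a) : IsCoatom (partSubgroup f) :=
  ⟨partSubgroup_ne_top ha hb f hf, fun L hL => eq_top_of_partSubgroup_lt f hf L hL⟩

end Cfsg.Agent.Helper97
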