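import Mathlib

set_option autoImplicit false

open scoped Pointwise
open MulAction

namespace Cfsg.Agent.Helper97

variable {Ω : Type*}

theorem range_ofSubtype_ne [DecidableEq Ω] (pt : Ω) :
    (Equiv.Perm.ofSubtype : Equiv.Perm {x : Ω // x ≠ pt} →* Equiv.Perm Ω).range =
      stabilizer (Equiv.Perm Ω) pt := by
  ext g
  rw [MonoidHom.mem_range, mem_stabilizer_iff, Equiv.Perm.smul_def]
  constructor
  · rintro ⟨h, rfl⟩
    exact Equiv.Perm.ofSubtype_apply_of_not_mem h (by simp)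
  · intro hg
    have h1 : ∀ x, g x ≠ pt ↔ x ≠ pt := by
      intro x
      rw [not_iff_not]
      constructor
      · intro h
        exact g.injective (h.trans hg.symm)
      · intro h
        rw [h, hg]
    refine ⟨Equiv.Perm.subtypePerm g h1, Equiv.Perm.ofSubtype_subtypePerm h1 ?_⟩
    intro x hx hxp
    exact hx (hxp ▸ hg)

/-- `Perm {x // x ≠ pt}` is the point stabiliser. -/
noncomputable def pointStabEquiv [DecidableEq Ω] (pt : Ω) :
    Equiv.Perm {x : Ω // x ≠ pt} ≃* stabilizer (Equiv.Perm Ω) pt :=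
  (MonoidHom.ofInjective (f := (Equiv.Perm.ofSubtype : Equiv.Perm {x : Ω // x ≠ pt} →* Equiv.Perm Ω))
    Equiv.Perm.ofSubtype_injective).trans (MulEquiv.subgroupCongr (range_ofSubtype_ne pt))

theorem pointStabEquiv_coe [DecidableEq Ω] (pt : Ω) (g : Equiv.Perm {x : Ω // x ≠ pt}) :
    ((pointStabEquiv pt g : stabilizer (Equiv.Perm Ω) pt) : Equiv.Perm Ω) = Equiv.Perm.ofSubtype g := rfl

theorem isCoatom_subgroupOf_stabilizer_point [Finite Ω] [DecidableEq Ω] (pt : Ω) (A : Set Ω)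
    (h1 : ∃ x ∈ A, x ≠ pt) (h2 : ∃ x, x ∉ A ∧ x ≠ pt) (h3 : Even (Nat.card Ω)) :
    IsCoatom ((stabilizer (Equiv.Perm Ω) pt ⊓ stabilizer (Equiv.Perm Ω) A).subgroupOf
      (stabilizer (Equiv.Perm Ω) pt)) := by
  classical
  rw [← (MulEquiv.comapSubgroup (pointStabEquiv pt)).isCoatom_iff]
  set A' : Set {x : Ω // x ≠ pt} := Subtype.val ⁻¹' A with hA'
  have heq : (MulEquiv.comapSubgroup (pointStabEquiv pt))
      ((stabilizer (Equiv.Perm Ω) pt ⊓ stabilizer (Equiv.Perm Ω) A).subgroupOf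
      (stabilizer (Equiv.Perm Ω) pt)) = stabilizer (Equiv.Perm {x : Ω // x ≠ pt}) A' := by
    ext g
    rw [MulEquiv.comapSubgroup_apply, Subgroup.mem_comap, Subgroup.mem_subgroupOf]
    change ((pointStabEquiv pt g : stabilizer (Equiv.Perm Ω) pt) : Equiv.Perm Ω) ∈ _ ↔ _
    rw [pointStabEquiv_coe, Subgroup.mem_inf, mem_stabilizer_set, mem_stabilizer_set]
    constructor
    · rintro ⟨_, h⟩ x
      have := h x.1
      rw [Equiv.Perm.smul_def, Equiv.Perm.ofSubtype_apply_of_mem g x.2] at this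
      exact this
    · intro h
      refine ⟨?_, fun x => ?_⟩
      · rw [mem_stabilizer_iff, Equiv.Perm.smul_def]
        exact Equiv.Perm.ofSubtype_apply_of_not_mem g (by simp)
      · by_cases hx : x = pt
        · rw [Equiv.Perm.smul_def, hx, Equiv.Perm.ofSubtype_apply_of_not_mem g (by simp)]
        · rw [Equiv.Perm.smul_def, Equiv.Perm.ofSubtype_apply_of_mem g hx]
          exact h ⟨x, hx⟩
  rw [heq]
  have : Fintype Ω := Fintype.ofFinite Ω
  apply Equiv.Perm.isCoatom_stabilizer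
  · obtain ⟨x, hxA, hx⟩ := h1
    exact ⟨⟨x, hx⟩, hxA⟩
  · obtain ⟨x, hxA, hx⟩ := h2
    exact ⟨⟨x, hx⟩, hxA⟩
  · intro h
    have hc : Nat.card {x : Ω // x ≠ pt} = Nat.card Ω - 1 := by
      rw [Nat.card_eq_fintype_card, Nat.card_eq_fintype_card]
      exact Set.card_ne_eq pt
    have hpos : 0 < Nat.card Ω := Nat.card_pos_iff.mpr ⟨⟨pt⟩, inferInstance⟩
    rw [hc] at h
    obtain ⟨k, hk⟩ := h3
    omega

end Cfsg.Agent.Helper97
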