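import Mathlib
import Cfsg.Prelude.Def_GeometricClasses

/-!
# Normal abelian subgroups of primitive irreducible linear groups act fixed-point-freely

A "Clifford-lite" argument avoiding homogeneous components: for `1 ≠ u ∈ A ⊴ G` abelian, a common
fixed space of conjugates of `u` that is minimal-nonzero gives a system of imprimitivity.
-/

set_option autoImplicit false
set_option linter.unusedSectionVars false
set_option linter.unusedVariables false

namespace Cfsg.Agent.Helper97.PrimSol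

open Matrix Cfsg.Geo Module

variable {F : Type*} [Field F] {ι : Type} [Fintype ι] [DecidableEq ι]

/-- the fixed space of an element of `GL` -/
def fixS (h : GL ι F) : Submodule F (ι → F) :=
  Module.End.eigenspace (Matrix.toLin' (h : Matrix ι ι F)) 1

theorem mem_fixS (h : GL ι F) (v : ι → F) : v ∈ fixS h ↔ (h : Matrix ι ι F) *ᵥ v = v := by
  unfold fixS
  rw [Module.End.mem_eigenspace_iff, one_smul, Matrix.toLin'_apply]

theorem gl_mul_mulVec (h k : GL ι F) (v : ι → F) :
    ((h * k : GL ι F) : Matrix ι ι F) *ᵥ v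
      = (h : Matrix ι ι F) *ᵥ ((k : Matrix ι ι F) *ᵥ v) := by
  rw [Units.val_mul, Matrix.mulVec_mulVec]

theorem gl_inv_mulVec_mulVec (h : GL ι F) (v : ι → F) :
    ((h⁻¹ : GL ι F) : Matrix ι ι F) *ᵥ ((h : Matrix ι ι F) *ᵥ v) = v := by
  rw [← gl_mul_mulVec, inv_mul_cancel, Units.val_one, Matrix.one_mulVec]

theorem gl_mulVec_inv_mulVec (h : GL ι F) (v : ι → F) :
    (h : Matrix ι ι F) *ᵥ (((h⁻¹ : GL ι F) : Matrix ι ι F) *ᵥ v) = v := by
  rw [← gl_mul_mulVec, mul_inv_cancel, Units.val_one, Matrix.one_mulVec]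

theorem gl_one_mulVec (v : ι → F) : ((1 : GL ι F) : Matrix ι ι F) *ᵥ v = v := by
  rw [Units.val_one, Matrix.one_mulVec]

/-- the translate of a subspace by an element of `GL` -/
def tr (h : GL ι F) (W : Submodule F (ι → F)) : Submodule F (ι → F) :=
  W.map (Matrix.toLin' (h : Matrix ι ι F))

theorem mem_tr (h : GL ι F) (W : Submodule F (ι → F)) (v : ι → F) :
    v ∈ tr h W ↔ ((h⁻¹ : GL ι F) : Matrix ι ι F) *ᵥ v ∈ W := by
  unfold tr
  constructor
  · rintro ⟨w, hw, rfl⟩
    rw [Matrix.toLin'_apply, gl_inv_mulVec_mulVec]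
    exact hw
  · intro hv
    exact ⟨_, hv, by rw [Matrix.toLin'_apply, gl_mulVec_inv_mulVec]⟩

theorem tr_one (W : Submodule F (ι → F)) : tr (1 : GL ι F) W = W := by
  ext v
  rw [mem_tr, inv_one, gl_one_mulVec]

theorem tr_mul (h k : GL ι F) (W : Submodule F (ι → F)) : tr (h * k) W = tr h (tr k W) := by
  ext v
  rw [mem_tr, mem_tr, mem_tr, _root_.mul_inv_rev, gl_mul_mulVec]

theorem tr_inv_tr (h : GL ι F) (W : Submodule F (ι → F)) : tr h⁻¹ (tr h W) = W := by
  rw [← tr_mul, inv_mul_cancel, tr_one]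

theorem tr_injective (h : GL ι F) {W W' : Submodule F (ι → F)} (e : tr h W = tr h W') :
    W = W' := by
  rw [← tr_inv_tr h W, e, tr_inv_tr]

theorem tr_mono (h : GL ι F) {W W' : Submodule F (ι → F)} (e : W ≤ W') : tr h W ≤ tr h W' :=
  Submodule.map_mono e

theorem tr_bot (h : GL ι F) : tr h (⊥ : Submodule F (ι → F)) = ⊥ := by
  unfold tr
  exact Submodule.map_bot _

theorem tr_ne_bot (h : GL ι F) {W : Submodule F (ι → F)} (hW : W ≠ ⊥) : tr h W ≠ ⊥ := by
  intro e
  apply hW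
  apply tr_injective h
  rw [e, tr_bot]

theorem toLin_gl_inj (h : GL ι F) : Function.Injective (Matrix.toLin' (h : Matrix ι ι F)) := by
  intro v w e
  rw [Matrix.toLin'_apply, Matrix.toLin'_apply] at e
  have := congrArg (fun z => ((h⁻¹ : GL ι F) : Matrix ι ι F) *ᵥ z) e
  simpa [gl_inv_mulVec_mulVec] using this

theorem finrank_tr (h : GL ι F) (W : Submodule F (ι → F)) :
    finrank F (tr h W) = finrank F W :=
  (Submodule.equivMapOfInjective _ (toLin_gl_inj h) W).finrank_eq.symm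

theorem conj_fix_iff (h c : GL ι F) (v : ι → F) :
    ((h * c * h⁻¹ : GL ι F) : Matrix ι ι F) *ᵥ v = v ↔
      (c : Matrix ι ι F) *ᵥ (((h⁻¹ : GL ι F) : Matrix ι ι F) *ᵥ v)
        = ((h⁻¹ : GL ι F) : Matrix ι ι F) *ᵥ v := by
  rw [gl_mul_mulVec, gl_mul_mulVec]
  constructor
  · intro hh
    have := congrArg (fun w => ((h⁻¹ : GL ι F) : Matrix ι ι F) *ᵥ w) hh
    simpa [gl_inv_mulVec_mulVec] using this
  · intro hh
    rw [hh, gl_mulVec_inv_mulVec]

theorem fixS_conj (h c : GL ι F) : fixS (h * c * h⁻¹) = tr h (fixS c) := by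
  ext v
  rw [mem_fixS, mem_tr, mem_fixS, conj_fix_iff]

theorem eq_one_of_fixS_eq_top {u : GL ι F} (h : fixS u = ⊤) : u = 1 := by
  apply Units.ext
  rw [Units.val_one]
  apply Matrix.toLin'.injective
  apply LinearMap.ext
  intro v
  rw [Matrix.toLin'_apply, Matrix.toLin'_one, LinearMap.id_apply]
  exact (mem_fixS u v).1 (by rw [h]; exact Submodule.mem_top)

/-- common fixed space of the conjugates `k u k⁻¹`, `k ∈ T` -/
def cfix (u : GL ι F) (T : Finset (GL ι F)) : Submodule F (ι → F) :=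
  ⨅ k ∈ T, fixS (k * u * k⁻¹)

theorem mem_cfix (u : GL ι F) (T : Finset (GL ι F)) (v : ι → F) :
    v ∈ cfix u T ↔ ∀ k ∈ T, ((k * u * k⁻¹ : GL ι F) : Matrix ι ι F) *ᵥ v = v := by
  unfold cfix
  simp only [Submodule.mem_iInf, mem_fixS]

theorem tr_cfix [DecidableEq (GL ι F)] (h u : GL ι F) (T : Finset (GL ι F)) :
    tr h (cfix u T) = cfix u (T.image (fun k => h * k)) := by
  ext v
  rw [mem_tr, mem_cfix, mem_cfix]
  constructor
  · intro hv k' hk'
    obtain ⟨k, hk, rfl⟩ := Finset.mem_image.1 hk'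
    have h1 := hv k hk
    have e : h * k * u * (h * k)⁻¹ = h * (k * u * k⁻¹) * h⁻¹ := by group
    rw [e, conj_fix_iff]
    exact h1
  · intro hv k hk
    have h1 := hv (h * k) (Finset.mem_image.2 ⟨k, hk, rfl⟩)
    have e : h * k * u * (h * k)⁻¹ = h * (k * u * k⁻¹) * h⁻¹ := by group
    rw [e, conj_fix_iff] at h1
    exact h1

theorem cfix_union [DecidableEq (GL ι F)] (u : GL ι F) (T T' : Finset (GL ι F)) :
    cfix u (T ∪ T') = cfix u T ⊓ cfix u T' := by
  ext v
  simp only [Submodule.mem_inf, mem_cfix, Finset.mem_union]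
  constructor
  · intro h
    exact ⟨fun k hk => h k (Or.inl hk), fun k hk => h k (Or.inr hk)⟩
  · rintro ⟨h1, h2⟩ k (hk | hk)
    · exact h1 k hk
    · exact h2 k hk

theorem cfix_singleton_one (u : GL ι F) : cfix u {1} = fixS u := by
  ext v
  rw [mem_cfix, mem_fixS]
  simp

theorem irr_apply {G : Subgroup (GL ι F)} (hirr : ActsIrreducibly (matrixSet G))
    (W : Submodule F (ι → F)) (hW : ∀ h ∈ G, tr h W ≤ W) : W = ⊥ ∨ W = ⊤ := by
  apply hirr W
  rintro s ⟨h, hh, rfl⟩
  exact hW h hh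



theorem tr_inf (h : GL ι F) (W W' : Submodule F (ι → F)) : tr h (W ⊓ W') = tr h W ⊓ tr h W' := by
  unfold tr
  exact Submodule.map_inf _ (toLin_gl_inj h)

theorem tr_iSup {κ : Sort*} (h : GL ι F) (W : κ → Submodule F (ι → F)) :
    tr h (⨆ i, W i) = ⨆ i, tr h (W i) := by
  unfold tr
  exact Submodule.map_iSup _ _

theorem mulVec_mem_tr (h : GL ι F) {W : Submodule F (ι → F)} {v : ι → F} (hv : v ∈ W) :
    (h : Matrix ι ι F) *ᵥ v ∈ tr h W := by
  rw [mem_tr, gl_inv_mulVec_mulVec]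
  exact hv

/-- abstract independence criterion -/
theorem indep_of_fix {t : ℕ} (D : Fin t → Submodule F (ι → F)) (B : Fin t → Set (GL ι F))
    (hD : ∀ i v, v ∈ D i ↔ ∀ b ∈ B i, (b : Matrix ι ι F) *ᵥ v = v)
    (hinv : ∀ i j, ∀ b ∈ B i, ∀ v ∈ D j, (b : Matrix ι ι F) *ᵥ v ∈ D j)
    (hdisj : ∀ i j, i ≠ j → D i ⊓ D j = ⊥) : iSupIndep D := by
  classical
  rw [iSupIndep_iff_finsetSum_eq_zero_imp_eq_zero]
  intro s
  induction' hn : s.card using Nat.strong_induction_on with n IH generalizing s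
  intro v hv hsum
  rcases s.eq_empty_or_nonempty with rfl | ⟨i₀, hi₀⟩
  · intro i hi
    exact absurd hi (Finset.notMem_empty i)
  have hcard : (s.erase i₀).card < n := by
    rw [← hn]
    exact Finset.card_erase_lt_of_mem hi₀
  have key : ∀ j ∈ s.erase i₀, v j = 0 := by
    intro j hj
    have hji : j ≠ i₀ := Finset.ne_of_mem_erase hj
    have hjs : j ∈ s := Finset.mem_of_mem_erase hj
    have hfix : ∀ b ∈ B i₀, (b : Matrix ι ι F) *ᵥ v j = v j := by
      intro b hb
      have h1 := IH (s.erase i₀).card hcard (s.erase i₀) rfl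
        (fun k => (b : Matrix ι ι F) *ᵥ v k - v k)
        (fun k hk => Submodule.sub_mem _ (hinv i₀ k b hb _ (hv k (Finset.mem_of_mem_erase hk)))
          (hv k (Finset.mem_of_mem_erase hk)))
        (by
          have h2 : ∑ k ∈ s, ((b : Matrix ι ι F) *ᵥ v k - v k) = 0 := by
            rw [Finset.sum_sub_distrib, ← Matrix.mulVec_sum, hsum, Matrix.mulVec_zero, sub_zero]
          rw [← Finset.add_sum_erase s _ hi₀] at h2
          have h3 : (b : Matrix ι ι F) *ᵥ v i₀ - v i₀ = 0 := by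
            rw [sub_eq_zero]
            exact (hD i₀ (v i₀)).1 (hv i₀ hi₀) b hb
          rw [h3, zero_add] at h2
          exact h2)
        j hj
      exact sub_eq_zero.1 h1
    have hmem : v j ∈ D i₀ ⊓ D j := ⟨(hD i₀ (v j)).2 hfix, hv j hjs⟩
    rw [hdisj i₀ j (Ne.symm hji)] at hmem
    exact (Submodule.mem_bot F).1 hmem
  intro i hi
  by_cases hii : i = i₀
  · subst hii
    rw [← Finset.add_sum_erase s _ hi, Finset.sum_eq_zero key, add_zero] at hsum
    exact hsum
  · exact key i (Finset.mem_erase.2 ⟨hii, hi⟩)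

end Cfsg.Agent.Helper97.PrimSol
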