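import Mathlib
import Cfsg.Prelude.Def_GeometricClasses
import Cfsg.Agent.Lib.Helper97.PrimSolA

/-!
# Clifford-lite: normal abelian subgroups of primitive irreducible groups act fixed-point-freely
-/

set_option autoImplicit false
set_option linter.unusedSectionVars false
set_option linter.unusedVariables false

namespace Cfsg.Agent.Helper97.PrimSolB

open Matrix Cfsg.Geo Module Cfsg.Agent.Helper97.PrimSol

variable {F : Type*} [Field F] {ι : Type} [Fintype ι] [DecidableEq ι]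

/-- existence of a maximal `T` -/
theorem exists_maxT [Finite F] [DecidableEq (GL ι F)] (G : Subgroup (GL ι F)) (u : GL ι F)
    (h0 : fixS u ≠ ⊥) :
    ∃ T : Finset (GL ι F), ((1 : GL ι F) ∈ T ∧ (∀ k ∈ T, k ∈ G) ∧ cfix u T ≠ ⊥) ∧
      ∀ T' : Finset (GL ι F), ((1 : GL ι F) ∈ T' ∧ (∀ k ∈ T', k ∈ G) ∧ cfix u T' ≠ ⊥) →
        T'.card ≤ T.card := by
  classical
  letI : Fintype (GL ι F) := Fintype.ofFinite _
  have hne : (Finset.univ.filter (fun T : Finset (GL ι F) =>
      (1 : GL ι F) ∈ T ∧ (∀ k ∈ T, k ∈ G) ∧ cfix u T ≠ ⊥)).Nonempty := by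
    refine ⟨{1}, ?_⟩
    rw [Finset.mem_filter]
    refine ⟨Finset.mem_univ _, Finset.mem_singleton_self _, ?_, ?_⟩
    · intro k hk
      rw [Finset.mem_singleton] at hk
      rw [hk]; exact G.one_mem
    · rw [cfix_singleton_one]; exact h0
  obtain ⟨T, hT, hmax⟩ := Finset.exists_max_image _ Finset.card hne
  refine ⟨T, (Finset.mem_filter.1 hT).2, fun T' hT' => hmax T' ?_⟩
  rw [Finset.mem_filter]
  exact ⟨Finset.mem_univ _, hT'⟩

theorem ti_of_maxT [DecidableEq (GL ι F)] (G : Subgroup (GL ι F)) (u : GL ι F)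
    (T : Finset (GL ι F))
    (hT : (1 : GL ι F) ∈ T ∧ (∀ k ∈ T, k ∈ G) ∧ cfix u T ≠ ⊥)
    (hmax : ∀ T' : Finset (GL ι F), ((1 : GL ι F) ∈ T' ∧ (∀ k ∈ T', k ∈ G) ∧ cfix u T' ≠ ⊥) →
        T'.card ≤ T.card)
    (h : GL ι F) (hh : h ∈ G) (hne : cfix u T ⊓ tr h (cfix u T) ≠ ⊥) :
    tr h (cfix u T) = cfix u T := by
  rw [tr_cfix] at hne ⊢
  rw [← cfix_union] at hne
  have hP : (1 : GL ι F) ∈ T ∪ T.image (fun k => h * k) ∧
      (∀ k ∈ T ∪ T.image (fun k => h * k), k ∈ G) ∧
      cfix u (T ∪ T.image (fun k => h * k)) ≠ ⊥ := by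
    refine ⟨Finset.mem_union_left _ hT.1, ?_, hne⟩
    intro k hk
    rcases Finset.mem_union.1 hk with hk | hk
    · exact hT.2.1 k hk
    · obtain ⟨k', hk', rfl⟩ := Finset.mem_image.1 hk
      exact G.mul_mem hh (hT.2.1 k' hk')
  have hle := hmax _ hP
  have heq : T = T ∪ T.image (fun k => h * k) :=
    Finset.eq_of_subset_of_card_le Finset.subset_union_left hle
  have hsub : T.image (fun k => h * k) ⊆ T := by
    intro k hk
    rw [heq]
    exact Finset.mem_union_right _ hk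
  have hcard : (T.image (fun k => h * k)).card = T.card :=
    Finset.card_image_of_injective _ (mul_right_injective h)
  have : T.image (fun k => h * k) = T :=
    Finset.eq_of_subset_of_card_le hsub (le_of_eq hcard.symm)
  rw [this]

/-- **Clifford-lite**: a non-identity element of an abelian normal subgroup of an irreducible
primitive linear group has no non-zero fixed vector. -/
theorem fixS_eq_bot_of_mem_normal_abelian [Finite F] {G : Subgroup (GL ι F)}
    (hirr : ActsIrreducibly (matrixSet G))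
    (hprim : ∀ (m t : ℕ) (D : Fin t → Submodule F (ι → F)), 2 ≤ t → IsMDecomposition m D →
      ¬ G ≤ decompositionStabilizer D)
    (A : Subgroup (GL ι F)) (hAG : A ≤ G) (hAn : ∀ h ∈ G, ∀ a ∈ A, h * a * h⁻¹ ∈ A)
    (hAc : ∀ a ∈ A, ∀ b ∈ A, a * b = b * a) (u : GL ι F) (huA : u ∈ A) (hu1 : u ≠ 1) :
    fixS u = ⊥ := by
  classical
  by_contra h0
  obtain ⟨T, hT, hmax⟩ := exists_maxT G u h0
  set Y := cfix u T with hYdef
  have hY0 : Y ≠ ⊥ := hT.2.2
  have hYle : Y ≤ fixS u := by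
    intro v hv
    rw [mem_fixS]
    have := (mem_cfix u T v).1 hv 1 hT.1
    simpa using this
  have hYtop : Y ≠ ⊤ := by
    intro e
    apply hu1
    apply eq_one_of_fixS_eq_top
    rw [eq_top_iff, ← e]; exact hYle
  have hTI : ∀ h ∈ G, Y ⊓ tr h Y ≠ ⊥ → tr h Y = Y :=
    fun h hh hne => ti_of_maxT G u T hT hmax h hh hne
  have hTI2 : ∀ h₁ ∈ G, ∀ h₂ ∈ G, tr h₁ Y ⊓ tr h₂ Y ≠ ⊥ → tr h₁ Y = tr h₂ Y := by
    intro h₁ hh₁ h₂ hh₂ hne
    have h1 : Y ⊓ tr (h₁⁻¹ * h₂) Y ≠ ⊥ := by
      intro e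
      apply hne
      have : tr h₁ (Y ⊓ tr (h₁⁻¹ * h₂) Y) = tr h₁ Y ⊓ tr h₂ Y := by
        rw [tr_inf, ← tr_mul, mul_inv_cancel_left]
      rw [← this, e, tr_bot]
    have h2 := hTI (h₁⁻¹ * h₂) (G.mul_mem (G.inv_mem hh₁) hh₂) h1
    have h3 : tr h₁ (tr (h₁⁻¹ * h₂) Y) = tr h₁ Y := by rw [h2]
    rw [← tr_mul, mul_inv_cancel_left] at h3
    exact h3.symm
  -- the translates
  have : Finite (Submodule F (ι → F)) :=
    Finite.of_injective (fun W : Submodule F (ι → F) => (W : Set (ι → F))) SetLike.coe_injective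
  let TT : Set (Submodule F (ι → F)) := {W | ∃ h ∈ G, W = tr h Y}
  have : Finite TT := Subtype.finite
  let t := Nat.card TT
  let e : TT ≃ Fin t := Finite.equivFin TT
  let D : Fin t → Submodule F (ι → F) := fun i => (e.symm i).1
  have hDmem : ∀ i, ∃ h ∈ G, D i = tr h Y := fun i => (e.symm i).2
  have hDinj : Function.Injective D := fun i j hij => e.symm.injective (Subtype.ext hij)
  have hDsurj : ∀ h ∈ G, ∃ i, D i = tr h Y := by
    intro h hh
    refine ⟨e ⟨tr h Y, h, hh, rfl⟩, ?_⟩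
    simp only [D, Equiv.symm_apply_apply]
  -- at least two translates
  have h2t : 2 ≤ t := by
    by_contra hlt
    have ht1 : t ≤ 1 := by omega
    obtain ⟨i, hi⟩ := hDsurj 1 G.one_mem
    rw [tr_one] at hi
    have hinvY : ∀ h ∈ G, tr h Y ≤ Y := by
      intro h hh
      obtain ⟨j, hj⟩ := hDsurj h hh
      have hij : i = j := Fin.ext (by have := i.2; have := j.2; omega)
      rw [← hj, ← hij, hi]
    rcases irr_apply hirr Y hinvY with h | h
    · exact hY0 h
    · exact hYtop h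
  have hfr : ∀ i, finrank F (D i) = finrank F Y := by
    intro i
    obtain ⟨h, hh, e'⟩ := hDmem i
    rw [e', finrank_tr]
  have hpos : 0 < finrank F Y :=
    Nat.pos_of_ne_zero (fun h => hY0 (Submodule.finrank_eq_zero.1 h))
  -- independence
  choose hh hhG hhD using hDmem
  have hindep : iSupIndep D := by
    apply indep_of_fix D (fun i => {b | ∃ k ∈ T, b = (hh i * k) * u * (hh i * k)⁻¹})
    · intro i v
      rw [hhD i, hYdef, tr_cfix, mem_cfix]
      constructor
      · rintro hv b ⟨k, hk, rfl⟩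
        exact hv _ (Finset.mem_image.2 ⟨k, hk, rfl⟩)
      · intro hv k' hk'
        obtain ⟨k, hk, rfl⟩ := Finset.mem_image.1 hk'
        exact hv _ ⟨k, hk, rfl⟩
    · rintro i j b ⟨k, hk, rfl⟩ v hv
      have hbA : (hh i * k) * u * (hh i * k)⁻¹ ∈ A :=
        hAn _ (G.mul_mem (hhG i) (hT.2.1 k hk)) u huA
      rw [hhD j, hYdef, tr_cfix, mem_cfix] at hv ⊢
      intro k' hk'
      obtain ⟨k₂, hk₂, rfl⟩ := Finset.mem_image.1 hk'
      have hb'A : (hh j * k₂) * u * (hh j * k₂)⁻¹ ∈ A :=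
        hAn _ (G.mul_mem (hhG j) (hT.2.1 k₂ hk₂)) u huA
      rw [← gl_mul_mulVec, hAc _ hb'A _ hbA, gl_mul_mulVec,
        hv _ (Finset.mem_image.2 ⟨k₂, hk₂, rfl⟩)]
    · intro i j hij
      by_contra hne
      apply hij
      apply hDinj
      rw [hhD i, hhD j]
      apply hTI2 _ (hhG i) _ (hhG j)
      rw [← hhD i, ← hhD j]
      exact hne
  -- the sum is everything
  have htop : iSup D = ⊤ := by
    have hS : ∀ h ∈ G, tr h (iSup D) ≤ iSup D := by
      intro h hh'
      rw [tr_iSup]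
      apply iSup_le
      intro i
      obtain ⟨j, hj⟩ := hDsurj (h * hh i) (G.mul_mem hh' (hhG i))
      show tr h (D i) ≤ iSup D
      rw [hhD i, ← tr_mul, ← hj]
      exact le_iSup D j
    rcases irr_apply hirr (iSup D) hS with h | h
    · exfalso
      obtain ⟨i, hi⟩ := hDsurj 1 G.one_mem
      rw [tr_one] at hi
      apply hY0
      rw [eq_bot_iff, ← h, ← hi]
      exact le_iSup D i
    · exact h
  -- G permutes the translates
  have hstab : G ≤ decompositionStabilizer D := by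
    intro g hg
    have hex : ∀ i, ∃ j, D j = tr g (D i) := by
      intro i
      obtain ⟨j, hj⟩ := hDsurj (g * hh i) (G.mul_mem hg (hhG i))
      exact ⟨j, by rw [hj, tr_mul, ← hhD i]⟩
    choose φ hφ using hex
    have hφinj : Function.Injective φ := by
      intro i i' hii
      apply hDinj
      apply tr_injective g
      rw [← hφ i, ← hφ i', hii]
    have hbij : Function.Bijective φ := Finite.injective_iff_bijective.1 hφinj
    show ∃ σ : Equiv.Perm (Fin t), ∀ i,
      (D i).map (Matrix.toLin' (g : Matrix ι ι F)) = D (σ i)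
    exact ⟨Equiv.ofBijective φ hbij, fun i => (hφ i).symm⟩
  exact hprim (finrank F Y) t D h2t ⟨h2t, hpos, hfr, hindep, htop⟩ hstab

end Cfsg.Agent.Helper97.PrimSolB
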