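import Mathlib
import Cfsg.Prelude.Def_GeometricClasses
import Cfsg.Agent.Lib.Helper97.PrimSolA
import Cfsg.Agent.Lib.Helper97.PrimSolB

/-!
# Fixed spaces in primitive soluble linear groups: `dim C_V(g) ≤ 3n/4`
-/

set_option autoImplicit false
set_option linter.unusedSectionVars false
set_option linter.unusedVariables false

namespace Cfsg.Agent.Helper97.PrimSolC

open Matrix Cfsg.Geo Module Cfsg.Agent.Helper97.PrimSol Cfsg.Agent.Helper97.PrimSolB

section grp

variable {Γ : Type*} [Group Γ]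

theorem keyK (g x z : Γ) (hz : g * z = z * g)
    (hz' : g * (x⁻¹ * z * x) = (x⁻¹ * z * x) * g) :
    (g⁻¹ * x * g * x⁻¹) * z = z * (g⁻¹ * x * g * x⁻¹) := by
  have h1 : g⁻¹ * z = z * g⁻¹ := (Commute.inv_left (show Commute g z from hz)).eq
  calc g⁻¹ * x * g * x⁻¹ * z = g⁻¹ * x * (g * (x⁻¹ * z * x)) * x⁻¹ := by group
    _ = g⁻¹ * x * ((x⁻¹ * z * x) * g) * x⁻¹ := by rw [hz']
    _ = (g⁻¹ * z) * (x * g * x⁻¹) := by group
    _ = (z * g⁻¹) * (x * g * x⁻¹) := by rw [h1]
    _ = z * (g⁻¹ * x * g * x⁻¹) := by group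

theorem comm_le_self (N : Subgroup Γ) : ⁅N, N⁆ ≤ N := by
  rw [Subgroup.commutator_le]
  intro a ha b hb
  rw [commutatorElement_def]
  exact N.mul_mem (N.mul_mem (N.mul_mem ha hb) (N.inv_mem ha)) (N.inv_mem hb)

theorem comm_normBy (G N : Subgroup Γ) (hNn : ∀ h ∈ G, ∀ a ∈ N, h * a * h⁻¹ ∈ N) :
    ∀ h ∈ G, ∀ a ∈ ⁅N, N⁆, h * a * h⁻¹ ∈ ⁅N, N⁆ := by
  intro h hh
  have hle : ⁅N, N⁆ ≤ (⁅N, N⁆).comap (MulAut.conj h).toMonoidHom := by
    rw [Subgroup.commutator_le]
    intro a ha b hb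
    rw [Subgroup.mem_comap, map_commutatorElement]
    apply Subgroup.commutator_mem_commutator
    · show (MulAut.conj h) a ∈ N
      rw [MulAut.conj_apply]
      exact hNn h hh a ha
    · show (MulAut.conj h) b ∈ N
      rw [MulAut.conj_apply]
      exact hNn h hh b hb
  intro a ha
  have := hle ha
  rw [Subgroup.mem_comap] at this
  exact this

theorem comm_ne_self (G N : Subgroup Γ) (hsol : Group.IsSolvable G) (hNG : N ≤ G)
    (hN : N ≠ ⊥) : ⁅N, N⁆ ≠ N := by
  have : Group.IsSolvable N :=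
    Group.isSolvable_of_isSolvable_injective (f := Subgroup.inclusion hNG)
      (Subgroup.inclusion_injective hNG)
  have : Nontrivial N := (Subgroup.nontrivial_iff_ne_bot N).2 hN
  have h := Group.IsSolvable.commutator_lt_top_of_nontrivial (G := N)
  have h2 : ⁅N, N⁆ < N := by
    rw [← N.range_subtype, MonoidHom.range_eq_map, ← Subgroup.map_commutator,
      Subgroup.map_subtype_lt_map_subtype]
    exact h
  exact ne_of_lt h2

theorem normBy_inf_centralizer (G N L : Subgroup Γ)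
    (hNn : ∀ h ∈ G, ∀ a ∈ N, h * a * h⁻¹ ∈ N) (hLn : ∀ h ∈ G, ∀ a ∈ L, h * a * h⁻¹ ∈ L) :
    ∀ h ∈ G, ∀ a ∈ N ⊓ Subgroup.centralizer (L : Set Γ),
      h * a * h⁻¹ ∈ N ⊓ Subgroup.centralizer (L : Set Γ) := by
  intro h hh a ha
  obtain ⟨haN, haC⟩ := Subgroup.mem_inf.1 ha
  refine Subgroup.mem_inf.2 ⟨hNn h hh a haN, ?_⟩
  rw [Subgroup.mem_centralizer_iff] at haC ⊢
  intro z hz
  have hz' : h⁻¹ * z * h ∈ L := by
    have := hLn h⁻¹ (G.inv_mem hh) z hz
    rwa [inv_inv] at this
  have h1 := haC _ hz'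
  calc z * (h * a * h⁻¹) = h * ((h⁻¹ * z * h) * a) * h⁻¹ := by group
    _ = h * (a * (h⁻¹ * z * h)) * h⁻¹ := by rw [h1]
    _ = h * a * h⁻¹ * z := by group

theorem exists_min_noncentralised [Finite Γ] (G : Subgroup Γ) (g : Γ)
    (hex : ¬ ∀ h ∈ G, g * h = h * g) :
    ∃ N : Subgroup Γ, N ≤ G ∧ (∀ h ∈ G, ∀ a ∈ N, h * a * h⁻¹ ∈ N) ∧
      (¬ ∀ a ∈ N, g * a = a * g) ∧
      ∀ L : Subgroup Γ, L ≤ N → L ≠ N → (∀ h ∈ G, ∀ a ∈ L, h * a * h⁻¹ ∈ L) →
        ∀ a ∈ L, g * a = a * g := by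
  have hfin : Finite (Subgroup Γ) :=
    Finite.of_injective (fun L : Subgroup Γ => (L : Set Γ)) SetLike.coe_injective
  let S : Set (Subgroup Γ) := {L | L ≤ G ∧ (∀ h ∈ G, ∀ a ∈ L, h * a * h⁻¹ ∈ L) ∧
      ¬ ∀ a ∈ L, g * a = a * g}
  have hne : S.Nonempty :=
    ⟨G, le_refl G, fun h hh a ha => G.mul_mem (G.mul_mem hh ha) (G.inv_mem hh), hex⟩
  have hwf : WellFounded ((· < ·) : Subgroup Γ → Subgroup Γ → Prop) := wellFounded_lt
  refine ⟨hwf.min S hne, (hwf.min_mem S hne).1, (hwf.min_mem S hne).2.1,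
    (hwf.min_mem S hne).2.2, ?_⟩
  intro L hLN hLne hLn
  by_contra hc
  have hLS : L ∈ S := ⟨hLN.trans (hwf.min_mem S hne).1, hLn, hc⟩
  exact hwf.not_lt_min S hLS (lt_of_le_of_ne hLN hLne)

end grp

variable {F : Type*} [Field F] {ι : Type} [Fintype ι] [DecidableEq ι]

/-- the linear algebra step -/
theorem four_le_of_two_le (g x : GL ι F)
    (hb : 2 * finrank F (fixS (g⁻¹ * x * g * x⁻¹)) ≤ Fintype.card ι) :
    4 * finrank F (fixS g) ≤ 3 * Fintype.card ι := by
  have hinf : fixS g ⊓ tr x (fixS g) ≤ fixS (g⁻¹ * x * g * x⁻¹) := by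
    rintro v ⟨hv1, hv2⟩
    rw [← fixS_conj] at hv2
    rw [SetLike.mem_coe, mem_fixS] at hv1 hv2
    rw [mem_fixS]
    have e : g⁻¹ * x * g * x⁻¹ = g⁻¹ * (x * g * x⁻¹) := by group
    rw [e, gl_mul_mulVec, hv2]
    conv_lhs => rw [← hv1]
    exact gl_inv_mulVec_mulVec g v
  have h1 := Submodule.finrank_sup_add_finrank_inf_eq (fixS g) (tr x (fixS g))
  rw [finrank_tr] at h1
  have h2 : finrank F ↥(fixS g ⊔ tr x (fixS g)) ≤ Fintype.card ι := by
    have := Submodule.finrank_le (fixS g ⊔ tr x (fixS g))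
    rwa [Module.finrank_fintype_fun_eq_card] at this
  have h3 := Submodule.finrank_mono hinf
  omega

/-- two conjugate subspaces meeting trivially have at most half the dimension -/
theorem two_le_of_disjoint_conj (y : GL ι F) (U : Submodule F (ι → F))
    (h : U ⊓ tr y U = ⊥) : 2 * finrank F U ≤ Fintype.card ι := by
  have h1 := Submodule.finrank_sup_add_finrank_inf_eq U (tr y U)
  rw [finrank_tr, h, finrank_bot] at h1
  have h2 : finrank F ↥(U ⊔ tr y U) ≤ Fintype.card ι := by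
    have := Submodule.finrank_le (U ⊔ tr y U)
    rwa [Module.finrank_fintype_fun_eq_card] at this
  omega

theorem fixS_bound [Finite F] (G : Subgroup (GL ι F)) (hsol : Group.IsSolvable G)
    (hirr : ActsIrreducibly (matrixSet G))
    (hprim : ∀ (m t : ℕ) (D : Fin t → Submodule F (ι → F)), 2 ≤ t → IsMDecomposition m D →
      ¬ G ≤ decompositionStabilizer D)
    (g : GL ι F) (hg : g ∈ G) (hg1 : g ≠ 1) :
    4 * finrank F (fixS g) ≤ 3 * Fintype.card ι := by
  by_cases hcen : ∀ h ∈ G, g * h = h * g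
  · -- g central
    have h0 : fixS g = ⊥ := by
      apply fixS_eq_bot_of_mem_normal_abelian hirr hprim
        (G ⊓ Subgroup.centralizer (G : Set (GL ι F))) inf_le_left
      · intro h hh a ha
        obtain ⟨haG, haC⟩ := Subgroup.mem_inf.1 ha
        rw [Subgroup.mem_centralizer_iff] at haC
        have : h * a * h⁻¹ = a := by
          rw [haC h hh, mul_inv_cancel_right]
        rw [this]
        exact ha
      · intro a ha b hb
        obtain ⟨haG, haC⟩ := Subgroup.mem_inf.1 ha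
        obtain ⟨hbG, hbC⟩ := Subgroup.mem_inf.1 hb
        rw [Subgroup.mem_centralizer_iff] at haC
        exact (haC b hbG).symm
      · refine Subgroup.mem_inf.2 ⟨hg, ?_⟩
        rw [Subgroup.mem_centralizer_iff]
        intro h hh
        exact (hcen h hh).symm
      · exact hg1
    rw [h0, finrank_bot]
    omega
  · obtain ⟨N, hNG, hNn, hNc, hmin⟩ := exists_min_noncentralised G g hcen
    have hNbot : N ≠ ⊥ := by
      rintro rfl
      apply hNc
      intro a ha
      rw [Subgroup.mem_bot] at ha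
      rw [ha, mul_one, one_mul]
    push Not at hNc
    obtain ⟨x, hxN, hxg⟩ := hNc
    have hu1 : g⁻¹ * x * g * x⁻¹ ≠ 1 := by
      intro e
      apply hxg
      have h3 : g⁻¹ * x * g = x := by
        have := congrArg (fun w => w * x) e
        simpa using this
      calc g * x = g * (g⁻¹ * x * g) := by rw [h3]
        _ = x * g := by group
    have huN : g⁻¹ * x * g * x⁻¹ ∈ N := by
      apply N.mul_mem _ (N.inv_mem hxN)
      have := hNn g⁻¹ (G.inv_mem hg) x hxN
      rwa [inv_inv] at this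
    apply four_le_of_two_le g x
    set u := g⁻¹ * x * g * x⁻¹ with hu
    -- the derived subgroup
    have hN'le : ⁅N, N⁆ ≤ N := comm_le_self N
    have hN'ne : ⁅N, N⁆ ≠ N := comm_ne_self G N hsol hNG hNbot
    have hN'n := comm_normBy G N hNn
    have hgN' : ∀ a ∈ ⁅N, N⁆, g * a = a * g := hmin _ hN'le hN'ne hN'n
    -- key property of u
    have hK : ∀ L : Subgroup (GL ι F), L ≤ N → L ≠ N →
        (∀ h ∈ G, ∀ a ∈ L, h * a * h⁻¹ ∈ L) → ∀ z ∈ L, u * z = z * u := by
      intro L hLN hLne hLn z hz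
      have hgL := hmin L hLN hLne hLn
      have hz' : x⁻¹ * z * x ∈ L := by
        have := hLn x⁻¹ (G.inv_mem (hNG hxN)) z hz
        rwa [inv_inv] at this
      exact keyK g x z (hgL z hz) (hgL _ hz')
    have hfinish : ∀ A : Subgroup (GL ι F), A ≤ G → (∀ h ∈ G, ∀ a ∈ A, h * a * h⁻¹ ∈ A) →
        (∀ a ∈ A, ∀ b ∈ A, a * b = b * a) → u ∈ A →
        2 * finrank F (fixS u) ≤ Fintype.card ι := by
      intro A hAG hAn hAc huA
      rw [fixS_eq_bot_of_mem_normal_abelian hirr hprim A hAG hAn hAc u huA hu1, finrank_bot]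
      omega
    by_cases hC1 : N ⊓ Subgroup.centralizer ((⁅N, N⁆ : Subgroup (GL ι F)) : Set (GL ι F)) = N
    · -- N' is central in N
      have hN'cen : ∀ n ∈ N, ∀ z ∈ ⁅N, N⁆, z * n = n * z := by
        intro n hn z hz
        have : n ∈ N ⊓ Subgroup.centralizer ((⁅N, N⁆ : Subgroup (GL ι F)) : Set (GL ι F)) := by
          rw [hC1]; exact hn
        exact Subgroup.mem_centralizer_iff.1 (Subgroup.mem_inf.1 this).2 z hz
      have hAn := normBy_inf_centralizer G N N hNn hNn
      have hAc : ∀ a ∈ N ⊓ Subgroup.centralizer (N : Set (GL ι F)),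
          ∀ b ∈ N ⊓ Subgroup.centralizer (N : Set (GL ι F)), a * b = b * a := by
        intro a ha b hb
        obtain ⟨haN, haC⟩ := Subgroup.mem_inf.1 ha
        obtain ⟨hbN, hbC⟩ := Subgroup.mem_inf.1 hb
        exact (Subgroup.mem_centralizer_iff.1 haC b hbN).symm
      by_cases huA : u ∈ N ⊓ Subgroup.centralizer (N : Set (GL ι F))
      · exact hfinish _ (inf_le_left.trans hNG) hAn hAc huA
      · have : ¬ ∀ y ∈ N, y * u = u * y := by
          intro hall
          apply huA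
          exact Subgroup.mem_inf.2 ⟨huN, Subgroup.mem_centralizer_iff.2 hall⟩
        push Not at this
        obtain ⟨y, hyN, hyu⟩ := this
        have hζN' : y * u * y⁻¹ * u⁻¹ ∈ ⁅N, N⁆ := by
          rw [← commutatorElement_def]
          exact Subgroup.commutator_mem_commutator hyN huN
        have hζ1 : y * u * y⁻¹ * u⁻¹ ≠ 1 := by
          intro e
          apply hyu
          have := congrArg (fun w => w * u * y) e
          simpa using this
        have hζA : y * u * y⁻¹ * u⁻¹ ∈ N ⊓ Subgroup.centralizer (N : Set (GL ι F)) := by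
          refine Subgroup.mem_inf.2 ⟨hN'le hζN', ?_⟩
          rw [Subgroup.mem_centralizer_iff]
          intro n hn
          exact (hN'cen n hn _ hζN').symm
        have hζfix := fixS_eq_bot_of_mem_normal_abelian hirr hprim _
          (inf_le_left.trans hNG) hAn hAc _ hζA hζ1
        apply two_le_of_disjoint_conj y
        rw [← fixS_conj, eq_bot_iff]
        rintro v ⟨hv1, hv2⟩
        rw [SetLike.mem_coe, mem_fixS] at hv1 hv2
        rw [← hζfix, mem_fixS]
        have e : y * u * y⁻¹ = (y * u * y⁻¹ * u⁻¹) * u := by group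
        rw [e, gl_mul_mulVec, hv1] at hv2
        exact hv2
    · -- C₁ is a proper normal subgroup
      have hC1n := normBy_inf_centralizer G N ⁅N, N⁆ hNn hN'n
      have hC1le : N ⊓ Subgroup.centralizer ((⁅N, N⁆ : Subgroup (GL ι F)) : Set (GL ι F)) ≤ N :=
        inf_le_left
      have huC1 : u ∈ N ⊓ Subgroup.centralizer ((⁅N, N⁆ : Subgroup (GL ι F)) : Set (GL ι F)) := by
        refine Subgroup.mem_inf.2 ⟨huN, ?_⟩
        rw [Subgroup.mem_centralizer_iff]
        intro z hz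
        exact (hK _ hN'le hN'ne hN'n z hz).symm
      have huC1c := hK _ hC1le hC1 hC1n
      set C₁ := N ⊓ Subgroup.centralizer ((⁅N, N⁆ : Subgroup (GL ι F)) : Set (GL ι F)) with hC₁
      apply hfinish (C₁ ⊓ Subgroup.centralizer (C₁ : Set (GL ι F)))
        (inf_le_left.trans (hC1le.trans hNG))
        (normBy_inf_centralizer G C₁ C₁ hC1n hC1n)
      · intro a ha b hb
        obtain ⟨haN, haC⟩ := Subgroup.mem_inf.1 ha
        obtain ⟨hbN, hbC⟩ := Subgroup.mem_inf.1 hb
        exact (Subgroup.mem_centralizer_iff.1 haC b hbN).symm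
      · refine Subgroup.mem_inf.2 ⟨huC1, ?_⟩
        rw [Subgroup.mem_centralizer_iff]
        intro z hz
        exact (huC1c z hz).symm

end Cfsg.Agent.Helper97.PrimSolC
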