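import Mathlib
import Cfsg.Prelude.Def_GeometricClasses
import Cfsg.Agent.Lib.Helper97.OrthTensor3
import Cfsg.Agent.S5638

set_option autoImplicit false
set_option linter.unusedSectionVars false
set_option linter.unusedSimpArgs false
set_option linter.unusedVariables false

namespace Cfsg.Agent.Helper97.QG

open Matrix Cfsg Cfsg.Geo Cfsg.Agent.Helper97 Cfsg.Agent.S5667 Cfsg.Agent.Helper97.OT3
open scoped commutatorElement

section basic

variable {F : Type*} [Field F] {ι : Type} [Fintype ι] [DecidableEq ι]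

local notation "B[" Q "]" => QuadraticMap.polar Q

theorem polar_symm (Q : (ι → F) → F) (u v : ι → F) : B[Q] u v = B[Q] v u :=
  QuadraticMap.polar_comm Q u v

theorem polar_self {Q : (ι → F) → F} (hQ : IsNondegenerateQuadraticForm Q) (v : ι → F) :
    B[Q] v v = 2 * Q v := by
  have := hQ.smul 2 v
  rw [two_smul] at this
  rw [QuadraticMap.polar, this]
  ring

theorem Q_add (Q : (ι → F) → F) (u v : ι → F) : Q (u + v) = Q u + Q v + B[Q] u v := by
  rw [QuadraticMap.polar]; ring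

theorem Q_zero {Q : (ι → F) → F} (hQ : IsNondegenerateQuadraticForm Q) : Q 0 = 0 := by
  have := hQ.smul 0 0
  rwa [zero_smul, zero_pow two_ne_zero, zero_mul] at this

theorem Q_add_smul {Q : (ι → F) → F} (hQ : IsNondegenerateQuadraticForm Q) (x v : ι → F) (t : F) :
    Q (x + t • v) = Q x + t ^ 2 * Q v + t * B[Q] x v := by
  rw [Q_add Q, hQ.smul, hQ.polar_bilinear.smul_right]

/-- The reflection (orthogonal transvection) in a non-singular vector. -/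
def rQ {Q : (ι → F) → F} (hQ : IsNondegenerateQuadraticForm Q) (v : ι → F) (hv : Q v ≠ 0) :
    GL ι F :=
  reflB hQ.polar_bilinear v (-(Q v)⁻¹) (by
    rw [polar_self hQ]
    field_simp)

theorem rQ_mulVec {Q : (ι → F) → F} (hQ : IsNondegenerateQuadraticForm Q) (v : ι → F)
    (hv : Q v ≠ 0) (x : ι → F) :
    ((rQ hQ v hv : GL ι F) : Matrix ι ι F) *ᵥ x = x + (-(Q v)⁻¹ * B[Q] x v) • v := by
  rw [rQ, reflB_mulVec]

theorem rQ_inv_mulVec {Q : (ι → F) → F} (hQ : IsNondegenerateQuadraticForm Q) (v : ι → F)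
    (hv : Q v ≠ 0) (x : ι → F) :
    (((rQ hQ v hv)⁻¹ : GL ι F) : Matrix ι ι F) *ᵥ x = x + (-(Q v)⁻¹ * B[Q] x v) • v := by
  rw [rQ, reflB_inv_mulVec]

theorem rQ_mem {Q : (ι → F) → F} (hQ : IsNondegenerateQuadraticForm Q) (v : ι → F)
    (hv : Q v ≠ 0) : rQ hQ v hv ∈ isometryGroup F Q := by
  intro x _
  simp only [Units.coeHom_apply]
  rw [rQ_mulVec, Q_add_smul hQ]
  field_simp
  ring

theorem mem_isometryGroup (Q : (ι → F) → F) (g : GL ι F) :
    g ∈ isometryGroup F Q ↔ ∀ x, Q ((g : Matrix ι ι F) *ᵥ x) = Q x := by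
  constructor
  · intro h x
    exact h x x
  · intro h x _
    exact h x

theorem isometry_polar {Q : (ι → F) → F} {g : GL ι F} (hg : g ∈ isometryGroup F Q)
    (x y : ι → F) : B[Q] ((g : Matrix ι ι F) *ᵥ x) ((g : Matrix ι ι F) *ᵥ y) = B[Q] x y := by
  have h := (mem_isometryGroup Q g).mp hg
  simp only [QuadraticMap.polar]
  rw [← Matrix.mulVec_add, h, h, h]

theorem comm_mem_omega {Q : (ι → F) → F} {a b : GL ι F} (ha : a ∈ isometryGroup F Q)
    (hb : b ∈ isometryGroup F Q) : ⁅a, b⁆ ∈ omegaGL Q := by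
  rw [omegaGL_eq]
  exact Subgroup.commutator_mem_commutator ha hb

theorem omega_le_isometry (Q : (ι → F) → F) : omegaGL Q ≤ isometryGroup F Q := by
  rw [omegaGL_eq]
  exact Subgroup.commutator_le_self _

/-- The polar form as a Mathlib bilinear form. -/
noncomputable def Bm {Q : (ι → F) → F} (hQ : IsNondegenerateQuadraticForm Q) :
    LinearMap.BilinForm F (ι → F) :=
  LinearMap.mk₂ F (B[Q]) hQ.polar_bilinear.add_left hQ.polar_bilinear.smul_left
    hQ.polar_bilinear.add_right hQ.polar_bilinear.smul_right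

theorem Bm_apply {Q : (ι → F) → F} (hQ : IsNondegenerateQuadraticForm Q) (x y : ι → F) :
    Bm hQ x y = B[Q] x y := rfl

theorem Bm_nondegenerate {Q : (ι → F) → F} (hQ : IsNondegenerateQuadraticForm Q) :
    (Bm hQ).Nondegenerate := by
  constructor
  · intro x hx
    by_contra hx0
    obtain ⟨_, ⟨y, hy⟩⟩ := hQ.nondegenerate x hx0
    exact hy (hx y)
  · intro y hy
    by_contra hy0
    obtain ⟨⟨x, hx⟩, _⟩ := hQ.nondegenerate y hy0
    exact hx (hy x)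

/-- A non-singular vector orthogonal to a small subspace. -/
theorem exists_nonsingular_orthogonal {Q : (ι → F) → F} (hQ : IsNondegenerateQuadraticForm Q)
    (S : Submodule F (ι → F)) (hS : 2 * Module.finrank F S < Fintype.card ι) :
    ∃ x, (∀ s ∈ S, B[Q] s x = 0) ∧ Q x ≠ 0 := by
  by_contra hcon
  push Not at hcon
  set K := (Bm hQ).orthogonal S with hK
  have hKQ : ∀ x ∈ K, Q x = 0 := fun x hx => hcon x (fun s hs => hx s hs)
  have hKK : K ≤ (Bm hQ).orthogonal K := by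
    intro x hx y hy
    show B[Q] y x = 0
    rw [QuadraticMap.polar, hKQ _ (K.add_mem hy hx), hKQ y hy, hKQ x hx]
    ring
  have h1 := LinearMap.BilinForm.finrank_orthogonal (Bm_nondegenerate hQ) S
  have h2 := LinearMap.BilinForm.finrank_orthogonal (Bm_nondegenerate hQ) K
  have h3 := Submodule.finrank_mono hKK
  have hV : Module.finrank F (ι → F) = Fintype.card ι := Module.finrank_fintype_fun_eq_card F
  have h4 : Module.finrank F S ≤ Module.finrank F (ι → F) := Submodule.finrank_le S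
  rw [← hK] at h1
  omega

end basic

section plane

variable {F : Type*} [Field F] {ι : Type} [Fintype ι] [DecidableEq ι]

local notation "B[" Q "]" => QuadraticMap.polar Q

theorem plane_basis {Q : (ι → F) → F} (hQ : IsNondegenerateQuadraticForm Q)
    (W : Submodule F (ι → F)) (hdim : Module.finrank F W = 2)
    (hW : IsNondegenerateOn (B[Q]) W) (hWp : IsPlusTypeOn Q W) :
    ∃ e f : ι → F, e ∈ W ∧ f ∈ W ∧ Q e = 0 ∧ Q f = 0 ∧ B[Q] e f = 1 ∧
      ∀ w ∈ W, ∃ α β : F, w = α • e + β • f := by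
  have hb := hQ.polar_bilinear
  obtain ⟨U, hUW, hUts, hUdim⟩ := hWp
  have hU1 : Module.finrank F U = 1 := by omega
  have hUne : U ≠ ⊥ := by
    intro h
    rw [h, finrank_bot] at hU1
    omega
  obtain ⟨e, heU, he0⟩ := Submodule.exists_mem_ne_zero_of_ne_bot hUne
  have heW : e ∈ W := hUW heU
  have hQe : Q e = 0 := hUts e heU
  obtain ⟨_, ⟨f', hf'W, hef'⟩⟩ := hW e heW he0
  obtain ⟨f'', hf''⟩ : ∃ f'' : ι → F, f'' = (B[Q] e f')⁻¹ • f' := ⟨_, rfl⟩
  have hf''W : f'' ∈ W := by rw [hf'']; exact W.smul_mem _ hf'W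
  have hef'' : B[Q] e f'' = 1 := by
    rw [hf'', hb.smul_right, inv_mul_cancel₀ hef']
  have hf''e : B[Q] f'' e = 1 := by rw [polar_symm]; exact hef''
  obtain ⟨f, hf⟩ : ∃ f : ι → F, f = f'' + (-Q f'') • e := ⟨_, rfl⟩
  have hfW : f ∈ W := by rw [hf]; exact W.add_mem hf''W (W.smul_mem _ heW)
  have hQf : Q f = 0 := by
    rw [hf, Q_add_smul hQ, hQe, hf''e]
    ring
  have hef : B[Q] e f = 1 := by
    rw [hf, hb.add_right, hb.smul_right, hef'', polar_self hQ, hQe]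
    ring
  have hfe : B[Q] f e = 1 := by rw [polar_symm]; exact hef
  have hee : B[Q] e e = 0 := by rw [polar_self hQ, hQe, mul_zero]
  have hff : B[Q] f f = 0 := by rw [polar_self hQ, hQf, mul_zero]
  refine ⟨e, f, heW, hfW, hQe, hQf, hef, ?_⟩
  have hli : LinearIndependent F ![e, f] := by
    rw [LinearIndependent.pair_iff]
    intro s t hst
    have e1 := congrArg (fun y => B[Q] y f) hst
    have e2 := congrArg (fun y => B[Q] y e) hst
    simp only [hb.add_left, hb.smul_left, hef, hff, hfe, hee, bil_zero_left hb, mul_one, mul_zero,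
      add_zero, zero_add] at e1 e2
    exact ⟨e1, e2⟩
  have hspan_le : Submodule.span F (Set.range ![e, f]) ≤ W := by
    rw [Submodule.span_le]
    rintro x ⟨i, rfl⟩
    fin_cases i
    · exact heW
    · exact hfW
  have hfr : Module.finrank F (Submodule.span F (Set.range ![e, f])) = 2 := by
    rw [finrank_span_eq_card hli]
    simp
  have hEq : Submodule.span F (Set.range ![e, f]) = W :=
    Submodule.eq_of_le_of_finrank_eq hspan_le (by rw [hfr, hdim])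
  intro w hw
  rw [← hEq, Matrix.range_cons_cons_empty, Submodule.mem_span_pair] at hw
  obtain ⟨α, β, h⟩ := hw
  exact ⟨α, β, h.symm⟩

end plane

section tools

variable {F : Type*} [Field F] {ι : Type} [Fintype ι] [DecidableEq ι]

local notation "B[" Q "]" => QuadraticMap.polar Q

theorem mem_subspaceStabilizer (W : Submodule F (ι → F)) (g : GL ι F) :
    g ∈ subspaceStabilizer W ↔ ∀ v, v ∈ W ↔ (g : Matrix ι ι F) *ᵥ v ∈ W := Iff.rfl

theorem inv_mulVec_mulVec (g : GL ι F) (x : ι → F) :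
    ((g⁻¹ : GL ι F) : Matrix ι ι F) *ᵥ ((g : Matrix ι ι F) *ᵥ x) = x := by
  rw [Matrix.mulVec_mulVec, ← Units.val_mul, inv_mul_cancel, Units.val_one, Matrix.one_mulVec]

theorem mem_stab_span_of_smul (g : GL ι F) (v : ι → F) (c : F) (hc : c ≠ 0)
    (hg : (g : Matrix ι ι F) *ᵥ v = c • v) : g ∈ subspaceStabilizer (Submodule.span F {v}) := by
  have hinv : ((g⁻¹ : GL ι F) : Matrix ι ι F) *ᵥ v = c⁻¹ • v := by
    have := inv_mulVec_mulVec g v
    rw [hg, Matrix.mulVec_smul] at this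
    calc ((g⁻¹ : GL ι F) : Matrix ι ι F) *ᵥ v
        = c⁻¹ • (c • ((g⁻¹ : GL ι F) : Matrix ι ι F) *ᵥ v) := by
          rw [smul_smul, inv_mul_cancel₀ hc, one_smul]
      _ = c⁻¹ • v := by rw [this]
  rw [mem_subspaceStabilizer]
  intro x
  simp only [Submodule.mem_span_singleton]
  constructor
  · rintro ⟨t, rfl⟩
    exact ⟨t * c, by rw [Matrix.mulVec_smul, hg, smul_smul]⟩
  · rintro ⟨t, ht⟩
    refine ⟨t * c⁻¹, ?_⟩
    have := inv_mulVec_mulVec g x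
    rw [← ht, Matrix.mulVec_smul, hinv, smul_smul] at this
    exact this

theorem rQ_fix {Q : (ι → F) → F} (hQ : IsNondegenerateQuadraticForm Q) (v : ι → F)
    (hv : Q v ≠ 0) (x : ι → F) (h : B[Q] x v = 0) :
    ((rQ hQ v hv : GL ι F) : Matrix ι ι F) *ᵥ x = x := by
  rw [rQ_mulVec, h, mul_zero, zero_smul, add_zero]

theorem rQ_step {Q : (ι → F) → F} (hQ : IsNondegenerateQuadraticForm Q) (v : ι → F)
    (hv : Q v ≠ 0) (x : ι → F) (t : F) (ht : B[Q] x v = -t * Q v) :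
    ((rQ hQ v hv : GL ι F) : Matrix ι ι F) *ᵥ x = x + t • v := by
  rw [rQ_mulVec, ht]
  congr 2
  field_simp

theorem rQ_comm_mulVec {Q : (ι → F) → F} (hQ : IsNondegenerateQuadraticForm Q) (v v' : ι → F)
    (hv : Q v ≠ 0) (hv' : Q v' ≠ 0) (x : ι → F) :
    ((⁅rQ hQ v hv, rQ hQ v' hv'⁆ : GL ι F) : Matrix ι ι F) *ᵥ x =
      ((rQ hQ v hv : GL ι F) : Matrix ι ι F) *ᵥ (((rQ hQ v' hv' : GL ι F) : Matrix ι ι F) *ᵥ
        (((rQ hQ v hv : GL ι F) : Matrix ι ι F) *ᵥ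
          (((rQ hQ v' hv' : GL ι F) : Matrix ι ι F) *ᵥ x))) := by
  rw [comm_mulVec]
  rfl

theorem exists_nonsingular_orthogonal_finset {Q : (ι → F) → F}
    (hQ : IsNondegenerateQuadraticForm Q) (s : Finset (ι → F))
    (hs : 2 * s.card < Fintype.card ι) :
    ∃ x, (∀ v ∈ s, B[Q] v x = 0) ∧ Q x ≠ 0 := by
  have h1 : Module.finrank F (Submodule.span F (s : Set (ι → F))) ≤ s.card :=
    finrank_span_finset_le_card s
  obtain ⟨x, hx, hQx⟩ := exists_nonsingular_orthogonal hQ (Submodule.span F (s : Set (ι → F)))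
    (by omega)
  exact ⟨x, fun v hv => hx v (Submodule.subset_span hv), hQx⟩

end tools

section coords

variable {F : Type*} [Field F] {ι : Type} [Fintype ι] [DecidableEq ι]

local notation "B[" Q "]" => QuadraticMap.polar Q

/-- Vectors in the span of four given vectors, by coordinates. -/
def vec4 (e f a₁ a₂ : ι → F) (α β γ η : F) : ι → F := α • e + β • f + γ • a₁ + η • a₂

/-- Gram data of a hyperbolic pair `e, f` and two further vectors orthogonal to it. -/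
structure Quad4 (Q : (ι → F) → F) (e f a₁ a₂ : ι → F) (p₁ p₂ r : F) : Prop where
  Qe : Q e = 0
  Qf : Q f = 0
  ef : B[Q] e f = 1
  Qa₁ : Q a₁ = p₁
  Qa₂ : Q a₂ = p₂
  ea₁ : B[Q] e a₁ = 0
  fa₁ : B[Q] f a₁ = 0
  ea₂ : B[Q] e a₂ = 0
  fa₂ : B[Q] f a₂ = 0
  a₁a₂ : B[Q] a₁ a₂ = r

theorem Quad4.polar {Q : (ι → F) → F} (hQ : IsNondegenerateQuadraticForm Q)
    {e f a₁ a₂ : ι → F} {p₁ p₂ r : F} (h : Quad4 Q e f a₁ a₂ p₁ p₂ r)
    (α β γ η α' β' γ' η' : F) :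
    B[Q] (vec4 e f a₁ a₂ α β γ η) (vec4 e f a₁ a₂ α' β' γ' η') =
      α * β' + β * α' + 2 * p₁ * γ * γ' + 2 * p₂ * η * η' + r * (γ * η' + η * γ') := by
  have hb := hQ.polar_bilinear
  have hfe : B[Q] f e = 1 := by rw [polar_symm]; exact h.ef
  have hee : B[Q] e e = 0 := by rw [polar_self hQ, h.Qe, mul_zero]
  have hff : B[Q] f f = 0 := by rw [polar_self hQ, h.Qf, mul_zero]
  have h11 : B[Q] a₁ a₁ = 2 * p₁ := by rw [polar_self hQ, h.Qa₁]
  have h22 : B[Q] a₂ a₂ = 2 * p₂ := by rw [polar_self hQ, h.Qa₂]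
  have h1e : B[Q] a₁ e = 0 := by rw [polar_symm]; exact h.ea₁
  have h1f : B[Q] a₁ f = 0 := by rw [polar_symm]; exact h.fa₁
  have h2e : B[Q] a₂ e = 0 := by rw [polar_symm]; exact h.ea₂
  have h2f : B[Q] a₂ f = 0 := by rw [polar_symm]; exact h.fa₂
  have h21 : B[Q] a₂ a₁ = r := by rw [polar_symm]; exact h.a₁a₂
  simp only [vec4, hb.add_left, hb.add_right, hb.smul_left, hb.smul_right, hee, hff, h.ef, hfe,
    h11, h22, h1e, h1f, h2e, h2f, h21, h.ea₁, h.fa₁, h.ea₂, h.fa₂, h.a₁a₂]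
  ring

theorem Quad4.Qval {Q : (ι → F) → F} (hQ : IsNondegenerateQuadraticForm Q)
    {e f a₁ a₂ : ι → F} {p₁ p₂ r : F} (h : Quad4 Q e f a₁ a₂ p₁ p₂ r) (α β γ η : F) :
    Q (vec4 e f a₁ a₂ α β γ η) = α * β + p₁ * γ ^ 2 + p₂ * η ^ 2 + r * γ * η := by
  have hb := hQ.polar_bilinear
  have hfe : B[Q] f e = 1 := by rw [polar_symm]; exact h.ef
  simp only [vec4]
  rw [Q_add Q, Q_add Q, Q_add Q, hQ.smul, hQ.smul, hQ.smul, hQ.smul, h.Qe, h.Qf, h.Qa₁, h.Qa₂]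
  simp only [hb.add_left, hb.smul_left, hb.smul_right, h.ef, h.ea₁, h.fa₁, h.ea₂, h.fa₂, h.a₁a₂]
  ring

theorem vec4_add_smul (e f a₁ a₂ : ι → F) (α β γ η t α' β' γ' η' : F) :
    vec4 e f a₁ a₂ α β γ η + t • vec4 e f a₁ a₂ α' β' γ' η' =
      vec4 e f a₁ a₂ (α + t * α') (β + t * β') (γ + t * γ') (η + t * η') := by
  simp only [vec4]
  module

/-- A reflection step in coordinates. -/
theorem Quad4.refl_step {Q : (ι → F) → F} (hQ : IsNondegenerateQuadraticForm Q)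
    {e f a₁ a₂ : ι → F} {p₁ p₂ r : F} (h : Quad4 Q e f a₁ a₂ p₁ p₂ r)
    (αv βv γv ηv : F) (hv : Q (vec4 e f a₁ a₂ αv βv γv ηv) ≠ 0) (α β γ η t : F)
    (ht : α * βv + β * αv + 2 * p₁ * γ * γv + 2 * p₂ * η * ηv + r * (γ * ηv + η * γv) =
      -t * (αv * βv + p₁ * γv ^ 2 + p₂ * ηv ^ 2 + r * γv * ηv)) :
    ((rQ hQ (vec4 e f a₁ a₂ αv βv γv ηv) hv : GL ι F) : Matrix ι ι F) *ᵥ
      vec4 e f a₁ a₂ α β γ η =
      vec4 e f a₁ a₂ (α + t * αv) (β + t * βv) (γ + t * γv) (η + t * ηv) := by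
  rw [rQ_step hQ _ hv _ t (by rw [h.polar hQ, h.Qval hQ]; exact ht), vec4_add_smul]

end coords

section coords2

variable {F : Type*} [Field F] {ι : Type} [Fintype ι] [DecidableEq ι]

local notation "B[" Q "]" => QuadraticMap.polar Q

theorem Quad4.refl_step' {Q : (ι → F) → F} (hQ : IsNondegenerateQuadraticForm Q)
    {e f a₁ a₂ : ι → F} {p₁ p₂ r : F} (h : Quad4 Q e f a₁ a₂ p₁ p₂ r)
    (αv βv γv ηv : F) (hv : Q (vec4 e f a₁ a₂ αv βv γv ηv) ≠ 0) (α β γ η t α' β' γ' η' : F)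
    (ht : α * βv + β * αv + 2 * p₁ * γ * γv + 2 * p₂ * η * ηv + r * (γ * ηv + η * γv) =
      -t * (αv * βv + p₁ * γv ^ 2 + p₂ * ηv ^ 2 + r * γv * ηv))
    (hα : α' = α + t * αv) (hβ : β' = β + t * βv) (hγ : γ' = γ + t * γv) (hη : η' = η + t * ηv) :
    ((rQ hQ (vec4 e f a₁ a₂ αv βv γv ηv) hv : GL ι F) : Matrix ι ι F) *ᵥ
      vec4 e f a₁ a₂ α β γ η = vec4 e f a₁ a₂ α' β' γ' η' := by
  rw [h.refl_step hQ αv βv γv ηv hv α β γ η t ht, hα, hβ, hγ, hη]

theorem Quad4.refl_fix {Q : (ι → F) → F} (hQ : IsNondegenerateQuadraticForm Q)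
    {e f a₁ a₂ : ι → F} {p₁ p₂ r : F} (h : Quad4 Q e f a₁ a₂ p₁ p₂ r)
    (αv βv γv ηv : F) (hv : Q (vec4 e f a₁ a₂ αv βv γv ηv) ≠ 0) (α β γ η : F)
    (ht : α * βv + β * αv + 2 * p₁ * γ * γv + 2 * p₂ * η * ηv + r * (γ * ηv + η * γv) = 0) :
    ((rQ hQ (vec4 e f a₁ a₂ αv βv γv ηv) hv : GL ι F) : Matrix ι ι F) *ᵥ
      vec4 e f a₁ a₂ α β γ η = vec4 e f a₁ a₂ α β γ η :=
  rQ_fix hQ _ hv _ (by rw [h.polar hQ]; exact ht)

theorem vec4_smul (e f a₁ a₂ : ι → F) (t α β γ η : F) :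
    t • vec4 e f a₁ a₂ α β γ η = vec4 e f a₁ a₂ (t * α) (t * β) (t * γ) (t * η) := by
  simp only [vec4]
  module

theorem vec4_plane (e f a₁ a₂ : ι → F) (α β : F) :
    vec4 e f a₁ a₂ α β 0 0 = α • e + β • f := by
  simp [vec4]

end coords2

section q3

variable {F : Type*} [Field F] [Fintype F] {ι : Type} [Fintype ι] [DecidableEq ι]

local notation "B[" Q "]" => QuadraticMap.polar Q

theorem exists_equal_pair (hq : Fintype.card F = 3) (q₁ q₂ q₃ : F) (h₁ : q₁ ≠ 0) (h₂ : q₂ ≠ 0)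
    (h₃ : q₃ ≠ 0) : q₁ = q₂ ∨ q₁ = q₃ ∨ q₂ = q₃ := by
  rcases eq_one_or_neg_one hq q₁ h₁ with a | a <;>
  rcases eq_one_or_neg_one hq q₂ h₂ with b | b <;>
  rcases eq_one_or_neg_one hq q₃ h₃ with c | c <;> subst a <;> subst b <;> subst c <;> simp

theorem exists_pair_q3 {Q : (ι → F) → F} (hQ : IsNondegenerateQuadraticForm Q)
    (hq : Fintype.card F = 3) (hn : 9 ≤ Fintype.card ι) (e f : ι → F)
    (hQe : Q e = 0) (hQf : Q f = 0) (hef : B[Q] e f = 1) :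
    ∃ (a₁ a₂ : ι → F) (δ : F), δ ≠ 0 ∧ Quad4 Q e f a₁ a₂ δ δ 0 := by
  classical
  obtain ⟨x₁, hx₁, hQ₁⟩ := exists_nonsingular_orthogonal_finset hQ {e, f} (by
    have := Finset.card_le_two (a := e) (b := f); omega)
  obtain ⟨x₂, hx₂, hQ₂⟩ := exists_nonsingular_orthogonal_finset hQ {e, f, x₁} (by
    have := Finset.card_le_three (a := e) (b := f) (c := x₁); omega)
  obtain ⟨x₃, hx₃, hQ₃⟩ := exists_nonsingular_orthogonal_finset hQ {e, f, x₁, x₂} (by
    have := Finset.card_le_four (a := e) (b := f) (c := x₁) (d := x₂); omega)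
  have e1 : B[Q] e x₁ = 0 := hx₁ e (by simp)
  have f1 : B[Q] f x₁ = 0 := hx₁ f (by simp)
  have e2 : B[Q] e x₂ = 0 := hx₂ e (by simp)
  have f2 : B[Q] f x₂ = 0 := hx₂ f (by simp)
  have e3 : B[Q] e x₃ = 0 := hx₃ e (by simp)
  have f3 : B[Q] f x₃ = 0 := hx₃ f (by simp)
  have h12 : B[Q] x₁ x₂ = 0 := hx₂ x₁ (by simp)
  have h13 : B[Q] x₁ x₃ = 0 := hx₃ x₁ (by simp)
  have h23 : B[Q] x₂ x₃ = 0 := hx₃ x₂ (by simp)
  rcases exists_equal_pair hq _ _ _ hQ₁ hQ₂ hQ₃ with h | h | h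
  · exact ⟨x₁, x₂, Q x₁, hQ₁, ⟨hQe, hQf, hef, rfl, h.symm, e1, f1, e2, f2, h12⟩⟩
  · exact ⟨x₁, x₃, Q x₁, hQ₁, ⟨hQe, hQf, hef, rfl, h.symm, e1, f1, e3, f3, h13⟩⟩
  · exact ⟨x₂, x₃, Q x₂, hQ₂, ⟨hQe, hQf, hef, rfl, h.symm, e2, f2, e3, f3, h23⟩⟩

end q3

section q3main

variable {F : Type*} [Field F] [Fintype F] {ι : Type} [Fintype ι] [DecidableEq ι]

local notation "B[" Q "]" => QuadraticMap.polar Q

theorem plane_q3 {Q : (ι → F) → F} (hQ : IsNondegenerateQuadraticForm Q)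
    (hq : Fintype.card F = 3) (hn : 9 ≤ Fintype.card ι) (W : Submodule F (ι → F))
    (e f : ι → F) (heW : e ∈ W) (hfW : f ∈ W) (hQe : Q e = 0) (hQf : Q f = 0)
    (hef : B[Q] e f = 1) (hspan : ∀ w ∈ W, ∃ α β : F, w = α • e + β • f) :
    ∃ K : Subgroup (GL ι F), subspaceStabilizer W ⊓ omegaGL Q < K ∧ K < omegaGL Q := by
  have h3 := three_eq_zero hq
  have h2 := two_ne_zero' hq
  obtain ⟨a₁, a₂, δ, hδ, h4⟩ := exists_pair_q3 hQ hq hn e f hQe hQf hef
  have hδ2 : δ * δ = 1 := by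
    have := sq_eq_one hq δ hδ
    rwa [pow_two] at this
  have h2δ : 2 * δ ≠ 0 := mul_ne_zero h2 hδ
  -- the vector w' and its span
  have hw'W : vec4 e f a₁ a₂ 1 (-δ) 0 0 ∈ W := by
    rw [vec4_plane]; exact W.add_mem (W.smul_mem _ heW) (W.smul_mem _ hfW)
  have hwW : vec4 e f a₁ a₂ 1 δ 0 0 ∈ W := by
    rw [vec4_plane]; exact W.add_mem (W.smul_mem _ heW) (W.smul_mem _ hfW)
  -- (i)
  have hI : ∀ g : GL ι F, g ∈ subspaceStabilizer W → g ∈ isometryGroup F Q →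
      g ∈ subspaceStabilizer (Submodule.span F {vec4 e f a₁ a₂ 1 (-δ) 0 0}) := by
    intro g hgW hgQ
    have hgw := ((mem_subspaceStabilizer W g).mp hgW _).mp hw'W
    obtain ⟨α, β, hαβ⟩ := hspan _ hgw
    rw [← vec4_plane e f a₁ a₂] at hαβ
    have hQg := (mem_isometryGroup Q g).mp hgQ (vec4 e f a₁ a₂ 1 (-δ) 0 0)
    rw [hαβ, h4.Qval hQ, h4.Qval hQ] at hQg
    have hαβ' : α * β = -δ := by linear_combination hQg
    have hα0 : α ≠ 0 := by
      rintro rfl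
      rw [zero_mul] at hαβ'
      exact hδ (by linear_combination hαβ')
    have hα2 : α * α = 1 := by
      have := sq_eq_one hq α hα0
      rwa [pow_two] at this
    have hβ : β = α * (-δ) := by linear_combination α * hαβ' - β * hα2
    refine mem_stab_span_of_smul g _ α hα0 ?_
    rw [hαβ, vec4_smul, hβ]
    simp
  -- second witness
  have hQb : Q (vec4 e f a₁ a₂ 1 δ 1 0) ≠ 0 := by
    rw [h4.Qval hQ]
    intro h
    apply h2δ
    linear_combination h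
  have hQc : Q (vec4 e f a₁ a₂ 0 0 1 (-1)) ≠ 0 := by
    rw [h4.Qval hQ]
    intro h
    apply h2δ
    linear_combination h
  obtain ⟨g₂, hg₂⟩ : ∃ g : GL ι F, g = ⁅rQ hQ _ hQb, rQ hQ _ hQc⁆ := ⟨_, rfl⟩
  have hg₂Ω : g₂ ∈ omegaGL Q := by
    rw [hg₂]; exact comm_mem_omega (rQ_mem hQ _ hQb) (rQ_mem hQ _ hQc)
  have hg₂w' : (g₂ : Matrix ι ι F) *ᵥ vec4 e f a₁ a₂ 1 (-δ) 0 0 =
      (1 : F) • vec4 e f a₁ a₂ 1 (-δ) 0 0 := by
    rw [hg₂, rQ_comm_mulVec,
      h4.refl_fix hQ 0 0 1 (-1) hQc 1 (-δ) 0 0 (by ring),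
      h4.refl_fix hQ 1 δ 1 0 hQb 1 (-δ) 0 0 (by ring),
      h4.refl_fix hQ 0 0 1 (-1) hQc 1 (-δ) 0 0 (by ring),
      h4.refl_fix hQ 1 δ 1 0 hQb 1 (-δ) 0 0 (by ring), one_smul]
  have hg₂w : (g₂ : Matrix ι ι F) *ᵥ vec4 e f a₁ a₂ 1 δ 0 0 = vec4 e f a₁ a₂ 0 0 0 (-1) := by
    rw [hg₂, rQ_comm_mulVec,
      h4.refl_fix hQ 0 0 1 (-1) hQc 1 δ 0 0 (by ring),
      h4.refl_step' hQ 1 δ 1 0 hQb 1 δ 0 0 (-1) 0 0 (-1) 0 (by ring) (by ring) (by ring)
        (by ring) (by ring),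
      h4.refl_step' hQ 0 0 1 (-1) hQc 0 0 (-1) 0 1 0 0 0 (-1) (by ring) (by ring) (by ring)
        (by ring) (by ring),
      h4.refl_fix hQ 1 δ 1 0 hQb 0 0 0 (-1) (by ring)]
  have hg₂K : g₂ ∈ subspaceStabilizer (Submodule.span F {vec4 e f a₁ a₂ 1 (-δ) 0 0}) :=
    mem_stab_span_of_smul g₂ _ 1 one_ne_zero hg₂w'
  have hg₂not : g₂ ∉ subspaceStabilizer W := by
    intro hmem
    have := ((mem_subspaceStabilizer W g₂).mp hmem _).mp hwW
    rw [hg₂w] at this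
    obtain ⟨α, β, hαβ⟩ := hspan _ this
    rw [← vec4_plane e f a₁ a₂] at hαβ
    have e1 := congrArg (fun y => B[Q] y (vec4 e f a₁ a₂ 0 0 0 1)) hαβ
    simp only [h4.polar hQ] at e1
    apply h2δ
    linear_combination -e1
  -- third witness
  have hQb' : Q (vec4 e f a₁ a₂ (-1) 0 1 0) ≠ 0 := by
    rw [h4.Qval hQ]
    intro h
    apply hδ
    linear_combination h
  have hQc' : Q (vec4 e f a₁ a₂ 0 0 1 0) ≠ 0 := by
    rw [h4.Qval hQ]
    intro h
    apply hδ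
    linear_combination h
  obtain ⟨g₃, hg₃⟩ : ∃ g : GL ι F, g = ⁅rQ hQ _ hQb', rQ hQ _ hQc'⁆ := ⟨_, rfl⟩
  have hg₃Ω : g₃ ∈ omegaGL Q := by
    rw [hg₃]; exact comm_mem_omega (rQ_mem hQ _ hQb') (rQ_mem hQ _ hQc')
  have hg₃w' : (g₃ : Matrix ι ι F) *ᵥ vec4 e f a₁ a₂ 1 (-δ) 0 0 = vec4 e f a₁ a₂ 2 (-δ) 1 0 := by
    rw [hg₃, rQ_comm_mulVec,
      h4.refl_fix hQ 0 0 1 0 hQc' 1 (-δ) 0 0 (by ring),
      h4.refl_step' hQ (-1) 0 1 0 hQb' 1 (-δ) 0 0 (-1) 2 (-δ) (-1) 0 (by ring) (by ring)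
        (by ring) (by ring) (by ring),
      h4.refl_step' hQ 0 0 1 0 hQc' 2 (-δ) (-1) 0 2 2 (-δ) 1 0 (by ring) (by ring) (by ring)
        (by ring) (by ring),
      h4.refl_fix hQ (-1) 0 1 0 hQb' 2 (-δ) 1 0 (by linear_combination δ * h3)]
  have hg₃not : g₃ ∉ subspaceStabilizer (Submodule.span F {vec4 e f a₁ a₂ 1 (-δ) 0 0}) := by
    intro hmem
    have := ((mem_subspaceStabilizer _ g₃).mp hmem _).mp (Submodule.mem_span_singleton_self _)
    rw [hg₃w', Submodule.mem_span_singleton] at this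
    obtain ⟨t, ht⟩ := this
    rw [vec4_smul] at ht
    have e1 := congrArg (fun y => B[Q] y (vec4 e f a₁ a₂ 0 0 1 0)) ht
    simp only [h4.polar hQ] at e1
    apply h2δ
    linear_combination -e1
  refine ⟨subspaceStabilizer (Submodule.span F {vec4 e f a₁ a₂ 1 (-δ) 0 0}) ⊓ omegaGL Q, ?_, ?_⟩
  · refine lt_of_le_of_ne ?_ ?_
    · intro g hg
      exact ⟨hI g hg.1 (omega_le_isometry Q hg.2), hg.2⟩
    · intro heq
      have : g₂ ∈ subspaceStabilizer W ⊓ omegaGL Q := by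
        rw [heq]; exact ⟨hg₂K, hg₂Ω⟩
      exact hg₂not this.1
  · refine lt_of_le_of_ne inf_le_right ?_
    intro heq
    have : g₃ ∈ subspaceStabilizer (Submodule.span F {vec4 e f a₁ a₂ 1 (-δ) 0 0}) ⊓ omegaGL Q := by
      rw [heq]; exact hg₃Ω
    exact hg₃not this.1

end q3main

section q2

variable {F : Type*} [Field F] [Fintype F] {ι : Type} [Fintype ι] [DecidableEq ι]

local notation "B[" Q "]" => QuadraticMap.polar Q

theorem exists_pair_q2 {Q : (ι → F) → F} (hQ : IsNondegenerateQuadraticForm Q)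
    (hq : Fintype.card F = 2) (hn : 9 ≤ Fintype.card ι) (e f : ι → F)
    (hQe : Q e = 0) (hQf : Q f = 0) (hef : B[Q] e f = 1) :
    ∃ (a₁ a₂ : ι → F), Quad4 Q e f a₁ a₂ 0 1 1 := by
  classical
  have hb := hQ.polar_bilinear
  have h01 := Cfsg.Agent.S5638.zero_or_one hq
  have h11 : (1 : F) + 1 = 0 := Cfsg.Agent.S5638.one_add_one hq
  have h2 : (2 : F) = 0 := by rw [← h11]; norm_num
  have hfe : B[Q] f e = 1 := by rw [polar_symm]; exact hef
  have hee : B[Q] e e = 0 := by rw [polar_self hQ, hQe, mul_zero]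
  have hff : B[Q] f f = 0 := by rw [polar_self hQ, hQf, mul_zero]
  have one_of_ne : ∀ t : F, t ≠ 0 → t = 1 := fun t ht => (h01 t).resolve_left ht
  obtain ⟨x, hx, hQx⟩ := exists_nonsingular_orthogonal_finset hQ {e, f} (by
    have := Finset.card_le_two (a := e) (b := f); omega)
  have ex : B[Q] e x = 0 := hx e (by simp)
  have fx : B[Q] f x = 0 := hx f (by simp)
  have xe : B[Q] x e = 0 := by rw [polar_symm]; exact ex
  have xf : B[Q] x f = 0 := by rw [polar_symm]; exact fx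
  have hQx1 : Q x = 1 := one_of_ne _ hQx
  have hx0 : x ≠ 0 := by
    rintro rfl
    exact hQx (Q_zero hQ)
  obtain ⟨_, ⟨z, hz⟩⟩ := hQ.nondegenerate x hx0
  have hxz : B[Q] x z = 1 := one_of_ne _ hz
  obtain ⟨x', hx'⟩ : ∃ x' : ι → F, x' = z + (-(B[Q] z f)) • e + (-(B[Q] z e)) • f := ⟨_, rfl⟩
  have ex' : B[Q] e x' = 0 := by
    rw [hx', hb.add_right, hb.add_right, hb.smul_right, hb.smul_right, hee, hef, polar_symm Q e z]
    ring
  have fx' : B[Q] f x' = 0 := by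
    rw [hx', hb.add_right, hb.add_right, hb.smul_right, hb.smul_right, hfe, hff, polar_symm Q f z]
    ring
  have xx' : B[Q] x x' = 1 := by
    rw [hx', hb.add_right, hb.add_right, hb.smul_right, hb.smul_right, xe, xf, hxz]
    ring
  obtain ⟨y, hy, hQy⟩ := exists_nonsingular_orthogonal_finset hQ {e, f, x, x'} (by
    have := Finset.card_le_four (a := e) (b := f) (c := x) (d := x'); omega)
  have ey : B[Q] e y = 0 := hy e (by simp)
  have fy : B[Q] f y = 0 := hy f (by simp)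
  have xy : B[Q] x y = 0 := hy x (by simp)
  have x'y : B[Q] x' y = 0 := hy x' (by simp)
  have hQy1 : Q y = 1 := one_of_ne _ hQy
  -- a₁ = x + y
  have hQa₁ : Q (x + y) = 0 := by
    rw [Q_add Q, hQx1, hQy1, xy, add_zero, h11]
  have ea₁ : B[Q] e (x + y) = 0 := by rw [hb.add_right, ex, ey, add_zero]
  have fa₁ : B[Q] f (x + y) = 0 := by rw [hb.add_right, fx, fy, add_zero]
  have a₁x' : B[Q] (x + y) x' = 1 := by
    rw [hb.add_left, xx', polar_symm Q y x', x'y, add_zero]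
  rcases h01 (Q x') with hQx' | hQx'
  · refine ⟨x + y, x' + (x + y), ⟨hQe, hQf, hef, hQa₁, ?_, ea₁, fa₁, ?_, ?_, ?_⟩⟩
    · rw [Q_add Q, hQx', hQa₁, polar_symm Q x' (x + y), a₁x']
      ring
    · rw [hb.add_right, ex', ea₁, add_zero]
    · rw [hb.add_right, fx', fa₁, add_zero]
    · rw [hb.add_right, a₁x', polar_self hQ, hQa₁]
      ring
  · exact ⟨x + y, x', ⟨hQe, hQf, hef, hQa₁, hQx', ea₁, fa₁, ex', fx', a₁x'⟩⟩

theorem plane_q2 {Q : (ι → F) → F} (hQ : IsNondegenerateQuadraticForm Q)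
    (hq : Fintype.card F = 2) (hn : 9 ≤ Fintype.card ι) (W : Submodule F (ι → F))
    (e f : ι → F) (heW : e ∈ W) (hfW : f ∈ W) (hQe : Q e = 0) (hQf : Q f = 0)
    (hef : B[Q] e f = 1) (hspan : ∀ w ∈ W, ∃ α β : F, w = α • e + β • f) :
    ∃ K : Subgroup (GL ι F), subspaceStabilizer W ⊓ omegaGL Q < K ∧ K < omegaGL Q := by
  have h01 := Cfsg.Agent.S5638.zero_or_one hq
  have h11 : (1 : F) + 1 = 0 := Cfsg.Agent.S5638.one_add_one hq
  have h2 : (2 : F) = 0 := by rw [← h11]; norm_num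
  obtain ⟨a₁, a₂, h4⟩ := exists_pair_q2 hQ hq hn e f hQe hQf hef
  have one_ne : (1 : F) ≠ 0 := one_ne_zero
  have huW : vec4 e f a₁ a₂ 1 1 0 0 ∈ W := by
    rw [vec4_plane]; exact W.add_mem (W.smul_mem _ heW) (W.smul_mem _ hfW)
  have heW' : vec4 e f a₁ a₂ 1 0 0 0 ∈ W := by
    rw [vec4_plane]; exact W.add_mem (W.smul_mem _ heW) (W.smul_mem _ hfW)
  -- (i)
  have hI : ∀ g : GL ι F, g ∈ subspaceStabilizer W → g ∈ isometryGroup F Q →
      g ∈ subspaceStabilizer (Submodule.span F {vec4 e f a₁ a₂ 1 1 0 0}) := by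
    intro g hgW hgQ
    have hgw := ((mem_subspaceStabilizer W g).mp hgW _).mp huW
    obtain ⟨α, β, hαβ⟩ := hspan _ hgw
    rw [← vec4_plane e f a₁ a₂] at hαβ
    have hQg := (mem_isometryGroup Q g).mp hgQ (vec4 e f a₁ a₂ 1 1 0 0)
    rw [hαβ, h4.Qval hQ, h4.Qval hQ] at hQg
    have hαβ' : α * β = 1 := by linear_combination hQg
    have hα1 : α = 1 := by
      rcases h01 α with h | h
      · rw [h, zero_mul] at hαβ'
        exact absurd hαβ'.symm one_ne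
      · exact h
    have hβ1 : β = 1 := by
      rw [hα1, one_mul] at hαβ'
      exact hαβ'
    refine mem_stab_span_of_smul g _ 1 one_ne ?_
    rw [hαβ, hα1, hβ1, one_smul]
  -- second witness
  have hQb : Q (vec4 e f a₁ a₂ 1 1 1 0) ≠ 0 := by
    rw [h4.Qval hQ]
    intro h
    apply one_ne
    linear_combination h
  have hQc : Q (vec4 e f a₁ a₂ 0 0 0 1) ≠ 0 := by
    rw [h4.Qval hQ]
    intro h
    apply one_ne
    linear_combination h
  obtain ⟨g₂, hg₂⟩ : ∃ g : GL ι F, g = ⁅rQ hQ _ hQb, rQ hQ _ hQc⁆ := ⟨_, rfl⟩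
  have hg₂Ω : g₂ ∈ omegaGL Q := by
    rw [hg₂]; exact comm_mem_omega (rQ_mem hQ _ hQb) (rQ_mem hQ _ hQc)
  have hg₂u : (g₂ : Matrix ι ι F) *ᵥ vec4 e f a₁ a₂ 1 1 0 0 =
      (1 : F) • vec4 e f a₁ a₂ 1 1 0 0 := by
    rw [hg₂, rQ_comm_mulVec,
      h4.refl_fix hQ 0 0 0 1 hQc 1 1 0 0 (by ring),
      h4.refl_fix hQ 1 1 1 0 hQb 1 1 0 0 (by linear_combination h2),
      h4.refl_fix hQ 0 0 0 1 hQc 1 1 0 0 (by ring),
      h4.refl_fix hQ 1 1 1 0 hQb 1 1 0 0 (by linear_combination h2), one_smul]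
  have hg₂e : (g₂ : Matrix ι ι F) *ᵥ vec4 e f a₁ a₂ 1 0 0 0 = vec4 e f a₁ a₂ 0 (-1) (-1) 1 := by
    rw [hg₂, rQ_comm_mulVec,
      h4.refl_fix hQ 0 0 0 1 hQc 1 0 0 0 (by ring),
      h4.refl_step' hQ 1 1 1 0 hQb 1 0 0 0 (-1) 0 (-1) (-1) 0 (by ring) (by ring) (by ring)
        (by ring) (by ring),
      h4.refl_step' hQ 0 0 0 1 hQc 0 (-1) (-1) 0 1 0 (-1) (-1) 1 (by ring) (by ring) (by ring)
        (by ring) (by ring),
      h4.refl_fix hQ 1 1 1 0 hQb 0 (-1) (-1) 1 (by ring)]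
  have hg₂K : g₂ ∈ subspaceStabilizer (Submodule.span F {vec4 e f a₁ a₂ 1 1 0 0}) :=
    mem_stab_span_of_smul g₂ _ 1 one_ne hg₂u
  have hg₂not : g₂ ∉ subspaceStabilizer W := by
    intro hmem
    have := ((mem_subspaceStabilizer W g₂).mp hmem _).mp heW'
    rw [hg₂e] at this
    obtain ⟨α, β, hαβ⟩ := hspan _ this
    rw [← vec4_plane e f a₁ a₂] at hαβ
    have e1 := congrArg (fun y => B[Q] y (vec4 e f a₁ a₂ 0 0 1 0)) hαβ
    simp only [h4.polar hQ] at e1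
    apply one_ne
    linear_combination e1
  -- third witness
  have hQu : Q (vec4 e f a₁ a₂ 1 1 0 0) ≠ 0 := by
    rw [h4.Qval hQ]
    intro h
    apply one_ne
    linear_combination h
  have hQc' : Q (vec4 e f a₁ a₂ 1 0 0 1) ≠ 0 := by
    rw [h4.Qval hQ]
    intro h
    apply one_ne
    linear_combination h
  obtain ⟨g₃, hg₃⟩ : ∃ g : GL ι F, g = ⁅rQ hQ _ hQu, rQ hQ _ hQc'⁆ := ⟨_, rfl⟩
  have hg₃Ω : g₃ ∈ omegaGL Q := by
    rw [hg₃]; exact comm_mem_omega (rQ_mem hQ _ hQu) (rQ_mem hQ _ hQc')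
  have hg₃u : (g₃ : Matrix ι ι F) *ᵥ vec4 e f a₁ a₂ 1 1 0 0 = vec4 e f a₁ a₂ 0 1 0 (-1) := by
    rw [hg₃, rQ_comm_mulVec,
      h4.refl_step' hQ 1 0 0 1 hQc' 1 1 0 0 (-1) 0 1 0 (-1) (by ring) (by ring) (by ring)
        (by ring) (by ring),
      h4.refl_step' hQ 1 1 0 0 hQu 0 1 0 (-1) (-1) (-1) 0 0 (-1) (by ring) (by ring) (by ring)
        (by ring) (by ring),
      h4.refl_fix hQ 1 0 0 1 hQc' (-1) 0 0 (-1) (by linear_combination (-1 : F) * h2),
      h4.refl_step' hQ 1 1 0 0 hQu (-1) 0 0 (-1) 1 0 1 0 (-1) (by ring) (by ring) (by ring)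
        (by ring) (by ring)]
  have hg₃not : g₃ ∉ subspaceStabilizer (Submodule.span F {vec4 e f a₁ a₂ 1 1 0 0}) := by
    intro hmem
    have := ((mem_subspaceStabilizer _ g₃).mp hmem _).mp (Submodule.mem_span_singleton_self _)
    rw [hg₃u, Submodule.mem_span_singleton] at this
    obtain ⟨t, ht⟩ := this
    rw [vec4_smul] at ht
    have e1 := congrArg (fun y => B[Q] y (vec4 e f a₁ a₂ 0 0 1 0)) ht
    simp only [h4.polar hQ] at e1
    apply one_ne
    linear_combination e1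
  refine ⟨subspaceStabilizer (Submodule.span F {vec4 e f a₁ a₂ 1 1 0 0}) ⊓ omegaGL Q, ?_, ?_⟩
  · refine lt_of_le_of_ne ?_ ?_
    · intro g hg
      exact ⟨hI g hg.1 (omega_le_isometry Q hg.2), hg.2⟩
    · intro heq
      have : g₂ ∈ subspaceStabilizer W ⊓ omegaGL Q := by
        rw [heq]; exact ⟨hg₂K, hg₂Ω⟩
      exact hg₂not this.1
  · refine lt_of_le_of_ne inf_le_right ?_
    intro heq
    have : g₃ ∈ subspaceStabilizer (Submodule.span F {vec4 e f a₁ a₂ 1 1 0 0}) ⊓ omegaGL Q := by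
      rw [heq]; exact hg₃Ω
    exact hg₃not this.1

end q2

section planeMain

variable {F : Type*} [Field F] [Fintype F] {ι : Type} [Fintype ι] [DecidableEq ι]

/-- Over a field with at most three elements the `Ω`-stabiliser of a hyperbolic plane is not
maximal in `Ω`. -/
theorem plane_not_maximal {Q : (ι → F) → F} (hQ : IsNondegenerateQuadraticForm Q)
    (hq : Fintype.card F ≤ 3) (hn : 9 ≤ Fintype.card ι) (W : Submodule F (ι → F))
    (hdim : Module.finrank F W = 2)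
    (hW : IsNondegenerateOn (QuadraticMap.polar Q) W) (hWp : IsPlusTypeOn Q W) :
    ∃ K : Subgroup (GL ι F), subspaceStabilizer W ⊓ omegaGL Q < K ∧ K < omegaGL Q := by
  obtain ⟨e, f, heW, hfW, hQe, hQf, hef, hspan⟩ := plane_basis hQ W hdim hW hWp
  have h1 : 1 < Fintype.card F := Fintype.one_lt_card
  have hcases : Fintype.card F = 2 ∨ Fintype.card F = 3 := by omega
  rcases hcases with h | h
  · exact plane_q2 hQ h hn W e f heW hfW hQe hQf hef hspan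
  · exact plane_q3 hQ h hn W e f heW hfW hQe hQf hef hspan

end planeMain

end Cfsg.Agent.Helper97.QG
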