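import Mathlib
import Cfsg.Prelude.Def_GeometricClasses
import Cfsg.Agent.Lib.Helper97.QuadGeo

set_option autoImplicit false
set_option linter.unusedSectionVars false
set_option linter.unusedSimpArgs false
set_option linter.unusedVariables false

namespace Cfsg.Agent.Helper97.QD

open Matrix Cfsg Cfsg.Geo Cfsg.Agent.Helper97 Cfsg.Agent.S5667 Cfsg.Agent.Helper97.OT3
  Cfsg.Agent.Helper97.QG
open scoped commutatorElement

section orth4

variable {F : Type*} [Field F] {ι : Type} [Fintype ι] [DecidableEq ι]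

local notation "B[" Q "]" => QuadraticMap.polar Q

/-- Vectors in the span of four given vectors, by coordinates. -/
def vecO (u₁ u₂ u₃ u₄ : ι → F) (c₁ c₂ c₃ c₄ : F) : ι → F := c₁ • u₁ + c₂ • u₂ + c₃ • u₃ + c₄ • u₄

/-- Four pairwise orthogonal vectors of the same norm. -/
structure Orth4 (Q : (ι → F) → F) (u₁ u₂ u₃ u₄ : ι → F) (δ : F) : Prop where
  Q₁ : Q u₁ = δ
  Q₂ : Q u₂ = δ
  Q₃ : Q u₃ = δ
  Q₄ : Q u₄ = δ
  b₁₂ : B[Q] u₁ u₂ = 0
  b₁₃ : B[Q] u₁ u₃ = 0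
  b₁₄ : B[Q] u₁ u₄ = 0
  b₂₃ : B[Q] u₂ u₃ = 0
  b₂₄ : B[Q] u₂ u₄ = 0
  b₃₄ : B[Q] u₃ u₄ = 0

theorem Orth4.polar {Q : (ι → F) → F} (hQ : IsNondegenerateQuadraticForm Q)
    {u₁ u₂ u₃ u₄ : ι → F} {δ : F} (h : Orth4 Q u₁ u₂ u₃ u₄ δ)
    (c₁ c₂ c₃ c₄ d₁ d₂ d₃ d₄ : F) :
    B[Q] (vecO u₁ u₂ u₃ u₄ c₁ c₂ c₃ c₄) (vecO u₁ u₂ u₃ u₄ d₁ d₂ d₃ d₄) =
      2 * δ * (c₁ * d₁ + c₂ * d₂ + c₃ * d₃ + c₄ * d₄) := by
  have hb := hQ.polar_bilinear
  have h11 : B[Q] u₁ u₁ = 2 * δ := by rw [polar_self hQ, h.Q₁]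
  have h22 : B[Q] u₂ u₂ = 2 * δ := by rw [polar_self hQ, h.Q₂]
  have h33 : B[Q] u₃ u₃ = 2 * δ := by rw [polar_self hQ, h.Q₃]
  have h44 : B[Q] u₄ u₄ = 2 * δ := by rw [polar_self hQ, h.Q₄]
  have h21 : B[Q] u₂ u₁ = 0 := by rw [polar_symm]; exact h.b₁₂
  have h31 : B[Q] u₃ u₁ = 0 := by rw [polar_symm]; exact h.b₁₃
  have h41 : B[Q] u₄ u₁ = 0 := by rw [polar_symm]; exact h.b₁₄
  have h32 : B[Q] u₃ u₂ = 0 := by rw [polar_symm]; exact h.b₂₃
  have h42 : B[Q] u₄ u₂ = 0 := by rw [polar_symm]; exact h.b₂₄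
  have h43 : B[Q] u₄ u₃ = 0 := by rw [polar_symm]; exact h.b₃₄
  simp only [vecO, hb.add_left, hb.add_right, hb.smul_left, hb.smul_right, h11, h22, h33, h44,
    h21, h31, h41, h32, h42, h43, h.b₁₂, h.b₁₃, h.b₁₄, h.b₂₃, h.b₂₄, h.b₃₄]
  ring

theorem Orth4.Qval {Q : (ι → F) → F} (hQ : IsNondegenerateQuadraticForm Q)
    {u₁ u₂ u₃ u₄ : ι → F} {δ : F} (h : Orth4 Q u₁ u₂ u₃ u₄ δ) (c₁ c₂ c₃ c₄ : F) :
    Q (vecO u₁ u₂ u₃ u₄ c₁ c₂ c₃ c₄) = δ * (c₁ ^ 2 + c₂ ^ 2 + c₃ ^ 2 + c₄ ^ 2) := by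
  have hb := hQ.polar_bilinear
  simp only [vecO]
  rw [Q_add Q, Q_add Q, Q_add Q, hQ.smul, hQ.smul, hQ.smul, hQ.smul, h.Q₁, h.Q₂, h.Q₃, h.Q₄]
  simp only [hb.add_left, hb.smul_left, hb.smul_right, h.b₁₂, h.b₁₃, h.b₁₄, h.b₂₃, h.b₂₄, h.b₃₄]
  ring

theorem vecO_add_smul (u₁ u₂ u₃ u₄ : ι → F) (c₁ c₂ c₃ c₄ t d₁ d₂ d₃ d₄ : F) :
    vecO u₁ u₂ u₃ u₄ c₁ c₂ c₃ c₄ + t • vecO u₁ u₂ u₃ u₄ d₁ d₂ d₃ d₄ =
      vecO u₁ u₂ u₃ u₄ (c₁ + t * d₁) (c₂ + t * d₂) (c₃ + t * d₃) (c₄ + t * d₄) := by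
  simp only [vecO]
  module

theorem Orth4.refl_step' {Q : (ι → F) → F} (hQ : IsNondegenerateQuadraticForm Q)
    {u₁ u₂ u₃ u₄ : ι → F} {δ : F} (h : Orth4 Q u₁ u₂ u₃ u₄ δ)
    (v₁ v₂ v₃ v₄ : F) (hv : Q (vecO u₁ u₂ u₃ u₄ v₁ v₂ v₃ v₄) ≠ 0) (c₁ c₂ c₃ c₄ t d₁ d₂ d₃ d₄ : F)
    (ht : 2 * δ * (c₁ * v₁ + c₂ * v₂ + c₃ * v₃ + c₄ * v₄) =
      -t * (δ * (v₁ ^ 2 + v₂ ^ 2 + v₃ ^ 2 + v₄ ^ 2)))
    (h₁ : d₁ = c₁ + t * v₁) (h₂ : d₂ = c₂ + t * v₂) (h₃ : d₃ = c₃ + t * v₃)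
    (h₄ : d₄ = c₄ + t * v₄) :
    ((rQ hQ (vecO u₁ u₂ u₃ u₄ v₁ v₂ v₃ v₄) hv : GL ι F) : Matrix ι ι F) *ᵥ
      vecO u₁ u₂ u₃ u₄ c₁ c₂ c₃ c₄ = vecO u₁ u₂ u₃ u₄ d₁ d₂ d₃ d₄ := by
  rw [rQ_step hQ _ hv _ t (by rw [h.polar hQ, h.Qval hQ]; exact ht), vecO_add_smul, h₁, h₂, h₃, h₄]

theorem Orth4.refl_fix {Q : (ι → F) → F} (hQ : IsNondegenerateQuadraticForm Q)
    {u₁ u₂ u₃ u₄ : ι → F} {δ : F} (h : Orth4 Q u₁ u₂ u₃ u₄ δ)
    (v₁ v₂ v₃ v₄ : F) (hv : Q (vecO u₁ u₂ u₃ u₄ v₁ v₂ v₃ v₄) ≠ 0) (c₁ c₂ c₃ c₄ : F)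
    (ht : c₁ * v₁ + c₂ * v₂ + c₃ * v₃ + c₄ * v₄ = 0) :
    ((rQ hQ (vecO u₁ u₂ u₃ u₄ v₁ v₂ v₃ v₄) hv : GL ι F) : Matrix ι ι F) *ᵥ
      vecO u₁ u₂ u₃ u₄ c₁ c₂ c₃ c₄ = vecO u₁ u₂ u₃ u₄ c₁ c₂ c₃ c₄ :=
  rQ_fix hQ _ hv _ (by rw [h.polar hQ, ht, mul_zero])

/-- A vector orthogonal to the four vectors is fixed by reflections in their span. -/
theorem Orth4.refl_fix_orth {Q : (ι → F) → F} (hQ : IsNondegenerateQuadraticForm Q)
    {u₁ u₂ u₃ u₄ : ι → F} {δ : F} (h : Orth4 Q u₁ u₂ u₃ u₄ δ)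
    (v₁ v₂ v₃ v₄ : F) (hv : Q (vecO u₁ u₂ u₃ u₄ v₁ v₂ v₃ v₄) ≠ 0) (x : ι → F)
    (h₁ : B[Q] x u₁ = 0) (h₂ : B[Q] x u₂ = 0) (h₃ : B[Q] x u₃ = 0) (h₄ : B[Q] x u₄ = 0) :
    ((rQ hQ (vecO u₁ u₂ u₃ u₄ v₁ v₂ v₃ v₄) hv : GL ι F) : Matrix ι ι F) *ᵥ x = x := by
  have hb := hQ.polar_bilinear
  refine rQ_fix hQ _ hv _ ?_
  simp only [vecO, hb.add_right, hb.smul_right, h₁, h₂, h₃, h₄, mul_zero, add_zero]

theorem vecO_e1 (u₁ u₂ u₃ u₄ : ι → F) : vecO u₁ u₂ u₃ u₄ 1 0 0 0 = u₁ := by simp [vecO]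
theorem vecO_e2 (u₁ u₂ u₃ u₄ : ι → F) : vecO u₁ u₂ u₃ u₄ 0 1 0 0 = u₂ := by simp [vecO]
theorem vecO_e3 (u₁ u₂ u₃ u₄ : ι → F) : vecO u₁ u₂ u₃ u₄ 0 0 1 0 = u₃ := by simp [vecO]
theorem vecO_e4 (u₁ u₂ u₃ u₄ : ι → F) : vecO u₁ u₂ u₃ u₄ 0 0 0 1 = u₄ := by simp [vecO]

end orth4

section general

variable {F : Type*} [Field F] {ι : Type} [Fintype ι] [DecidableEq ι]

local notation "B[" Q "]" => QuadraticMap.polar Q

theorem mulVec_inv_mulVec (g : GL ι F) (x : ι → F) :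
    (g : Matrix ι ι F) *ᵥ (((g⁻¹ : GL ι F) : Matrix ι ι F) *ᵥ x) = x := by
  rw [Matrix.mulVec_mulVec, ← Units.val_mul, mul_inv_cancel, Units.val_one, Matrix.one_mulVec]

/-- The commutator of a reflection with an isometry is a product of two reflections. -/
theorem comm_refl_mulVec {Q : (ι → F) → F} (hQ : IsNondegenerateQuadraticForm Q) (a : ι → F)
    (ha : Q a ≠ 0) (s : GL ι F) (hs : s ∈ isometryGroup F Q) (b : ι → F)
    (hsa : (s : Matrix ι ι F) *ᵥ a = b) (hb : Q b ≠ 0) (x : ι → F) :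
    ((⁅rQ hQ a ha, s⁆ : GL ι F) : Matrix ι ι F) *ᵥ x =
      ((rQ hQ a ha : GL ι F) : Matrix ι ι F) *ᵥ (((rQ hQ b hb : GL ι F) : Matrix ι ι F) *ᵥ x) := by
  rw [comm_mulVec]
  congr 1
  have hQab : Q b = Q a := by rw [← hsa]; exact (mem_isometryGroup Q s).mp hs a
  have hB : B[Q] (((s⁻¹ : GL ι F) : Matrix ι ι F) *ᵥ x) a = B[Q] x b := by
    rw [← isometry_polar hs, mulVec_inv_mulVec, hsa]
  rw [rQ_inv_mulVec, rQ_mulVec, Matrix.mulVec_add, Matrix.mulVec_smul, mulVec_inv_mulVec, hsa, hB,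
    hQab]

theorem mem_stabilizing (S : Set (ι → F)) (g : GL ι F) :
    g ∈ stabilizing (glToMat ι F) S ↔ ∀ v, v ∈ S ↔ (g : Matrix ι ι F) *ᵥ v ∈ S := Iff.rfl

theorem mem_stabilizing_of_forward [Fintype F] (g : GL ι F) (S : Set (ι → F))
    (h : ∀ x ∈ S, (g : Matrix ι ι F) *ᵥ x ∈ S) : g ∈ stabilizing (glToMat ι F) S := by
  classical
  have hpow : ∀ n : ℕ, ∀ x ∈ S, ((g ^ n : GL ι F) : Matrix ι ι F) *ᵥ x ∈ S := by
    intro n
    induction n with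
    | zero => intro x hx; simpa using hx
    | succ n ih =>
      intro x hx
      rw [pow_succ', Units.val_mul, ← Matrix.mulVec_mulVec]
      exact h _ (ih x hx)
  have hfin : IsOfFinOrder g := isOfFinOrder_of_finite g
  have hpos := hfin.orderOf_pos
  have hinv : g⁻¹ = g ^ (orderOf g - 1) := by
    rw [inv_eq_iff_mul_eq_one, ← pow_succ', Nat.sub_add_cancel hpos, pow_orderOf_eq_one]
  rw [mem_stabilizing]
  intro v
  constructor
  · exact h v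
  · intro hv
    have := hpow (orderOf g - 1) _ hv
    rw [← hinv, inv_mulVec_mulVec] at this
    exact this

theorem Q_sum_orth {Q : (ι → F) → F} (hQ : IsNondegenerateQuadraticForm Q) {α : Type*}
    [DecidableEq α] (s : Finset α) (w : α → (ι → F)) (c : α → F)
    (horth : ∀ p ∈ s, ∀ q ∈ s, p ≠ q → B[Q] (w p) (w q) = 0) :
    Q (∑ p ∈ s, c p • w p) = ∑ p ∈ s, c p ^ 2 * Q (w p) := by
  have hb := hQ.polar_bilinear
  induction s using Finset.induction_on with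
  | empty => simp [Q_zero hQ]
  | insert a s ha ih =>
    rw [Finset.sum_insert ha, Finset.sum_insert ha, Q_add Q, hQ.smul, ih (fun p hp q hq hpq =>
      horth p (Finset.mem_insert_of_mem hp) q (Finset.mem_insert_of_mem hq) hpq),
      bil_sum_right hb]
    have : ∑ p ∈ s, B[Q] (c a • w a) (c p • w p) = 0 := by
      refine Finset.sum_eq_zero fun p hp => ?_
      rw [hb.smul_left, hb.smul_right, horth a (Finset.mem_insert_self a s) p
        (Finset.mem_insert_of_mem hp) (fun h => ha (h ▸ hp)), mul_zero, mul_zero]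
    rw [this, add_zero]

/-- A sum of at most three squares equal to one over the field with three elements has exactly one
non-zero term. -/
theorem sum_sq_eq_one [Fintype F] (hq : Fintype.card F = 3) {k : ℕ} (hk : k ≤ 3) (c : Fin k → F)
    (h : ∑ p, c p ^ 2 = 1) : ∃ p, c p ≠ 0 ∧ ∀ p', p' ≠ p → c p' = 0 := by
  classical
  have h3 := three_eq_zero hq
  have hterm : ∀ p, c p ^ 2 = if c p ≠ 0 then 1 else 0 := by
    intro p
    by_cases hp : c p = 0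
    · simp [hp]
    · rw [if_pos hp, sq_eq_one hq _ hp]
  rw [Finset.sum_congr rfl (fun p _ => hterm p), Finset.sum_boole] at h
  set S := Finset.univ.filter (fun p : Fin k => c p ≠ 0) with hS
  have hcard : S.card ≤ 3 := by
    have := Finset.card_le_univ S
    rw [Fintype.card_fin] at this
    omega
  have h1 : S.card = 1 := by
    interval_cases hc : S.card
    · simp at h
    · rfl
    · exfalso
      have : (1 : F) = 0 := by
        push_cast at h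
        linear_combination h
      exact one_ne_zero this
    · exfalso
      have : (1 : F) = 0 := by
        push_cast at h
        linear_combination h3 - h
      exact one_ne_zero this
  obtain ⟨p, hp⟩ := Finset.card_eq_one.mp h1
  refine ⟨p, ?_, ?_⟩
  · have : p ∈ S := by rw [hp]; exact Finset.mem_singleton_self p
    exact (Finset.mem_filter.mp this).2
  · intro p' hp'
    by_contra hne
    have : p' ∈ S := Finset.mem_filter.mpr ⟨Finset.mem_univ _, hne⟩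
    rw [hp, Finset.mem_singleton] at this
    exact hp' this

/-- Characterisation of the frame vectors. -/
theorem frame_char [Fintype F] {Q : (ι → F) → F} (hQ : IsNondegenerateQuadraticForm Q)
    (hq : Fintype.card F = 3) {k : ℕ} (hk : k ≤ 3) (w : Fin k → (ι → F)) (δ : F) (hδ : δ ≠ 0)
    (hwQ : ∀ p, Q (w p) = δ) (horth : ∀ p q, p ≠ q → B[Q] (w p) (w q) = 0) (c : Fin k → F)
    (hx : Q (∑ p, c p • w p) = δ) :
    ∃ (p : Fin k) (c' : F), c' * c' = 1 ∧ ∑ p, c p • w p = c' • w p := by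
  classical
  rw [Q_sum_orth hQ Finset.univ w c (fun p _ q _ hpq => horth p q hpq)] at hx
  have hsum : ∑ p, c p ^ 2 = 1 := by
    have : (∑ p, c p ^ 2) * δ = 1 * δ := by
      rw [Finset.sum_mul, one_mul]
      conv_rhs => rw [← hx]
      exact Finset.sum_congr rfl fun p _ => by rw [hwQ]
    exact mul_right_cancel₀ hδ this
  obtain ⟨p, hp, hp'⟩ := sum_sq_eq_one hq hk c hsum
  refine ⟨p, c p, ?_, ?_⟩
  · have := sq_eq_one hq _ hp
    rwa [pow_two] at this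
  · rw [Finset.sum_eq_single p]
    · intro q _ hq'
      rw [hp' q hq', zero_smul]
    · intro h; exact absurd (Finset.mem_univ _) h

/-- An orthogonal family of non-singular vectors of the right size spans. -/
theorem frame_span {Q : (ι → F) → F} (hQ : IsNondegenerateQuadraticForm Q) (h2 : (2 : F) ≠ 0)
    {k : ℕ} (X : Submodule F (ι → F)) (hX : Module.finrank F X = k) (w : Fin k → (ι → F))
    (δ : F) (hδ : δ ≠ 0) (hwX : ∀ p, w p ∈ X) (hwQ : ∀ p, Q (w p) = δ)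
    (horth : ∀ p q, p ≠ q → B[Q] (w p) (w q) = 0) :
    ∀ x ∈ X, ∃ c : Fin k → F, x = ∑ p, c p • w p := by
  have hb := hQ.polar_bilinear
  have hli : LinearIndependent F w := by
    rw [Fintype.linearIndependent_iff]
    intro c hc q
    have e1 := congrArg (fun y => B[Q] y (w q)) hc
    simp only [bil_sum_left hb, bil_zero_left hb] at e1
    rw [Finset.sum_eq_single q] at e1
    · rw [hb.smul_left, polar_self hQ, hwQ] at e1
      rcases mul_eq_zero.mp e1 with h | h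
      · exact h
      · exact absurd h (mul_ne_zero h2 hδ)
    · intro p _ hp
      rw [hb.smul_left, horth p q hp, mul_zero]
    · intro h; exact absurd (Finset.mem_univ _) h
  have hspan_le : Submodule.span F (Set.range w) ≤ X := by
    rw [Submodule.span_le]
    rintro x ⟨p, rfl⟩
    exact hwX p
  have hfr : Module.finrank F (Submodule.span F (Set.range w)) = k := by
    rw [finrank_span_eq_card hli, Fintype.card_fin]
  have hEq : Submodule.span F (Set.range w) = X :=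
    Submodule.eq_of_le_of_finrank_eq hspan_le (by rw [hfr, hX])
  intro x hx
  rw [← hEq, Submodule.mem_span_range_iff_exists_fun] at hx
  obtain ⟨c, hc⟩ := hx
  exact ⟨c, hc.symm⟩

end general

section main

variable {F : Type*} [Field F] [Fintype F] {ι : Type} [Fintype ι] [DecidableEq ι]

local notation "B[" Q "]" => QuadraticMap.polar Q

theorem isometry_sub_polar {Q : (ι → F) → F} {X Y : Submodule F (ι → F)} (E : X ≃ₗ[F] Y)
    (hE : ∀ w : X, Q ((E w : Y) : ι → F) = Q (w : ι → F)) (x y : X) :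
    B[Q] ((E x : Y) : ι → F) ((E y : Y) : ι → F) = B[Q] (x : ι → F) (y : ι → F) := by
  simp only [QuadraticMap.polar]
  rw [← Submodule.coe_add, ← map_add, hE, hE, hE, Submodule.coe_add]

theorem decomp_not_maximal {Q : (ι → F) → F} (hQ : IsNondegenerateQuadraticForm Q)
    (hq : Fintype.card F = 3) {t k : ℕ} (ht : 3 ≤ t) (hk2 : 2 ≤ k) (hk3 : k ≤ 3)
    (D : Fin t → Submodule F (ι → F)) (hD : IsOrthogonalMDecomposition Q k D)
    (hframe : ∃ (δ : F) (w : Fin k → ι → F), δ ≠ 0 ∧ (∀ p, w p ∈ D ⟨0, by omega⟩) ∧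
      (∀ p, Q (w p) = δ) ∧ ∀ p q, p ≠ q → B[Q] (w p) (w q) = 0) :
    ∃ K : Subgroup (GL ι F), decompositionStabilizer D ⊓ omegaGL Q < K ∧ K < omegaGL Q := by
  classical
  have h3 := three_eq_zero hq
  have h2 := two_ne_zero' hq
  have hb := hQ.polar_bilinear
  obtain ⟨δ, w, hδ, hwD, hwQ, hworth⟩ := hframe
  have h2δ : 2 * δ ≠ 0 := mul_ne_zero h2 hδ
  obtain ⟨i₀, hi₀⟩ : ∃ i : Fin t, i = ⟨0, by omega⟩ := ⟨_, rfl⟩
  obtain ⟨i₁, hi₁⟩ : ∃ i : Fin t, i = ⟨1, by omega⟩ := ⟨_, rfl⟩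
  obtain ⟨i₂, hi₂⟩ : ∃ i : Fin t, i = ⟨2, by omega⟩ := ⟨_, rfl⟩
  obtain ⟨p₀, hp₀⟩ : ∃ p : Fin k, p = ⟨0, by omega⟩ := ⟨_, rfl⟩
  obtain ⟨p₁, hp₁⟩ : ∃ p : Fin k, p = ⟨1, by omega⟩ := ⟨_, rfl⟩
  have hi01 : i₀ ≠ i₁ := by rw [hi₀, hi₁]; intro h; simpa using congrArg Fin.val h
  have hi02 : i₀ ≠ i₂ := by rw [hi₀, hi₂]; intro h; simpa using congrArg Fin.val h
  have hi12 : i₁ ≠ i₂ := by rw [hi₁, hi₂]; intro h; simpa using congrArg Fin.val h
  have hp01 : p₀ ≠ p₁ := by rw [hp₀, hp₁]; intro h; simpa using congrArg Fin.val h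
  rw [← hi₀] at hwD
  -- isometries and the global frame
  have hiso := fun j => hD.isometric i₀ j
  choose E hE using hiso
  obtain ⟨W, hWdef⟩ : ∃ W : Fin t → Fin k → (ι → F),
      ∀ j p, W j p = ((E j ⟨w p, hwD p⟩ : D j) : ι → F) := ⟨_, fun _ _ => rfl⟩
  have W1 : ∀ j p, W j p ∈ D j := fun j p => by rw [hWdef]; exact (E j _).2
  have W2 : ∀ j p, Q (W j p) = δ := fun j p => by rw [hWdef, hE]; exact hwQ p
  have W3 : ∀ j p q, p ≠ q → B[Q] (W j p) (W j q) = 0 := by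
    intro j p q hpq
    rw [hWdef, hWdef, isometry_sub_polar (E j) (hE j)]
    exact hworth p q hpq
  have W4 : ∀ j j' p q, j ≠ j' → B[Q] (W j p) (W j' q) = 0 := fun j j' p q hjj' =>
    hD.decomp.orthogonal j j' hjj' _ (W1 j p) _ (W1 j' q)
  have W5 : ∀ j, ∀ x ∈ D j, ∃ c : Fin k → F, x = ∑ p, c p • W j p := fun j =>
    frame_span hQ h2 (D j) (hD.decomp.decomp.finrank_eq j) (W j) δ hδ (W1 j) (W2 j) (W3 j)
  have WG : ∀ j p j' p', (j ≠ j' ∨ p ≠ p') → B[Q] (W j p) (W j' p') = 0 := by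
    intro j p j' p' h
    by_cases hj : j = j'
    · subst hj
      exact W3 j p p' (h.resolve_left (fun h => h rfl))
    · exact W4 j j' p p' hj
  -- the set of frame vectors
  obtain ⟨Φ, hΦ⟩ : ∃ Φ : Set (ι → F), Φ = {x | (∃ j, x ∈ D j) ∧ Q x = δ} := ⟨_, rfl⟩
  have memΦ : ∀ x, x ∈ Φ ↔ (∃ j, x ∈ D j) ∧ Q x = δ := fun x => by rw [hΦ]; rfl
  have F1 : ∀ x ∈ Φ, ∃ (j : Fin t) (p : Fin k) (c : F), c * c = 1 ∧ x = c • W j p := by
    intro x hx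
    obtain ⟨⟨j, hxj⟩, hxQ⟩ := (memΦ x).mp hx
    obtain ⟨c, hc⟩ := W5 j x hxj
    rw [hc] at hxQ
    obtain ⟨p, c', hc', hsum⟩ := frame_char hQ hq hk3 (W j) δ hδ (W2 j) (W3 j) c hxQ
    exact ⟨j, p, c', hc', by rw [hc, hsum]⟩
  have F2 : ∀ (j : Fin t) (p : Fin k) (c : F), c * c = 1 → c • W j p ∈ Φ := by
    intro j p c hc
    rw [memΦ]
    refine ⟨⟨j, (D j).smul_mem c (W1 j p)⟩, ?_⟩
    rw [hQ.smul, W2, pow_two, hc, one_mul]
  have Hblk : ∀ j j' x y, x ∈ D j → y ∈ D j' → B[Q] x y ≠ 0 → j = j' := by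
    intro j j' x y hx hy hxy
    by_contra hne
    exact hxy (hD.decomp.orthogonal j j' hne x hx y hy)
  -- (i)
  have hI : ∀ g : GL ι F, g ∈ decompositionStabilizer D → g ∈ isometryGroup F Q →
      ∀ x ∈ Φ, (g : Matrix ι ι F) *ᵥ x ∈ Φ := by
    rintro g ⟨σ, hσ⟩ hgQ x hx
    obtain ⟨⟨j, hxj⟩, hxQ⟩ := (memΦ x).mp hx
    rw [memΦ]
    refine ⟨⟨σ j, ?_⟩, ?_⟩
    · rw [← hσ j]
      exact ⟨x, hxj, by rw [Matrix.toLin'_apply]⟩
    · rw [(mem_isometryGroup Q g).mp hgQ]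
      exact hxQ
  have hI' : ∀ g, g ∈ decompositionStabilizer D ⊓ isometryGroup F Q →
      g ∈ stabilizing (glToMat ι F) Φ := by
    intro g hg
    rw [mem_stabilizing]
    intro v
    constructor
    · exact hI g hg.1 hg.2 v
    · intro hv
      have hg' := (decompositionStabilizer D ⊓ isometryGroup F Q).inv_mem hg
      have := hI g⁻¹ hg'.1 hg'.2 _ hv
      rwa [inv_mulVec_mulVec] at this
  -- four frame vectors
  obtain ⟨u₁, hu₁⟩ : ∃ u, u = W i₀ p₀ := ⟨_, rfl⟩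
  obtain ⟨u₂, hu₂⟩ : ∃ u, u = W i₀ p₁ := ⟨_, rfl⟩
  obtain ⟨u₃, hu₃⟩ : ∃ u, u = W i₁ p₀ := ⟨_, rfl⟩
  obtain ⟨u₄, hu₄⟩ : ∃ u, u = W i₂ p₁ := ⟨_, rfl⟩
  have h4 : Orth4 Q u₁ u₂ u₃ u₄ δ := by
    rw [hu₁, hu₂, hu₃, hu₄]
    exact ⟨W2 _ _, W2 _ _, W2 _ _, W2 _ _, W3 i₀ p₀ p₁ hp01, W4 i₀ i₁ _ _ hi01, W4 i₀ i₂ _ _ hi02,
      W4 i₀ i₁ _ _ hi01, W4 i₀ i₂ _ _ hi02, W4 i₁ i₂ _ _ hi12⟩
  -- second witness
  have hQa : Q (vecO u₁ u₂ u₃ u₄ 1 0 (-1) 0) ≠ 0 := by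
    rw [h4.Qval hQ]; intro h; apply h2δ; linear_combination h
  have hQb : Q (vecO u₁ u₂ u₃ u₄ 0 1 0 (-1)) ≠ 0 := by
    rw [h4.Qval hQ]; intro h; apply h2δ; linear_combination h
  have hQc : Q (vecO u₁ u₂ u₃ u₄ 1 (-1) (-1) 1) ≠ 0 := by
    rw [h4.Qval hQ]; intro h; apply hδ; linear_combination h - δ * h3
  have hca : ((rQ hQ _ hQc : GL ι F) : Matrix ι ι F) *ᵥ vecO u₁ u₂ u₃ u₄ 1 0 (-1) 0 =
      vecO u₁ u₂ u₃ u₄ 0 1 0 (-1) :=
    h4.refl_step' hQ 1 (-1) (-1) 1 hQc 1 0 (-1) 0 (-1) 0 1 0 (-1) (by ring) (by ring) (by ring)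
      (by ring) (by ring)
  obtain ⟨g₂, hg₂⟩ : ∃ g : GL ι F, g = ⁅rQ hQ _ hQa, rQ hQ _ hQc⁆ := ⟨_, rfl⟩
  have hg₂Ω : g₂ ∈ omegaGL Q := by
    rw [hg₂]; exact comm_mem_omega (rQ_mem hQ _ hQa) (rQ_mem hQ _ hQc)
  have hg₂act : ∀ x, (g₂ : Matrix ι ι F) *ᵥ x =
      ((rQ hQ _ hQa : GL ι F) : Matrix ι ι F) *ᵥ (((rQ hQ _ hQb : GL ι F) : Matrix ι ι F) *ᵥ x) :=
    fun x => by rw [hg₂]; exact comm_refl_mulVec hQ _ hQa _ (rQ_mem hQ _ hQc) _ hca hQb x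
  have e₁ : (g₂ : Matrix ι ι F) *ᵥ u₁ = u₃ := by
    have : (g₂ : Matrix ι ι F) *ᵥ vecO u₁ u₂ u₃ u₄ 1 0 0 0 = vecO u₁ u₂ u₃ u₄ 0 0 1 0 := by
      rw [hg₂act, h4.refl_fix hQ 0 1 0 (-1) hQb 1 0 0 0 (by ring),
        h4.refl_step' hQ 1 0 (-1) 0 hQa 1 0 0 0 (-1) 0 0 1 0 (by ring) (by ring) (by ring)
          (by ring) (by ring)]
    rwa [vecO_e1, vecO_e3] at this
  have e₂ : (g₂ : Matrix ι ι F) *ᵥ u₂ = u₄ := by
    have : (g₂ : Matrix ι ι F) *ᵥ vecO u₁ u₂ u₃ u₄ 0 1 0 0 = vecO u₁ u₂ u₃ u₄ 0 0 0 1 := by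
      rw [hg₂act, h4.refl_step' hQ 0 1 0 (-1) hQb 0 1 0 0 (-1) 0 0 0 1 (by ring) (by ring)
        (by ring) (by ring) (by ring), h4.refl_fix hQ 1 0 (-1) 0 hQa 0 0 0 1 (by ring)]
    rwa [vecO_e2, vecO_e4] at this
  have e₃ : (g₂ : Matrix ι ι F) *ᵥ u₃ = u₁ := by
    have : (g₂ : Matrix ι ι F) *ᵥ vecO u₁ u₂ u₃ u₄ 0 0 1 0 = vecO u₁ u₂ u₃ u₄ 1 0 0 0 := by
      rw [hg₂act, h4.refl_fix hQ 0 1 0 (-1) hQb 0 0 1 0 (by ring),
        h4.refl_step' hQ 1 0 (-1) 0 hQa 0 0 1 0 1 1 0 0 0 (by ring) (by ring) (by ring)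
          (by ring) (by ring)]
    rwa [vecO_e1, vecO_e3] at this
  have e₄ : (g₂ : Matrix ι ι F) *ᵥ u₄ = u₂ := by
    have : (g₂ : Matrix ι ι F) *ᵥ vecO u₁ u₂ u₃ u₄ 0 0 0 1 = vecO u₁ u₂ u₃ u₄ 0 1 0 0 := by
      rw [hg₂act, h4.refl_step' hQ 0 1 0 (-1) hQb 0 0 0 1 1 0 1 0 0 (by ring) (by ring)
        (by ring) (by ring) (by ring), h4.refl_fix hQ 1 0 (-1) 0 hQa 0 1 0 0 (by ring)]
    rwa [vecO_e2, vecO_e4] at this
  have eoth : ∀ x, B[Q] x u₁ = 0 → B[Q] x u₂ = 0 → B[Q] x u₃ = 0 → B[Q] x u₄ = 0 →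
      (g₂ : Matrix ι ι F) *ᵥ x = x := by
    intro x h₁ h₂ h₃ h₄
    rw [hg₂act, h4.refl_fix_orth hQ _ _ _ _ hQb x h₁ h₂ h₃ h₄,
      h4.refl_fix_orth hQ _ _ _ _ hQa x h₁ h₂ h₃ h₄]
  have hperm : ∀ j p, ∃ j' p', (g₂ : Matrix ι ι F) *ᵥ W j p = W j' p' := by
    intro j p
    by_cases c1 : j = i₀ ∧ p = p₀
    · exact ⟨i₁, p₀, by rw [c1.1, c1.2, ← hu₁, ← hu₃]; exact e₁⟩
    by_cases c2 : j = i₀ ∧ p = p₁
    · exact ⟨i₂, p₁, by rw [c2.1, c2.2, ← hu₂, ← hu₄]; exact e₂⟩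
    by_cases c3 : j = i₁ ∧ p = p₀
    · exact ⟨i₀, p₀, by rw [c3.1, c3.2, ← hu₁, ← hu₃]; exact e₃⟩
    by_cases c4 : j = i₂ ∧ p = p₁
    · exact ⟨i₀, p₁, by rw [c4.1, c4.2, ← hu₂, ← hu₄]; exact e₄⟩
    refine ⟨j, p, eoth _ ?_ ?_ ?_ ?_⟩
    · rw [hu₁]; exact WG _ _ _ _ (not_and_or.mp c1)
    · rw [hu₂]; exact WG _ _ _ _ (not_and_or.mp c2)
    · rw [hu₃]; exact WG _ _ _ _ (not_and_or.mp c3)
    · rw [hu₄]; exact WG _ _ _ _ (not_and_or.mp c4)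
  have hg₂Φ : g₂ ∈ stabilizing (glToMat ι F) Φ := by
    refine mem_stabilizing_of_forward g₂ Φ ?_
    intro x hx
    obtain ⟨j, p, c, hc, rfl⟩ := F1 x hx
    obtain ⟨j', p', h'⟩ := hperm j p
    rw [Matrix.mulVec_smul, h']
    exact F2 j' p' c hc
  have hself : ∀ j p, B[Q] (W j p) (W j p) ≠ 0 := by
    intro j p
    rw [polar_self hQ, W2]
    exact h2δ
  have hg₂not : g₂ ∉ decompositionStabilizer D := by
    rintro ⟨σ, hσ⟩
    have m1 : u₃ ∈ D (σ i₀) := by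
      rw [← hσ i₀, ← e₁]
      exact ⟨u₁, by rw [hu₁]; exact W1 _ _, by rw [Matrix.toLin'_apply]⟩
    have m2 : u₄ ∈ D (σ i₀) := by
      rw [← hσ i₀, ← e₂]
      exact ⟨u₂, by rw [hu₂]; exact W1 _ _, by rw [Matrix.toLin'_apply]⟩
    have k1 : σ i₀ = i₁ := Hblk _ _ u₃ u₃ m1 (by rw [hu₃]; exact W1 _ _)
      (by rw [hu₃]; exact hself _ _)
    have k2 : σ i₀ = i₂ := Hblk _ _ u₄ u₄ m2 (by rw [hu₄]; exact W1 _ _)
      (by rw [hu₄]; exact hself _ _)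
    exact hi12 (k1.symm.trans k2)
  -- third witness
  have hQc' : Q (vecO u₁ u₂ u₃ u₄ 1 1 1 1) ≠ 0 := by
    rw [h4.Qval hQ]; intro h; apply hδ; linear_combination h - δ * h3
  have hQd : Q (vecO u₁ u₂ u₃ u₄ 0 1 0 0) ≠ 0 := by
    rw [h4.Qval hQ]; intro h; apply hδ; linear_combination h
  obtain ⟨g₃, hg₃⟩ : ∃ g : GL ι F, g = ⁅rQ hQ _ hQc', rQ hQ _ hQd⁆ := ⟨_, rfl⟩
  have hg₃Ω : g₃ ∈ omegaGL Q := by
    rw [hg₃]; exact comm_mem_omega (rQ_mem hQ _ hQc') (rQ_mem hQ _ hQd)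
  have hg₃u : (g₃ : Matrix ι ι F) *ᵥ vecO u₁ u₂ u₃ u₄ 1 0 0 0 = vecO u₁ u₂ u₃ u₄ 2 (-1) 1 1 := by
    rw [hg₃, rQ_comm_mulVec,
      h4.refl_fix hQ 0 1 0 0 hQd 1 0 0 0 (by ring),
      h4.refl_step' hQ 1 1 1 1 hQc' 1 0 0 0 1 2 1 1 1 (by linear_combination (2 * δ) * h3)
        (by ring) (by ring) (by ring) (by ring),
      h4.refl_step' hQ 0 1 0 0 hQd 2 1 1 1 (-2) 2 (-1) 1 1 (by ring) (by ring) (by ring)
        (by ring) (by ring),
      h4.refl_fix hQ 1 1 1 1 hQc' 2 (-1) 1 1 (by linear_combination h3)]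
  have hg₃not : g₃ ∉ stabilizing (glToMat ι F) Φ := by
    intro hmem
    have hu₁Φ : vecO u₁ u₂ u₃ u₄ 1 0 0 0 ∈ Φ := by
      rw [vecO_e1, hu₁]
      have := F2 i₀ p₀ 1 (one_mul 1)
      rwa [one_smul] at this
    have := ((mem_stabilizing Φ g₃).mp hmem _).mp hu₁Φ
    rw [hg₃u, memΦ] at this
    obtain ⟨⟨j, hj⟩, _⟩ := this
    have k1 : j = i₀ := Hblk j i₀ _ (vecO u₁ u₂ u₃ u₄ 1 0 0 0) hj
      (by rw [vecO_e1, hu₁]; exact W1 _ _) (by
        rw [h4.polar hQ]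
        intro h; apply hδ; linear_combination h - δ * h3)
    have k2 : j = i₁ := Hblk j i₁ _ (vecO u₁ u₂ u₃ u₄ 0 0 1 0) hj
      (by rw [vecO_e3, hu₃]; exact W1 _ _) (by
        rw [h4.polar hQ]
        intro h; apply h2δ; linear_combination h)
    exact hi01 (k1.symm.trans k2)
  refine ⟨stabilizing (glToMat ι F) Φ ⊓ omegaGL Q, ?_, ?_⟩
  · refine lt_of_le_of_ne ?_ ?_
    · intro g hg
      exact ⟨hI' g ⟨hg.1, omega_le_isometry Q hg.2⟩, hg.2⟩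
    · intro heq
      have : g₂ ∈ decompositionStabilizer D ⊓ omegaGL Q := by
        rw [heq]; exact ⟨hg₂Φ, hg₂Ω⟩
      exact hg₂not this.1
  · refine lt_of_le_of_ne inf_le_right ?_
    intro heq
    have : g₃ ∈ stabilizing (glToMat ι F) Φ ⊓ omegaGL Q := by
      rw [heq]; exact hg₃Ω
    exact hg₃not this.1

end main

section frames

variable {F : Type*} [Field F] [Fintype F] {ι : Type} [Fintype ι] [DecidableEq ι]

local notation "B[" Q "]" => QuadraticMap.polar Q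

/-- An orthogonal basis of non-singular vectors of a non-degenerate subspace (odd
characteristic). -/
theorem exists_orth_sub {Q : (ι → F) → F} (hQ : IsNondegenerateQuadraticForm Q) (h2 : (2 : F) ≠ 0)
    (X : Submodule F (ι → F)) (hnd : IsNondegenerateOn (B[Q]) X) :
    ∃ v : Fin (Module.finrank F X) → X, (∀ i j, i ≠ j → B[Q] (v i : ι → F) (v j : ι → F) = 0) ∧
      ∀ i, B[Q] (v i : ι → F) (v i : ι → F) ≠ 0 := by
  have hb := hQ.polar_bilinear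
  set Br : LinearMap.BilinForm F X :=
    LinearMap.mk₂ F (fun x y : X => B[Q] (x : ι → F) (y : ι → F))
      (fun x y z => by simp only [Submodule.coe_add, hb.add_left])
      (fun c x y => by simp only [Submodule.coe_smul, hb.smul_left, smul_eq_mul])
      (fun x y z => by simp only [Submodule.coe_add, hb.add_right])
      (fun c x y => by simp only [Submodule.coe_smul, hb.smul_right, smul_eq_mul]) with hBr
  have hBrapp : ∀ x y : X, Br x y = B[Q] (x : ι → F) (y : ι → F) := fun x y => rfl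
  have hsymm : LinearMap.IsSymm Br :=
    ⟨fun x y => by simp only [RingHom.id_apply, hBrapp]; exact polar_symm Q _ _⟩
  have : Invertible (2 : F) := invertibleOfNonzero h2
  obtain ⟨v, hv⟩ := LinearMap.BilinForm.exists_orthogonal_basis hsymm
  have hsep : Br.SeparatingLeft := by
    intro x hx
    by_contra hx0
    have hx0' : (x : ι → F) ≠ 0 := fun h => hx0 (Subtype.ext h)
    obtain ⟨_, ⟨y, hyX, hy⟩⟩ := hnd x x.2 hx0'
    exact hy (hx ⟨y, hyX⟩)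
  refine ⟨fun i => v i, fun i j hij => hv hij, fun i => ?_⟩
  exact LinearMap.IsOrthoᵢ.not_isOrtho_basis_self_of_separatingLeft hv hsep i

theorem exists_frame_sub3 {Q : (ι → F) → F} (hQ : IsNondegenerateQuadraticForm Q)
    (hq : Fintype.card F = 3) (X : Submodule F (ι → F)) (hX : Module.finrank F X = 3)
    (hnd : IsNondegenerateOn (B[Q]) X) :
    ∃ (δ : F) (w : Fin 3 → ι → F), δ ≠ 0 ∧ (∀ p, w p ∈ X) ∧ (∀ p, Q (w p) = δ) ∧
      ∀ p q, p ≠ q → B[Q] (w p) (w q) = 0 := by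
  have hb := hQ.polar_bilinear
  have h3 := three_eq_zero hq
  have h2 := two_ne_zero' hq
  obtain ⟨v, hvo, hvn⟩ := exists_orth_sub hQ h2 X hnd
  set i0 : Fin (Module.finrank F X) := ⟨0, by rw [hX]; norm_num⟩ with hi0
  set i1 : Fin (Module.finrank F X) := ⟨1, by rw [hX]; norm_num⟩ with hi1
  set i2 : Fin (Module.finrank F X) := ⟨2, by rw [hX]; norm_num⟩ with hi2
  have h01 : i0 ≠ i1 := by intro h; have := congrArg Fin.val h; simp [hi0, hi1] at this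
  have h02 : i0 ≠ i2 := by intro h; have := congrArg Fin.val h; simp [hi0, hi2] at this
  have h12 : i1 ≠ i2 := by intro h; have := congrArg Fin.val h; simp [hi1, hi2] at this
  set fX : X → X → F := fun x y => B[Q] (x : ι → F) (y : ι → F) with hfX
  have hal : ∀ x y v : X, fX (x + y) v = fX x v + fX y v := fun x y v => by
    simp only [hfX, Submodule.coe_add, hb.add_left]
  have hsl : ∀ (c : F) (x v : X), fX (c • x) v = c * fX x v := fun c x v => by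
    simp only [hfX, Submodule.coe_smul, hb.smul_left]
  have hsy : ∀ x y : X, fX x y = fX y x := fun x y => polar_symm Q _ _
  have key : ∃ (ε : F) (w₀ w₁ w₂ : X), ε ≠ 0 ∧ fX w₀ w₀ = ε ∧ fX w₁ w₁ = ε ∧ fX w₂ w₂ = ε ∧
      fX w₀ w₁ = 0 ∧ fX w₀ w₂ = 0 ∧ fX w₁ w₂ = 0 := by
    set a := v i0
    set b := v i1
    set c := v i2
    have hab : fX a b = 0 := hvo _ _ h01
    have hac : fX a c = 0 := hvo _ _ h02
    have hbc : fX b c = 0 := hvo _ _ h12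
    have hba : fX b a = 0 := hvo _ _ h01.symm
    have hca : fX c a = 0 := hvo _ _ h02.symm
    have hcb : fX c b = 0 := hvo _ _ h12.symm
    have one_ne : (1 : F) ≠ 0 := one_ne_zero
    have neg_one_ne : (-1 : F) ≠ 0 := neg_ne_zero.mpr one_ne_zero
    rcases eq_one_or_neg_one hq _ (hvn i0) with ha | ha <;>
    rcases eq_one_or_neg_one hq _ (hvn i1) with hb' | hb' <;>
    rcases eq_one_or_neg_one hq _ (hvn i2) with hc | hc
    · exact ⟨1, a, b, c, one_ne, ha, hb', hc, hab, hac, hbc⟩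
    · exact frame_aux fX hal hsl hsy h3 a b c 1 one_ne ha hb' hc hab hac hbc
    · exact frame_aux fX hal hsl hsy h3 a c b 1 one_ne ha hc hb' hac hab hcb
    · exact frame_aux fX hal hsl hsy h3 b c a (-1) neg_one_ne hb' hc
        (by rw [neg_neg]; exact ha) hbc hba hca
    · exact frame_aux fX hal hsl hsy h3 b c a 1 one_ne hb' hc ha hbc hba hca
    · exact frame_aux fX hal hsl hsy h3 a c b (-1) neg_one_ne ha hc
        (by rw [neg_neg]; exact hb') hac hab hcb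
    · exact frame_aux fX hal hsl hsy h3 a b c (-1) neg_one_ne ha hb'
        (by rw [neg_neg]; exact hc) hab hac hbc
    · exact ⟨-1, a, b, c, neg_one_ne, ha, hb', hc, hab, hac, hbc⟩
  obtain ⟨ε, w₀, w₁, w₂, hε, h00, h11, h22, e01, e02, e12⟩ := key
  have hQof : ∀ x : X, fX x x = ε → Q (x : ι → F) = ε / 2 := by
    intro x hx
    have : B[Q] (x : ι → F) (x : ι → F) = ε := hx
    rw [polar_self hQ] at this
    rw [eq_div_iff h2, mul_comm]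
    exact this
  refine ⟨ε / 2, ![(w₀ : ι → F), (w₁ : ι → F), (w₂ : ι → F)], div_ne_zero hε h2, ?_, ?_, ?_⟩
  · intro p
    fin_cases p
    · exact w₀.2
    · exact w₁.2
    · exact w₂.2
  · intro p
    fin_cases p
    · exact hQof w₀ h00
    · exact hQof w₁ h11
    · exact hQof w₂ h22
  · intro p q hpq
    fin_cases p <;> fin_cases q
    · exact absurd rfl hpq
    · exact e01
    · exact e02
    · exact (hsy w₁ w₀).trans e01
    · exact absurd rfl hpq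
    · exact e12
    · exact (hsy w₂ w₀).trans e02
    · exact (hsy w₂ w₁).trans e12
    · exact absurd rfl hpq

theorem exists_frame_sub2 {Q : (ι → F) → F} (hQ : IsNondegenerateQuadraticForm Q)
    (hq : Fintype.card F = 3) (X : Submodule F (ι → F)) (hX : Module.finrank F X = 2)
    (hnd : IsNondegenerateOn (B[Q]) X) (hminus : ¬ IsPlusTypeOn Q X) :
    ∃ (δ : F) (w : Fin 2 → ι → F), δ ≠ 0 ∧ (∀ p, w p ∈ X) ∧ (∀ p, Q (w p) = δ) ∧
      ∀ p q, p ≠ q → B[Q] (w p) (w q) = 0 := by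
  have hb := hQ.polar_bilinear
  have h3 := three_eq_zero hq
  have h2 := two_ne_zero' hq
  obtain ⟨v, hvo, hvn⟩ := exists_orth_sub hQ h2 X hnd
  set i0 : Fin (Module.finrank F X) := ⟨0, by rw [hX]; norm_num⟩ with hi0
  set i1 : Fin (Module.finrank F X) := ⟨1, by rw [hX]; norm_num⟩ with hi1
  have h01 : i0 ≠ i1 := by intro h; have := congrArg Fin.val h; simp [hi0, hi1] at this
  obtain ⟨a, ha⟩ : ∃ a : ι → F, a = (v i0 : ι → F) := ⟨_, rfl⟩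
  obtain ⟨b, hb'⟩ : ∃ b : ι → F, b = (v i1 : ι → F) := ⟨_, rfl⟩
  have haX : a ∈ X := by rw [ha]; exact (v i0).2
  have hbX : b ∈ X := by rw [hb']; exact (v i1).2
  have hab : B[Q] a b = 0 := by rw [ha, hb']; exact hvo _ _ h01
  have hba : B[Q] b a = 0 := by rw [polar_symm]; exact hab
  have haa : B[Q] a a ≠ 0 := by rw [ha]; exact hvn i0
  have hbb : B[Q] b b ≠ 0 := by rw [hb']; exact hvn i1
  have hQa : Q a ≠ 0 := by
    intro h; apply haa; rw [polar_self hQ, h, mul_zero]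
  have hQb : Q b ≠ 0 := by
    intro h; apply hbb; rw [polar_self hQ, h, mul_zero]
  by_cases hqq : Q a = Q b
  · refine ⟨Q a, ![a, b], hQa, ?_, ?_, ?_⟩
    · intro p; fin_cases p
      · exact haX
      · exact hbX
    · intro p; fin_cases p
      · rfl
      · exact hqq.symm
    · intro p q hpq
      fin_cases p <;> fin_cases q
      · exact absurd rfl hpq
      · exact hab
      · exact hba
      · exact absurd rfl hpq
  · exfalso
    apply hminus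
    have hneg : Q b = -Q a := by
      rcases eq_one_or_neg_one hq _ hQa with h | h <;>
      rcases eq_one_or_neg_one hq _ hQb with h' | h'
      · exact absurd (h.trans h'.symm) hqq
      · rw [h, h']
      · rw [h, h', neg_neg]
      · exact absurd (h.trans h'.symm) hqq
    have hz : Q (a + b) = 0 := by
      rw [Q_add Q, hab, hneg]; ring
    have hz0 : a + b ≠ 0 := by
      intro h
      have := congrArg (fun y => B[Q] y a) h
      simp only [hb.add_left, hba, add_zero, bil_zero_left hb] at this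
      exact haa this
    refine ⟨Submodule.span F {a + b}, ?_, ?_, ?_⟩
    · rw [Submodule.span_singleton_le_iff_mem]
      exact X.add_mem haX hbX
    · intro u hu
      obtain ⟨c, rfl⟩ := Submodule.mem_span_singleton.mp hu
      rw [hQ.smul, hz, mul_zero]
    · rw [finrank_span_singleton hz0, hX]

end frames

end Cfsg.Agent.Helper97.QD
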