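import Mathlib
import Cfsg.Prelude.Def_GeometricClasses
import Cfsg.Agent.Lib.Helper97.QuadDecomp

set_option autoImplicit false
set_option linter.unusedSectionVars false
set_option linter.unusedSimpArgs false
set_option linter.unusedVariables false

namespace Cfsg.Agent.Helper97.QD2

open Matrix Cfsg Cfsg.Geo Cfsg.Agent.Helper97 Cfsg.Agent.S5667 Cfsg.Agent.Helper97.OT3
  Cfsg.Agent.Helper97.QG Cfsg.Agent.Helper97.QD
open scoped commutatorElement

section base

variable {F : Type*} [Field F] [Fintype F] {ι : Type} [Fintype ι] [DecidableEq ι]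

local notation "B[" Q "]" => QuadraticMap.polar Q

/-- The basic chain construction: a set of vectors invariant under the decomposition
stabiliser, an element of `Ω` preserving the set but not the decomposition, and an element of
`Ω` not preserving the set. -/
theorem chain_of_set {Q : (ι → F) → F} {t : ℕ} (D : Fin t → Submodule F (ι → F))
    (S : Set (ι → F))
    (hinv : ∀ g : GL ι F, g ∈ decompositionStabilizer D → g ∈ isometryGroup F Q →
      ∀ x ∈ S, (g : Matrix ι ι F) *ᵥ x ∈ S)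
    (g₂ : GL ι F) (hg₂Ω : g₂ ∈ omegaGL Q) (hg₂S : ∀ x ∈ S, (g₂ : Matrix ι ι F) *ᵥ x ∈ S)
    (hg₂D : g₂ ∉ decompositionStabilizer D)
    (g₃ : GL ι F) (hg₃Ω : g₃ ∈ omegaGL Q) (x₃ : ι → F) (hx₃ : x₃ ∈ S)
    (hg₃ : (g₃ : Matrix ι ι F) *ᵥ x₃ ∉ S) :
    ∃ K : Subgroup (GL ι F), decompositionStabilizer D ⊓ omegaGL Q < K ∧ K < omegaGL Q := by
  classical
  have hI' : ∀ g, g ∈ decompositionStabilizer D ⊓ isometryGroup F Q →
      g ∈ stabilizing (glToMat ι F) S := by
    intro g hg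
    rw [mem_stabilizing]
    intro v
    constructor
    · exact hinv g hg.1 hg.2 v
    · intro hv
      have hg' := (decompositionStabilizer D ⊓ isometryGroup F Q).inv_mem hg
      have := hinv g⁻¹ hg'.1 hg'.2 _ hv
      rwa [inv_mulVec_mulVec] at this
  have hg₂Φ : g₂ ∈ stabilizing (glToMat ι F) S := mem_stabilizing_of_forward g₂ S hg₂S
  have hg₃not : g₃ ∉ stabilizing (glToMat ι F) S := by
    intro hmem
    exact hg₃ (((mem_stabilizing S g₃).mp hmem _).mp hx₃)
  refine ⟨stabilizing (glToMat ι F) S ⊓ omegaGL Q, ?_, ?_⟩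
  · refine lt_of_le_of_ne ?_ ?_
    · intro g hg
      exact ⟨hI' g ⟨hg.1, omega_le_isometry Q hg.2⟩, hg.2⟩
    · intro heq
      have : g₂ ∈ decompositionStabilizer D ⊓ omegaGL Q := by
        rw [heq]; exact ⟨hg₂Φ, hg₂Ω⟩
      exact hg₂D this.1
  · refine lt_of_le_of_ne inf_le_right ?_
    intro heq
    have : g₃ ∈ stabilizing (glToMat ι F) S ⊓ omegaGL Q := by
      rw [heq]; exact hg₃Ω
    exact hg₃not this.1

/-- The set of vectors of a given norm lying in a member of the decomposition. -/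
def PhiSet (Q : (ι → F) → F) {t : ℕ} (D : Fin t → Submodule F (ι → F)) (δ : F) : Set (ι → F) :=
  {x | (∃ j, x ∈ D j) ∧ Q x = δ}

theorem mem_PhiSet (Q : (ι → F) → F) {t : ℕ} (D : Fin t → Submodule F (ι → F)) (δ : F)
    (x : ι → F) : x ∈ PhiSet Q D δ ↔ (∃ j, x ∈ D j) ∧ Q x = δ := Iff.rfl

theorem PhiSet_inv (Q : (ι → F) → F) {t : ℕ} (D : Fin t → Submodule F (ι → F)) (δ : F)
    (g : GL ι F) (hgD : g ∈ decompositionStabilizer D) (hgQ : g ∈ isometryGroup F Q)
    (x : ι → F) (hx : x ∈ PhiSet Q D δ) : (g : Matrix ι ι F) *ᵥ x ∈ PhiSet Q D δ := by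
  obtain ⟨σ, hσ⟩ := hgD
  obtain ⟨⟨j, hxj⟩, hxQ⟩ := hx
  refine ⟨⟨σ j, ?_⟩, ?_⟩
  · rw [← hσ j]
    exact ⟨x, hxj, by rw [Matrix.toLin'_apply]⟩
  · rw [(mem_isometryGroup Q g).mp hgQ]
    exact hxQ

/-- Non-orthogonal vectors of members of the decomposition lie in the same member. -/
theorem block_eq {Q : (ι → F) → F} {t k : ℕ} {D : Fin t → Submodule F (ι → F)}
    (hD : IsOrthogonalMDecomposition Q k D) {j j' : Fin t} {x y : ι → F} (hx : x ∈ D j)
    (hy : y ∈ D j') (hxy : B[Q] x y ≠ 0) : j = j' := by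
  by_contra hne
  exact hxy (hD.decomp.orthogonal j j' hne x hx y hy)

theorem not_mem_stab {Q : (ι → F) → F} {t k : ℕ} {D : Fin t → Submodule F (ι → F)}
    (hD : IsOrthogonalMDecomposition Q k D) (g : GL ι F) {j j₁ j₂ : Fin t} (hne : j₁ ≠ j₂)
    (x x' : ι → F) (hx : x ∈ D j) (hx' : x' ∈ D j) (y y' : ι → F) (hy : y ∈ D j₁)
    (hy' : y' ∈ D j₂) (h1 : B[Q] ((g : Matrix ι ι F) *ᵥ x) y ≠ 0)
    (h2 : B[Q] ((g : Matrix ι ι F) *ᵥ x') y' ≠ 0) : g ∉ decompositionStabilizer D := by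
  rintro ⟨σ, hσ⟩
  have m1 : (g : Matrix ι ι F) *ᵥ x ∈ D (σ j) := by
    rw [← hσ j]
    exact ⟨x, hx, by rw [Matrix.toLin'_apply]⟩
  have m2 : (g : Matrix ι ι F) *ᵥ x' ∈ D (σ j) := by
    rw [← hσ j]
    exact ⟨x', hx', by rw [Matrix.toLin'_apply]⟩
  exact hne ((block_eq hD m1 hy h1).symm.trans (block_eq hD m2 hy' h2))

theorem not_mem_blocks {Q : (ι → F) → F} {t k : ℕ} {D : Fin t → Submodule F (ι → F)}
    (hD : IsOrthogonalMDecomposition Q k D) (z : ι → F) {j₁ j₂ : Fin t} (hne : j₁ ≠ j₂)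
    (y y' : ι → F) (hy : y ∈ D j₁) (hy' : y' ∈ D j₂) (h1 : B[Q] z y ≠ 0) (h2 : B[Q] z y' ≠ 0) :
    ¬ ∃ j, z ∈ D j := by
  rintro ⟨j, hz⟩
  exact hne ((block_eq hD hz hy h1).symm.trans (block_eq hD hz hy' h2))

/-- A hyperbolic pair in a plus-type plane. -/
theorem exists_hyp_pair {Q : (ι → F) → F} (hQ : IsNondegenerateQuadraticForm Q)
    (X : Submodule F (ι → F)) (hX : Module.finrank F X = 2)
    (hnd : IsNondegenerateOn (B[Q]) X) (hplus : IsPlusTypeOn Q X) :
    ∃ e f : ι → F, e ∈ X ∧ f ∈ X ∧ Q e = 0 ∧ Q f = 0 ∧ B[Q] e f = 1 := by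
  have hb := hQ.polar_bilinear
  obtain ⟨U, hUX, hUs, hUd⟩ := hplus
  have hU1 : Module.finrank F U = 1 := by omega
  have hUnt : Nontrivial U := Module.nontrivial_of_finrank_pos (R := F) (by omega)
  obtain ⟨e', he'⟩ := exists_ne (0 : U)
  have he0 : (e' : ι → F) ≠ 0 := fun h => he' (Subtype.ext h)
  have heX : (e' : ι → F) ∈ X := hUX e'.2
  have heQ : Q (e' : ι → F) = 0 := hUs _ e'.2
  obtain ⟨_, ⟨y, hyX, hy⟩⟩ := hnd _ heX he0
  obtain ⟨c, hc⟩ : ∃ c : F, c = B[Q] (e' : ι → F) y := ⟨_, rfl⟩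
  rw [← hc] at hy
  obtain ⟨y', hy'⟩ : ∃ y' : ι → F, y' = c⁻¹ • y := ⟨_, rfl⟩
  have hy'X : y' ∈ X := by rw [hy']; exact X.smul_mem _ hyX
  have hey' : B[Q] (e' : ι → F) y' = 1 := by
    rw [hy', hb.smul_right, ← hc, inv_mul_cancel₀ hy]
  have hy'e : B[Q] y' (e' : ι → F) = 1 := by rw [polar_symm]; exact hey'
  refine ⟨e', y' + (-(Q y')) • (e' : ι → F), heX, X.add_mem hy'X (X.smul_mem _ heX), heQ, ?_, ?_⟩
  · rw [Q_add_smul hQ, heQ, hy'e]
    ring
  · rw [hb.add_right, hb.smul_right, hey', polar_self hQ, heQ]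
    ring

/-- A plane containing a hyperbolic pair is spanned by it. -/
theorem span_hyp_pair {Q : (ι → F) → F} (hQ : IsNondegenerateQuadraticForm Q)
    (X : Submodule F (ι → F)) (hX : Module.finrank F X = 2) (e f : ι → F) (he : e ∈ X)
    (hf : f ∈ X) (hee : B[Q] e e = 0) (hff : B[Q] f f = 0) (hef : B[Q] e f ≠ 0) :
    ∀ x ∈ X, ∃ a b : F, x = a • e + b • f := by
  have hb := hQ.polar_bilinear
  have hfe : B[Q] f e ≠ 0 := by rw [polar_symm]; exact hef
  set w : Fin 2 → (ι → F) := ![e, f] with hw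
  have hli : LinearIndependent F w := by
    rw [Fintype.linearIndependent_iff]
    intro c hc
    simp only [Fin.sum_univ_two, hw, Matrix.cons_val_zero, Matrix.cons_val_one] at hc
    have e1 := congrArg (fun y => B[Q] y f) hc
    have e2 := congrArg (fun y => B[Q] y e) hc
    simp only [hb.add_left, hb.smul_left, hee, hff, bil_zero_left hb, mul_zero, add_zero,
      zero_add] at e1 e2
    intro i
    fin_cases i
    · rcases mul_eq_zero.mp e1 with h | h
      · exact h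
      · exact absurd h hef
    · rcases mul_eq_zero.mp e2 with h | h
      · exact h
      · exact absurd h hfe
  have hspan_le : Submodule.span F (Set.range w) ≤ X := by
    rw [Submodule.span_le]
    rintro x ⟨p, rfl⟩
    fin_cases p
    · exact he
    · exact hf
  have hfr : Module.finrank F (Submodule.span F (Set.range w)) = 2 := by
    rw [finrank_span_eq_card hli, Fintype.card_fin]
  have hEq : Submodule.span F (Set.range w) = X :=
    Submodule.eq_of_le_of_finrank_eq hspan_le (by rw [hfr, hX])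
  intro x hx
  rw [← hEq, Submodule.mem_span_range_iff_exists_fun] at hx
  obtain ⟨c, hc⟩ := hx
  refine ⟨c 0, c 1, ?_⟩
  rw [← hc]
  simp [Fin.sum_univ_two, hw]

end base

end Cfsg.Agent.Helper97.QD2
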