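import Mathlib
import Cfsg.Prelude.Def_GeometricClasses
import Cfsg.Agent.Lib.Helper97.QD2Base

set_option autoImplicit false
set_option linter.unusedSectionVars false
set_option linter.unusedSimpArgs false
set_option linter.unusedVariables false

namespace Cfsg.Agent.Helper97.QD2

open Matrix Cfsg Cfsg.Geo Cfsg.Agent.Helper97 Cfsg.Agent.S5667 Cfsg.Agent.Helper97.OT3
  Cfsg.Agent.Helper97.QG Cfsg.Agent.Helper97.QD
open scoped commutatorElement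

section odd

variable {F : Type*} [Field F] [Fintype F] {ι : Type} [Fintype ι] [DecidableEq ι]

local notation "B[" Q "]" => QuadraticMap.polar Q

/-- The double transposition of four orthogonal vectors of equal norm, as an element of `Ω`. -/
theorem Orth4.exists_dt {Q : (ι → F) → F} (hQ : IsNondegenerateQuadraticForm Q)
    (h2 : (2 : F) ≠ 0) {u₁ u₂ u₃ u₄ : ι → F} {δ : F} (h4 : Orth4 Q u₁ u₂ u₃ u₄ δ) (hδ : δ ≠ 0) :
    ∃ g : GL ι F, g ∈ omegaGL Q ∧ (g : Matrix ι ι F) *ᵥ u₁ = u₃ ∧ (g : Matrix ι ι F) *ᵥ u₂ = u₄ ∧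
      (g : Matrix ι ι F) *ᵥ u₃ = u₁ ∧ (g : Matrix ι ι F) *ᵥ u₄ = u₂ ∧
      ∀ x, B[Q] x u₁ = 0 → B[Q] x u₂ = 0 → B[Q] x u₃ = 0 → B[Q] x u₄ = 0 →
        (g : Matrix ι ι F) *ᵥ x = x := by
  have h2δ : 2 * δ ≠ 0 := mul_ne_zero h2 hδ
  have h4δ : 4 * δ ≠ 0 := by
    have : (4 : F) = 2 * 2 := by norm_num
    rw [this]
    exact mul_ne_zero (mul_ne_zero h2 h2) hδ
  have hQa : Q (vecO u₁ u₂ u₃ u₄ 1 0 (-1) 0) ≠ 0 := by
    rw [h4.Qval hQ]; intro h; apply h2δ; linear_combination h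
  have hQb : Q (vecO u₁ u₂ u₃ u₄ 0 1 0 (-1)) ≠ 0 := by
    rw [h4.Qval hQ]; intro h; apply h2δ; linear_combination h
  have hQc : Q (vecO u₁ u₂ u₃ u₄ 1 (-1) (-1) 1) ≠ 0 := by
    rw [h4.Qval hQ]; intro h; apply h4δ; linear_combination h
  have hca : ((rQ hQ _ hQc : GL ι F) : Matrix ι ι F) *ᵥ vecO u₁ u₂ u₃ u₄ 1 0 (-1) 0 =
      vecO u₁ u₂ u₃ u₄ 0 1 0 (-1) :=
    h4.refl_step' hQ 1 (-1) (-1) 1 hQc 1 0 (-1) 0 (-1) 0 1 0 (-1) (by ring) (by ring) (by ring)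
      (by ring) (by ring)
  obtain ⟨g₂, hg₂⟩ : ∃ g : GL ι F, g = ⁅rQ hQ _ hQa, rQ hQ _ hQc⁆ := ⟨_, rfl⟩
  have hg₂Ω : g₂ ∈ omegaGL Q := by
    rw [hg₂]; exact comm_mem_omega (rQ_mem hQ _ hQa) (rQ_mem hQ _ hQc)
  have hg₂act : ∀ x, (g₂ : Matrix ι ι F) *ᵥ x =
      ((rQ hQ _ hQa : GL ι F) : Matrix ι ι F) *ᵥ (((rQ hQ _ hQb : GL ι F) : Matrix ι ι F) *ᵥ x) :=
    fun x => by rw [hg₂]; exact comm_refl_mulVec hQ _ hQa _ (rQ_mem hQ _ hQc) _ hca hQb x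
  refine ⟨g₂, hg₂Ω, ?_, ?_, ?_, ?_, ?_⟩
  · have : (g₂ : Matrix ι ι F) *ᵥ vecO u₁ u₂ u₃ u₄ 1 0 0 0 = vecO u₁ u₂ u₃ u₄ 0 0 1 0 := by
      rw [hg₂act, h4.refl_fix hQ 0 1 0 (-1) hQb 1 0 0 0 (by ring),
        h4.refl_step' hQ 1 0 (-1) 0 hQa 1 0 0 0 (-1) 0 0 1 0 (by ring) (by ring) (by ring)
          (by ring) (by ring)]
    rwa [vecO_e1, vecO_e3] at this
  · have : (g₂ : Matrix ι ι F) *ᵥ vecO u₁ u₂ u₃ u₄ 0 1 0 0 = vecO u₁ u₂ u₃ u₄ 0 0 0 1 := by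
      rw [hg₂act, h4.refl_step' hQ 0 1 0 (-1) hQb 0 1 0 0 (-1) 0 0 0 1 (by ring) (by ring)
        (by ring) (by ring) (by ring), h4.refl_fix hQ 1 0 (-1) 0 hQa 0 0 0 1 (by ring)]
    rwa [vecO_e2, vecO_e4] at this
  · have : (g₂ : Matrix ι ι F) *ᵥ vecO u₁ u₂ u₃ u₄ 0 0 1 0 = vecO u₁ u₂ u₃ u₄ 1 0 0 0 := by
      rw [hg₂act, h4.refl_fix hQ 0 1 0 (-1) hQb 0 0 1 0 (by ring),
        h4.refl_step' hQ 1 0 (-1) 0 hQa 0 0 1 0 1 1 0 0 0 (by ring) (by ring) (by ring)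
          (by ring) (by ring)]
    rwa [vecO_e1, vecO_e3] at this
  · have : (g₂ : Matrix ι ι F) *ᵥ vecO u₁ u₂ u₃ u₄ 0 0 0 1 = vecO u₁ u₂ u₃ u₄ 0 1 0 0 := by
      rw [hg₂act, h4.refl_step' hQ 0 1 0 (-1) hQb 0 0 0 1 1 0 1 0 0 (by ring) (by ring)
        (by ring) (by ring) (by ring), h4.refl_fix hQ 1 0 (-1) 0 hQa 0 1 0 0 (by ring)]
    rwa [vecO_e2, vecO_e4] at this
  · intro x h₁ h₂ h₃ h₄
    rw [hg₂act, h4.refl_fix_orth hQ _ _ _ _ hQb x h₁ h₂ h₃ h₄,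
      h4.refl_fix_orth hQ _ _ _ _ hQa x h₁ h₂ h₃ h₄]

/-- An element of `Ω` mixing four orthogonal vectors of equal norm. -/
theorem Orth4.exists_mix {Q : (ι → F) → F} (hQ : IsNondegenerateQuadraticForm Q)
    (h2 : (2 : F) ≠ 0) {u₁ u₂ u₃ u₄ : ι → F} {δ : F} (h4 : Orth4 Q u₁ u₂ u₃ u₄ δ) (hδ : δ ≠ 0) :
    ∃ g : GL ι F, g ∈ omegaGL Q ∧
      (g : Matrix ι ι F) *ᵥ u₁ = vecO u₁ u₂ u₃ u₄ 2⁻¹ 2⁻¹ (-2⁻¹) (-2⁻¹) := by
  have h4δ : 4 * δ ≠ 0 := by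
    have : (4 : F) = 2 * 2 := by norm_num
    rw [this]
    exact mul_ne_zero (mul_ne_zero h2 h2) hδ
  obtain ⟨h, hh'⟩ : ∃ h : F, (2 : F)⁻¹ = h := ⟨_, rfl⟩
  have hh : 2 * h = 1 := by rw [← hh']; exact mul_inv_cancel₀ h2
  have hQc' : Q (vecO u₁ u₂ u₃ u₄ 1 1 1 1) ≠ 0 := by
    rw [h4.Qval hQ]; intro h; apply h4δ; linear_combination h
  have hQd : Q (vecO u₁ u₂ u₃ u₄ 0 1 0 0) ≠ 0 := by
    rw [h4.Qval hQ]; intro h; apply hδ; linear_combination h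
  obtain ⟨g₃, hg₃⟩ : ∃ g : GL ι F, g = ⁅rQ hQ _ hQc', rQ hQ _ hQd⁆ := ⟨_, rfl⟩
  have hg₃Ω : g₃ ∈ omegaGL Q := by
    rw [hg₃]; exact comm_mem_omega (rQ_mem hQ _ hQc') (rQ_mem hQ _ hQd)
  refine ⟨g₃, hg₃Ω, ?_⟩
  rw [hh']
  have : (g₃ : Matrix ι ι F) *ᵥ vecO u₁ u₂ u₃ u₄ 1 0 0 0 = vecO u₁ u₂ u₃ u₄ h h (-h) (-h) := by
    rw [hg₃, rQ_comm_mulVec,
      h4.refl_fix hQ 0 1 0 0 hQd 1 0 0 0 (by ring),
      h4.refl_step' hQ 1 1 1 1 hQc' 1 0 0 0 (-h) h (-h) (-h) (-h)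
        (by linear_combination (-2 * δ) * hh) (by linear_combination hh)
        (by ring) (by ring) (by ring),
      h4.refl_step' hQ 0 1 0 0 hQd h (-h) (-h) (-h) (2 * h) h h (-h) (-h) (by ring) (by ring)
        (by ring) (by ring) (by ring),
      h4.refl_fix hQ 1 1 1 1 hQc' h h (-h) (-h) (by ring)]
  rwa [vecO_e1] at this

/-- The frame theorem: a canonical family of pairwise orthogonal vectors of equal norm, at least
one in each member, in odd characteristic. -/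
theorem frame_thm {Q : (ι → F) → F} (hQ : IsNondegenerateQuadraticForm Q) (h2 : (2 : F) ≠ 0)
    {t k m : ℕ} (D : Fin t → Submodule F (ι → F)) (hD : IsOrthogonalMDecomposition Q k D)
    (δ : F) (hδ : δ ≠ 0) (W : Fin t → Fin m → ι → F) (p₀ : Fin m)
    (W1 : ∀ j p, W j p ∈ D j) (W2 : ∀ j p, Q (W j p) = δ)
    (WG : ∀ j p j' p', (j ≠ j' ∨ p ≠ p') → B[Q] (W j p) (W j' p') = 0)
    (F1 : ∀ j, ∀ x ∈ D j, Q x = δ → ∃ (p : Fin m) (c : F), c * c = 1 ∧ x = c • W j p)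
    (i₀ i₁ i₂ i₃ : Fin t) (h01 : i₀ ≠ i₁) (h02 : i₀ ≠ i₂) (h03 : i₀ ≠ i₃) (h12 : i₁ ≠ i₂)
    (h13 : i₁ ≠ i₃) (h23 : i₂ ≠ i₃) (z : ι → F) (hz : z ∈ D i₀) (hzz : B[Q] z z ≠ 0)
    (hz0 : B[Q] z (W i₀ p₀) = 0) :
    ∃ K : Subgroup (GL ι F), decompositionStabilizer D ⊓ omegaGL Q < K ∧ K < omegaGL Q := by
  classical
  have hb := hQ.polar_bilinear
  have h2δ : 2 * δ ≠ 0 := mul_ne_zero h2 hδ
  obtain ⟨u₁, hu₁⟩ : ∃ u, u = W i₀ p₀ := ⟨_, rfl⟩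
  obtain ⟨u₂, hu₂⟩ : ∃ u, u = W i₁ p₀ := ⟨_, rfl⟩
  obtain ⟨u₃, hu₃⟩ : ∃ u, u = W i₂ p₀ := ⟨_, rfl⟩
  obtain ⟨u₄, hu₄⟩ : ∃ u, u = W i₃ p₀ := ⟨_, rfl⟩
  have h4 : Orth4 Q u₁ u₂ u₃ u₄ δ := by
    rw [hu₁, hu₂, hu₃, hu₄]
    exact ⟨W2 _ _, W2 _ _, W2 _ _, W2 _ _, WG _ _ _ _ (Or.inl h01), WG _ _ _ _ (Or.inl h02),
      WG _ _ _ _ (Or.inl h03), WG _ _ _ _ (Or.inl h12), WG _ _ _ _ (Or.inl h13),
      WG _ _ _ _ (Or.inl h23)⟩
  obtain ⟨g₂, hg₂Ω, e₁, e₂, e₃, e₄, eoth⟩ := Orth4.exists_dt hQ h2 h4 hδ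
  obtain ⟨g₃, hg₃Ω, hg₃u⟩ := Orth4.exists_mix hQ h2 h4 hδ
  have F2 : ∀ (j : Fin t) (p : Fin m) (c : F), c * c = 1 → c • W j p ∈ PhiSet Q D δ := by
    intro j p c hc
    refine ⟨⟨j, (D j).smul_mem c (W1 j p)⟩, ?_⟩
    rw [hQ.smul, W2, pow_two, hc, one_mul]
  have hperm : ∀ j p, ∃ j' p', (g₂ : Matrix ι ι F) *ᵥ W j p = W j' p' := by
    intro j p
    by_cases c1 : j = i₀ ∧ p = p₀
    · exact ⟨i₂, p₀, by rw [c1.1, c1.2, ← hu₁, ← hu₃]; exact e₁⟩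
    by_cases c2 : j = i₁ ∧ p = p₀
    · exact ⟨i₃, p₀, by rw [c2.1, c2.2, ← hu₂, ← hu₄]; exact e₂⟩
    by_cases c3 : j = i₂ ∧ p = p₀
    · exact ⟨i₀, p₀, by rw [c3.1, c3.2, ← hu₁, ← hu₃]; exact e₃⟩
    by_cases c4 : j = i₃ ∧ p = p₀
    · exact ⟨i₁, p₀, by rw [c4.1, c4.2, ← hu₂, ← hu₄]; exact e₄⟩
    refine ⟨j, p, eoth _ ?_ ?_ ?_ ?_⟩
    · rw [hu₁]; exact WG _ _ _ _ (not_and_or.mp c1)
    · rw [hu₂]; exact WG _ _ _ _ (not_and_or.mp c2)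
    · rw [hu₃]; exact WG _ _ _ _ (not_and_or.mp c3)
    · rw [hu₄]; exact WG _ _ _ _ (not_and_or.mp c4)
  have hg₂z : (g₂ : Matrix ι ι F) *ᵥ z = z := by
    refine eoth z ?_ ?_ ?_ ?_
    · rw [hu₁]; exact hz0
    · rw [hu₂]; exact hD.decomp.orthogonal i₀ i₁ h01 z hz _ (W1 _ _)
    · rw [hu₃]; exact hD.decomp.orthogonal i₀ i₂ h02 z hz _ (W1 _ _)
    · rw [hu₄]; exact hD.decomp.orthogonal i₀ i₃ h03 z hz _ (W1 _ _)
  refine chain_of_set D (PhiSet Q D δ) (PhiSet_inv Q D δ) g₂ hg₂Ω ?_ ?_ g₃ hg₃Ω u₁ ?_ ?_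
  · intro x hx
    obtain ⟨⟨j, hxj⟩, hxQ⟩ := hx
    obtain ⟨p, c, hc, rfl⟩ := F1 j x hxj hxQ
    obtain ⟨j', p', h'⟩ := hperm j p
    rw [Matrix.mulVec_smul, h']
    exact F2 j' p' c hc
  · refine not_mem_stab hD g₂ (j := i₀) (j₁ := i₂) (j₂ := i₀) h02.symm u₁ z
      (by rw [hu₁]; exact W1 _ _) hz u₃ z (by rw [hu₃]; exact W1 _ _) hz ?_ ?_
    · rw [e₁, polar_self hQ, hu₃, W2]
      exact h2δ
    · rw [hg₂z]
      exact hzz
  · rw [hu₁]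
    exact ⟨⟨i₀, W1 _ _⟩, W2 _ _⟩
  · intro hmem
    obtain ⟨hblk, _⟩ := hmem
    refine not_mem_blocks hD _ h02 u₁ u₃ (by rw [hu₁]; exact W1 _ _) (by rw [hu₃]; exact W1 _ _)
      ?_ ?_ hblk
    · rw [hg₃u]
      have := h4.polar hQ 2⁻¹ 2⁻¹ (-2⁻¹) (-2⁻¹) 1 0 0 0
      rw [vecO_e1] at this
      rw [this]
      intro h
      apply hδ
      have h2i : (2 : F) * 2⁻¹ = 1 := mul_inv_cancel₀ h2
      linear_combination h - δ * h2i
    · rw [hg₃u]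
      have := h4.polar hQ 2⁻¹ 2⁻¹ (-2⁻¹) (-2⁻¹) 0 0 1 0
      rw [vecO_e3] at this
      rw [this]
      intro h
      apply hδ
      have h2i : (2 : F) * 2⁻¹ = 1 := mul_inv_cancel₀ h2
      linear_combination -h - δ * h2i

theorem all_pairs {Q : (ι → F) → F} (hQ : IsNondegenerateQuadraticForm Q) {t : ℕ}
    (D : Fin t → Submodule F (ι → F)) (hD : IsOrthogonalMDecomposition Q 2 D) (j₀ : Fin t)
    (hplus : IsPlusTypeOn Q (D j₀)) :
    ∀ j, ∃ e f : ι → F, e ∈ D j ∧ f ∈ D j ∧ Q e = 0 ∧ Q f = 0 ∧ B[Q] e f = 1 := by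
  obtain ⟨e, f, he, hf, heQ, hfQ, hef⟩ := exists_hyp_pair hQ (D j₀)
    (hD.decomp.decomp.finrank_eq j₀) (hD.decomp.nondegenerate j₀) hplus
  intro j
  obtain ⟨E, hE⟩ := hD.isometric j₀ j
  refine ⟨(E ⟨e, he⟩ : D j), (E ⟨f, hf⟩ : D j), (E _).2, (E _).2, ?_, ?_, ?_⟩
  · rw [hE]; exact heQ
  · rw [hE]; exact hfQ
  · rw [isometry_sub_polar E hE]; exact hef

theorem hyp_Q {Q : (ι → F) → F} (hQ : IsNondegenerateQuadraticForm Q) {e f : ι → F}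
    (heQ : Q e = 0) (hfQ : Q f = 0) (hef : B[Q] e f = 1) (a b : F) :
    Q (a • e + b • f) = a * b := by
  have hb := hQ.polar_bilinear
  rw [Q_add Q, hQ.smul, hQ.smul, heQ, hfQ, hb.smul_left, hb.smul_right, hef]
  ring

theorem hyp_B {Q : (ι → F) → F} (hQ : IsNondegenerateQuadraticForm Q) {e f : ι → F}
    (heQ : Q e = 0) (hfQ : Q f = 0) (hef : B[Q] e f = 1) (a b c d : F) :
    B[Q] (a • e + b • f) (c • e + d • f) = a * d + b * c := by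
  have hb := hQ.polar_bilinear
  have hfe : B[Q] f e = 1 := by rw [polar_symm]; exact hef
  have hee : B[Q] e e = 0 := by rw [polar_self hQ, heQ, mul_zero]
  have hff : B[Q] f f = 0 := by rw [polar_self hQ, hfQ, mul_zero]
  simp only [hb.add_left, hb.add_right, hb.smul_left, hb.smul_right, hef, hfe, hee, hff]
  ring

theorem smul_pair (e f : ι → F) (c a' b' a b : F) (ha : a = c * a') (hb : b = c * b') :
    a • e + b • f = c • (a' • e + b' • f) := by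
  rw [ha, hb, smul_add, smul_smul, smul_smul]

theorem f5_cases (hq : Fintype.card F = 5) (x : F) :
    x = 0 ∨ x = 1 ∨ x = 2 ∨ x = 3 ∨ x = 4 := by
  have h := FiniteField.pow_card x
  rw [hq] at h
  have h5 : (5 : F) = 0 := by
    have := Nat.cast_card_eq_zero F
    rw [hq] at this
    exact_mod_cast this
  have h' : x * ((x - 1) * ((x - 2) * ((x - 3) * (x - 4)))) = 0 := by
    linear_combination h + (-2 * x ^ 4 + 7 * x ^ 3 - 10 * x ^ 2 + 5 * x) * h5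
  rcases mul_eq_zero.mp h' with h0 | h'
  · left; exact h0
  rcases mul_eq_zero.mp h' with h0 | h'
  · right; left; exact sub_eq_zero.mp h0
  rcases mul_eq_zero.mp h' with h0 | h'
  · right; right; left; exact sub_eq_zero.mp h0
  rcases mul_eq_zero.mp h' with h0 | h0
  · right; right; right; left; exact sub_eq_zero.mp h0
  · right; right; right; right; exact sub_eq_zero.mp h0

/-- The case of plus-type planes over the field with five elements. -/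
theorem case_q5 {Q : (ι → F) → F} (hQ : IsNondegenerateQuadraticForm Q)
    (hq : Fintype.card F = 5) {t : ℕ} (ht : 4 ≤ t) (D : Fin t → Submodule F (ι → F))
    (hD : IsOrthogonalMDecomposition Q 2 D) (hplus : IsPlusTypeOn Q (D ⟨0, by omega⟩)) :
    ∃ K : Subgroup (GL ι F), decompositionStabilizer D ⊓ omegaGL Q < K ∧ K < omegaGL Q := by
  classical
  have hb := hQ.polar_bilinear
  have h5 : (5 : F) = 0 := by
    have := Nat.cast_card_eq_zero F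
    rw [hq] at this
    exact_mod_cast this
  have h2 : (2 : F) ≠ 0 := by
    intro h
    have : (1 : F) = 0 := by linear_combination h5 - 2 * h
    exact one_ne_zero this
  have hpairs := all_pairs hQ D hD _ hplus
  choose e f he hf heQ hfQ hef using hpairs
  obtain ⟨W, hW⟩ : ∃ W : Fin t → Fin 2 → ι → F,
      ∀ j, W j = ![(1 : F) • e j + (1 : F) • f j, (2 : F) • e j + (-2 : F) • f j] := ⟨_, fun _ => rfl⟩
  have W0 : ∀ j, W j 0 = (1 : F) • e j + (1 : F) • f j := fun j => by rw [hW]; rfl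
  have W1' : ∀ j, W j 1 = (2 : F) • e j + (-2 : F) • f j := fun j => by rw [hW]; rfl
  have hmem : ∀ j (a b : F), a • e j + b • f j ∈ D j := fun j a b =>
    (D j).add_mem ((D j).smul_mem _ (he j)) ((D j).smul_mem _ (hf j))
  have W1 : ∀ j p, W j p ∈ D j := by
    intro j p
    fin_cases p
    · rw [show W j (⟨0, by omega⟩ : Fin 2) = W j 0 from rfl, W0]; exact hmem _ _ _
    · rw [show W j (⟨1, by omega⟩ : Fin 2) = W j 1 from rfl, W1']; exact hmem _ _ _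
  have W2 : ∀ j p, Q (W j p) = 1 := by
    intro j p
    fin_cases p
    · rw [show W j (⟨0, by omega⟩ : Fin 2) = W j 0 from rfl, W0,
        hyp_Q hQ (heQ j) (hfQ j) (hef j)]
      ring
    · rw [show W j (⟨1, by omega⟩ : Fin 2) = W j 1 from rfl, W1',
        hyp_Q hQ (heQ j) (hfQ j) (hef j)]
      linear_combination (-1 : F) * h5
  have W3 : ∀ j, B[Q] (W j 0) (W j 1) = 0 := by
    intro j
    rw [W0, W1', hyp_B hQ (heQ j) (hfQ j) (hef j)]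
    ring
  have WG : ∀ j p j' p', (j ≠ j' ∨ p ≠ p') → B[Q] (W j p) (W j' p') = 0 := by
    intro j p j' p' h
    by_cases hj : j = j'
    · subst hj
      have hp : p ≠ p' := h.resolve_left (fun h => h rfl)
      fin_cases p <;> fin_cases p'
      · exact absurd rfl hp
      · exact W3 j
      · rw [polar_symm]; exact W3 j
      · exact absurd rfl hp
    · exact hD.decomp.orthogonal j j' hj _ (W1 j p) _ (W1 j' p')
  have F1 : ∀ j, ∀ x ∈ D j, Q x = 1 → ∃ (p : Fin 2) (c : F), c * c = 1 ∧ x = c • W j p := by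
    intro j x hx hxQ
    have hee : B[Q] (e j) (e j) = 0 := by rw [polar_self hQ, heQ, mul_zero]
    have hff : B[Q] (f j) (f j) = 0 := by rw [polar_self hQ, hfQ, mul_zero]
    obtain ⟨a, b, rfl⟩ := span_hyp_pair hQ (D j) (hD.decomp.decomp.finrank_eq j) (e j) (f j)
      (he j) (hf j) hee hff (by rw [hef]; exact one_ne_zero) x hx
    rw [hyp_Q hQ (heQ j) (hfQ j) (hef j)] at hxQ
    rcases f5_cases hq a with ha | ha | ha | ha | ha
    · rw [ha, zero_mul] at hxQ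
      exact absurd hxQ zero_ne_one
    · have hb1 : b = 1 := by rw [ha] at hxQ; linear_combination hxQ
      refine ⟨0, 1, by ring, ?_⟩
      rw [W0, ha, hb1]
      exact smul_pair _ _ 1 1 1 1 1 (by ring) (by ring)
    · have hb1 : b = 3 := by rw [ha] at hxQ; linear_combination 3 * hxQ - b * h5
      refine ⟨1, 1, by ring, ?_⟩
      rw [W1', ha, hb1]
      exact smul_pair _ _ 1 2 (-2) 2 3 (by ring) (by linear_combination h5)
    · have hb1 : b = 2 := by rw [ha] at hxQ; linear_combination 2 * hxQ - b * h5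
      refine ⟨1, -1, by ring, ?_⟩
      rw [W1', ha, hb1]
      exact smul_pair _ _ (-1) 2 (-2) 3 2 (by linear_combination h5) (by ring)
    · have hb1 : b = 4 := by rw [ha] at hxQ; linear_combination 4 * hxQ - 3 * b * h5
      refine ⟨0, -1, by ring, ?_⟩
      rw [W0, ha, hb1]
      exact smul_pair _ _ (-1) 1 1 4 4 (by linear_combination h5) (by linear_combination h5)
  obtain ⟨i₀, hi₀⟩ : ∃ i : Fin t, i = ⟨0, by omega⟩ := ⟨_, rfl⟩
  obtain ⟨i₁, hi₁⟩ : ∃ i : Fin t, i = ⟨1, by omega⟩ := ⟨_, rfl⟩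
  obtain ⟨i₂, hi₂⟩ : ∃ i : Fin t, i = ⟨2, by omega⟩ := ⟨_, rfl⟩
  obtain ⟨i₃, hi₃⟩ : ∃ i : Fin t, i = ⟨3, by omega⟩ := ⟨_, rfl⟩
  have h01 : i₀ ≠ i₁ := by rw [hi₀, hi₁]; intro h; simpa using congrArg Fin.val h
  have h02 : i₀ ≠ i₂ := by rw [hi₀, hi₂]; intro h; simpa using congrArg Fin.val h
  have h03 : i₀ ≠ i₃ := by rw [hi₀, hi₃]; intro h; simpa using congrArg Fin.val h
  have h12 : i₁ ≠ i₂ := by rw [hi₁, hi₂]; intro h; simpa using congrArg Fin.val h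
  have h13 : i₁ ≠ i₃ := by rw [hi₁, hi₃]; intro h; simpa using congrArg Fin.val h
  have h23 : i₂ ≠ i₃ := by rw [hi₂, hi₃]; intro h; simpa using congrArg Fin.val h
  refine frame_thm hQ h2 D hD 1 one_ne_zero W 0 W1 W2 WG F1 i₀ i₁ i₂ i₃ h01 h02 h03 h12 h13 h23
    (W i₀ 1) (W1 _ _) ?_ ?_
  · rw [polar_self hQ, W2, mul_one]
    exact h2
  · rw [polar_symm]
    exact W3 i₀

/-- The case of plus-type planes over the field with three elements. -/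
theorem case_q3_plus {Q : (ι → F) → F} (hQ : IsNondegenerateQuadraticForm Q)
    (hq : Fintype.card F = 3) {t : ℕ} (ht : 4 ≤ t) (D : Fin t → Submodule F (ι → F))
    (hD : IsOrthogonalMDecomposition Q 2 D) (hplus : IsPlusTypeOn Q (D ⟨0, by omega⟩)) :
    ∃ K : Subgroup (GL ι F), decompositionStabilizer D ⊓ omegaGL Q < K ∧ K < omegaGL Q := by
  classical
  have hb := hQ.polar_bilinear
  have h3 := three_eq_zero hq
  have h2 := two_ne_zero' hq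
  have hpairs := all_pairs hQ D hD _ hplus
  choose e f he hf heQ hfQ hef using hpairs
  obtain ⟨W, hW⟩ : ∃ W : Fin t → Fin 1 → ι → F,
      ∀ j p, W j p = (1 : F) • e j + (1 : F) • f j := ⟨_, fun _ _ => rfl⟩
  have hmem : ∀ j (a b : F), a • e j + b • f j ∈ D j := fun j a b =>
    (D j).add_mem ((D j).smul_mem _ (he j)) ((D j).smul_mem _ (hf j))
  have W1 : ∀ j p, W j p ∈ D j := fun j p => by rw [hW]; exact hmem _ _ _
  have W2 : ∀ j p, Q (W j p) = 1 := by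
    intro j p
    rw [hW, hyp_Q hQ (heQ j) (hfQ j) (hef j)]
    ring
  have WG : ∀ j p j' p', (j ≠ j' ∨ p ≠ p') → B[Q] (W j p) (W j' p') = 0 := by
    intro j p j' p' h
    by_cases hj : j = j'
    · subst hj
      exact absurd (Subsingleton.elim p p') (h.resolve_left (fun h => h rfl))
    · exact hD.decomp.orthogonal j j' hj _ (W1 j p) _ (W1 j' p')
  have F1 : ∀ j, ∀ x ∈ D j, Q x = 1 → ∃ (p : Fin 1) (c : F), c * c = 1 ∧ x = c • W j p := by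
    intro j x hx hxQ
    have hee : B[Q] (e j) (e j) = 0 := by rw [polar_self hQ, heQ, mul_zero]
    have hff : B[Q] (f j) (f j) = 0 := by rw [polar_self hQ, hfQ, mul_zero]
    obtain ⟨a, b, rfl⟩ := span_hyp_pair hQ (D j) (hD.decomp.decomp.finrank_eq j) (e j) (f j)
      (he j) (hf j) hee hff (by rw [hef]; exact one_ne_zero) x hx
    rw [hyp_Q hQ (heQ j) (hfQ j) (hef j)] at hxQ
    have ha0 : a ≠ 0 := by
      intro h
      rw [h, zero_mul] at hxQ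
      exact zero_ne_one hxQ
    have haa : a * a = 1 := by
      have := sq_eq_one hq a ha0
      rwa [pow_two] at this
    have hba : b = a := by
      linear_combination a * hxQ - b * haa
    refine ⟨0, a, haa, ?_⟩
    rw [hW, hba, smul_add, smul_smul, smul_smul, mul_one]
  obtain ⟨i₀, hi₀⟩ : ∃ i : Fin t, i = ⟨0, by omega⟩ := ⟨_, rfl⟩
  obtain ⟨i₁, hi₁⟩ : ∃ i : Fin t, i = ⟨1, by omega⟩ := ⟨_, rfl⟩
  obtain ⟨i₂, hi₂⟩ : ∃ i : Fin t, i = ⟨2, by omega⟩ := ⟨_, rfl⟩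
  obtain ⟨i₃, hi₃⟩ : ∃ i : Fin t, i = ⟨3, by omega⟩ := ⟨_, rfl⟩
  have h01 : i₀ ≠ i₁ := by rw [hi₀, hi₁]; intro h; simpa using congrArg Fin.val h
  have h02 : i₀ ≠ i₂ := by rw [hi₀, hi₂]; intro h; simpa using congrArg Fin.val h
  have h03 : i₀ ≠ i₃ := by rw [hi₀, hi₃]; intro h; simpa using congrArg Fin.val h
  have h12 : i₁ ≠ i₂ := by rw [hi₁, hi₂]; intro h; simpa using congrArg Fin.val h
  have h13 : i₁ ≠ i₃ := by rw [hi₁, hi₃]; intro h; simpa using congrArg Fin.val h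
  have h23 : i₂ ≠ i₃ := by rw [hi₂, hi₃]; intro h; simpa using congrArg Fin.val h
  refine frame_thm hQ h2 D hD 1 one_ne_zero W 0 W1 W2 WG F1 i₀ i₁ i₂ i₃ h01 h02 h03 h12 h13 h23
    ((1 : F) • e i₀ + (-1 : F) • f i₀) (hmem _ _ _) ?_ ?_
  · rw [hyp_B hQ (heQ _) (hfQ _) (hef _)]
    intro h
    apply h2
    linear_combination -h
  · rw [hW, hyp_B hQ (heQ _) (hfQ _) (hef _)]
    ring

end odd

end Cfsg.Agent.Helper97.QD2
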