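import Mathlib
import Cfsg.Prelude.Def_GeometricClasses
import Cfsg.Agent.Lib.Helper97.QD2Odd
import Cfsg.Agent.S5705

set_option autoImplicit false
set_option linter.unusedSectionVars false
set_option linter.unusedSimpArgs false
set_option linter.unusedVariables false

namespace Cfsg.Agent.Helper97.QD2

open Matrix Cfsg Cfsg.Geo Cfsg.Agent.Helper97 Cfsg.Agent.S5667 Cfsg.Agent.Helper97.OT3
  Cfsg.Agent.Helper97.QG Cfsg.Agent.Helper97.QD
open scoped commutatorElement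

section zcalc

variable {F : Type*} [Field F] [CharP F 2] {ι : Type} [Fintype ι] [DecidableEq ι]

local notation "B[" Q "]" => QuadraticMap.polar Q

/-- The prime field inside a field of characteristic two. -/
def c2 (F : Type*) [Field F] [CharP F 2] : ZMod 2 →+* F := ZMod.castHom (dvd_refl 2) F

/-- The standard alternating form on six coordinates over the prime field. -/
def bZ (c d : Fin 6 → ZMod 2) : ZMod 2 :=
  c 0 * d 1 + c 1 * d 0 + c 2 * d 3 + c 3 * d 2 + c 4 * d 5 + c 5 * d 4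

/-- The standard quadratic forms on six coordinates over the prime field. -/
def qZ (κ : ZMod 2) (c : Fin 6 → ZMod 2) : ZMod 2 :=
  κ * (c 0 ^ 2 + c 1 ^ 2 + c 2 ^ 2 + c 3 ^ 2 + c 4 ^ 2 + c 5 ^ 2) + c 0 * c 1 + c 2 * c 3 +
    c 4 * c 5

/-- The Gram matrix of `bZ`. -/
def gZ (i j : Fin 6) : ZMod 2 := bZ (Pi.single i 1) (Pi.single j 1)

/-- Vectors with coordinates in the prime field. -/
def vecZ (bs : Fin 6 → ι → F) (c : Fin 6 → ZMod 2) : ι → F := ∑ i, (c2 F (c i)) • bs i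

/-- Three mutually orthogonal pairs. -/
structure ZP (Q : (ι → F) → F) (bs : Fin 6 → ι → F) (κ : ZMod 2) : Prop where
  Qb : ∀ i, Q (bs i) = c2 F κ
  Bb : ∀ i j, B[Q] (bs i) (bs j) = c2 F (gZ i j)

theorem two_eq_zero_F : (2 : F) = 0 := by
  have := CharP.cast_eq_zero F 2
  exact_mod_cast this

theorem vecZ_single (bs : Fin 6 → ι → F) (i : Fin 6) : vecZ bs (Pi.single i 1) = bs i := by
  rw [vecZ, Finset.sum_eq_single i]
  · simp
  · intro j _ hj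
    simp [Pi.single_apply, hj]
  · intro h; exact absurd (Finset.mem_univ _) h

theorem vecZ_add_smul (bs : Fin 6 → ι → F) (c d : Fin 6 → ZMod 2) (t : ZMod 2) :
    vecZ bs c + (c2 F t) • vecZ bs d = vecZ bs (c + t • d) := by
  simp only [vecZ, Finset.smul_sum, ← Finset.sum_add_distrib]
  refine Finset.sum_congr rfl fun i _ => ?_
  rw [smul_smul, ← add_smul]
  congr 1
  simp [map_add, map_mul]

theorem vecZ_add (bs : Fin 6 → ι → F) (c d : Fin 6 → ZMod 2) :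
    vecZ bs c + vecZ bs d = vecZ bs (c + d) := by
  have := vecZ_add_smul bs c d 1
  simpa using this

theorem ZP.polar {Q : (ι → F) → F} (hQ : IsNondegenerateQuadraticForm Q) {bs : Fin 6 → ι → F}
    {κ : ZMod 2} (h : ZP Q bs κ) (c d : Fin 6 → ZMod 2) :
    B[Q] (vecZ bs c) (vecZ bs d) = c2 F (bZ c d) := by
  have hb := hQ.polar_bilinear
  simp only [vecZ, bil_sum_left hb, bil_sum_right hb, hb.smul_left, hb.smul_right, h.Bb]
  simp only [Fin.sum_univ_six, gZ, bZ, map_add, map_mul, Pi.single_apply]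
  simp

theorem ZP.Qval {Q : (ι → F) → F} (hQ : IsNondegenerateQuadraticForm Q) {bs : Fin 6 → ι → F}
    {κ : ZMod 2} (h : ZP Q bs κ) (c : Fin 6 → ZMod 2) :
    Q (vecZ bs c) = c2 F (qZ κ c) := by
  have hb := hQ.polar_bilinear
  simp only [vecZ, Fin.sum_univ_six]
  rw [Q_add Q, Q_add Q, Q_add Q, Q_add Q, Q_add Q]
  simp only [hQ.smul, h.Qb, hb.add_left, hb.smul_left, hb.smul_right, h.Bb]
  simp only [gZ, bZ, qZ, map_add, map_mul, map_pow, Pi.single_apply]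
  simp
  ring

theorem ZP.Q_one {Q : (ι → F) → F} (hQ : IsNondegenerateQuadraticForm Q) {bs : Fin 6 → ι → F}
    {κ : ZMod 2} (h : ZP Q bs κ) (a : Fin 6 → ZMod 2) (ha : qZ κ a = 1) :
    Q (vecZ bs a) = 1 := by
  rw [h.Qval hQ, ha, map_one]

theorem ZP.Q_ne {Q : (ι → F) → F} (hQ : IsNondegenerateQuadraticForm Q) {bs : Fin 6 → ι → F}
    {κ : ZMod 2} (h : ZP Q bs κ) (a : Fin 6 → ZMod 2) (ha : qZ κ a = 1) :
    Q (vecZ bs a) ≠ 0 := by
  rw [h.Q_one hQ a ha]; exact one_ne_zero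

theorem ZP.refl {Q : (ι → F) → F} (hQ : IsNondegenerateQuadraticForm Q) {bs : Fin 6 → ι → F}
    {κ : ZMod 2} (h : ZP Q bs κ) (a : Fin 6 → ZMod 2) (ha : qZ κ a = 1)
    (hv : Q (vecZ bs a) ≠ 0) (c : Fin 6 → ZMod 2) :
    ((rQ hQ (vecZ bs a) hv : GL ι F) : Matrix ι ι F) *ᵥ vecZ bs c =
      vecZ bs (c + bZ c a • a) := by
  rw [S5705.rQ_one_mulVec hQ two_eq_zero_F _ (h.Q_one hQ a ha) hv, h.polar hQ, vecZ_add_smul]

theorem ZP.rot {Q : (ι → F) → F} (hQ : IsNondegenerateQuadraticForm Q) {bs : Fin 6 → ι → F}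
    {κ : ZMod 2} (h : ZP Q bs κ) (a b : Fin 6 → ZMod 2) (ha : qZ κ a = 1) (hb : qZ κ b = 1)
    (hab : bZ a b = 1) (hva : Q (vecZ bs a) ≠ 0) (hvb : Q (vecZ bs b) ≠ 0)
    (c : Fin 6 → ZMod 2) :
    ((⁅rQ hQ (vecZ bs a) hva, rQ hQ (vecZ bs b) hvb⁆ : GL ι F) : Matrix ι ι F) *ᵥ vecZ bs c =
      vecZ bs (c + bZ c a • a + (bZ c a + bZ c b) • b) := by
  rw [S5705.comm_refl_char2 hQ two_eq_zero_F _ _ (h.Q_one hQ a ha) (h.Q_one hQ b hb) hva hvb
    (by rw [h.polar hQ, hab, map_one]), h.polar hQ, h.polar hQ, ← map_add, vecZ_add_smul,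
    vecZ_add_smul]

theorem ZP.polar_orth {Q : (ι → F) → F} (hQ : IsNondegenerateQuadraticForm Q)
    {bs : Fin 6 → ι → F} (z : ι → F) (hz : ∀ i, B[Q] z (bs i) = 0) (a : Fin 6 → ZMod 2) :
    B[Q] z (vecZ bs a) = 0 := by
  have hb := hQ.polar_bilinear
  simp only [vecZ, bil_sum_right hb, hb.smul_right, hz, mul_zero, Finset.sum_const_zero]

theorem ZP.refl_fix_orth {Q : (ι → F) → F} (hQ : IsNondegenerateQuadraticForm Q)
    {bs : Fin 6 → ι → F} (z : ι → F) (hz : ∀ i, B[Q] z (bs i) = 0) (a : Fin 6 → ZMod 2)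
    (hv : Q (vecZ bs a) ≠ 0) :
    ((rQ hQ (vecZ bs a) hv : GL ι F) : Matrix ι ι F) *ᵥ z = z :=
  rQ_fix hQ _ hv z (ZP.polar_orth hQ z hz a)

theorem ZP.rot_fix_orth {Q : (ι → F) → F} (hQ : IsNondegenerateQuadraticForm Q)
    {bs : Fin 6 → ι → F} (z : ι → F) (hz : ∀ i, B[Q] z (bs i) = 0) (a b : Fin 6 → ZMod 2)
    (hva : Q (vecZ bs a) ≠ 0) (hvb : Q (vecZ bs b) ≠ 0) :
    ((⁅rQ hQ (vecZ bs a) hva, rQ hQ (vecZ bs b) hvb⁆ : GL ι F) : Matrix ι ι F) *ᵥ z = z := by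
  rw [rQ_comm_mulVec, ZP.refl_fix_orth hQ z hz b hvb, ZP.refl_fix_orth hQ z hz a hva,
    ZP.refl_fix_orth hQ z hz b hvb, ZP.refl_fix_orth hQ z hz a hva]

theorem ZP_of_pairs {Q : (ι → F) → F} (hQ : IsNondegenerateQuadraticForm Q) {t k : ℕ}
    {D : Fin t → Submodule F (ι → F)} (hD : IsOrthogonalMDecomposition Q k D) (κ : ZMod 2)
    (blk : Fin 3 → Fin t) (hblk : Function.Injective blk) (x y : Fin 3 → ι → F)
    (hx : ∀ a, x a ∈ D (blk a)) (hy : ∀ a, y a ∈ D (blk a))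
    (hxQ : ∀ a, Q (x a) = c2 F κ) (hyQ : ∀ a, Q (y a) = c2 F κ)
    (hxy : ∀ a, B[Q] (x a) (y a) = 1) :
    ZP Q ![x 0, y 0, x 1, y 1, x 2, y 2] κ := by
  have h2 : (2 : F) = 0 := two_eq_zero_F
  have hyx : ∀ a, B[Q] (y a) (x a) = 1 := fun a => by rw [polar_symm]; exact hxy a
  have hxx : ∀ a, B[Q] (x a) (x a) = 0 := fun a => by rw [polar_self hQ, h2, zero_mul]
  have hyy : ∀ a, B[Q] (y a) (y a) = 0 := fun a => by rw [polar_self hQ, h2, zero_mul]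
  have orth : ∀ a b, a ≠ b → ∀ u ∈ D (blk a), ∀ v ∈ D (blk b), B[Q] u v = 0 :=
    fun a b hab u hu v hv => hD.decomp.orthogonal (blk a) (blk b) (hblk.ne hab) u hu v hv
  have g1 : ∀ i j : Fin 6, gZ i j = if i.val / 2 = j.val / 2 ∧ i ≠ j then 1 else 0 := by decide
  refine ⟨?_, ?_⟩
  · intro i
    fin_cases i <;> simp [hxQ, hyQ]
  · intro i j
    rw [g1]
    fin_cases i <;> fin_cases j <;>
    simp [hxy, hyx, hxx, hyy, orth 0 1 (by decide) _ (hx 0) _ (hx 1),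
      orth 0 1 (by decide) _ (hx 0) _ (hy 1), orth 0 1 (by decide) _ (hy 0) _ (hx 1),
      orth 0 1 (by decide) _ (hy 0) _ (hy 1), orth 0 2 (by decide) _ (hx 0) _ (hx 2),
      orth 0 2 (by decide) _ (hx 0) _ (hy 2), orth 0 2 (by decide) _ (hy 0) _ (hx 2),
      orth 0 2 (by decide) _ (hy 0) _ (hy 2), orth 1 2 (by decide) _ (hx 1) _ (hx 2),
      orth 1 2 (by decide) _ (hx 1) _ (hy 2), orth 1 2 (by decide) _ (hy 1) _ (hx 2),
      orth 1 2 (by decide) _ (hy 1) _ (hy 2), orth 1 0 (by decide) _ (hx 1) _ (hx 0),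
      orth 1 0 (by decide) _ (hx 1) _ (hy 0), orth 1 0 (by decide) _ (hy 1) _ (hx 0),
      orth 1 0 (by decide) _ (hy 1) _ (hy 0), orth 2 0 (by decide) _ (hx 2) _ (hx 0),
      orth 2 0 (by decide) _ (hx 2) _ (hy 0), orth 2 0 (by decide) _ (hy 2) _ (hx 0),
      orth 2 0 (by decide) _ (hy 2) _ (hy 0), orth 2 1 (by decide) _ (hx 2) _ (hx 1),
      orth 2 1 (by decide) _ (hx 2) _ (hy 1), orth 2 1 (by decide) _ (hy 2) _ (hx 1),
      orth 2 1 (by decide) _ (hy 2) _ (hy 1)]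

end zcalc

section cases

variable {F : Type*} [Field F] [Fintype F] {ι : Type} [Fintype ι] [DecidableEq ι]

local notation "B[" Q "]" => QuadraticMap.polar Q

theorem vecZ_eq [CharP F 2] (bs : Fin 6 → ι → F) (c : Fin 6 → ZMod 2) :
    vecZ bs c = c2 F (c 0) • bs 0 + c2 F (c 1) • bs 1 + c2 F (c 2) • bs 2 + c2 F (c 3) • bs 3 +
      c2 F (c 4) • bs 4 + c2 F (c 5) • bs 5 := by
  rw [vecZ, Fin.sum_univ_six]

/-- Three distinct blocks. -/
def blk3 {t : ℕ} (ht : 3 ≤ t) : Fin 3 → Fin t := fun a => ⟨a.val, by omega⟩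

theorem blk3_inj {t : ℕ} (ht : 3 ≤ t) : Function.Injective (blk3 ht) := by
  intro a b h
  have := congrArg Fin.val h
  exact Fin.ext this

/-- The case of plus-type planes over the field with two elements. -/
theorem case_q2_k2 {Q : (ι → F) → F} (hQ : IsNondegenerateQuadraticForm Q)
    (hq : Fintype.card F = 2) {t : ℕ} (ht : 3 ≤ t) (D : Fin t → Submodule F (ι → F))
    (hD : IsOrthogonalMDecomposition Q 2 D) (hplus : IsPlusTypeOn Q (D ⟨0, by omega⟩)) :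
    ∃ K : Subgroup (GL ι F), decompositionStabilizer D ⊓ omegaGL Q < K ∧ K < omegaGL Q := by
  classical
  have hb := hQ.polar_bilinear
  have h2 : (2 : F) = 0 := S5705.two_eq_zero2 hq
  haveI : CharP F 2 := CharTwo.of_one_ne_zero_of_two_eq_zero one_ne_zero h2
  have hpairs := all_pairs hQ D hD _ hplus
  choose e f he hf heQ hfQ hef using hpairs
  obtain ⟨blk, hblkdef⟩ : ∃ b : Fin 3 → Fin t, b = blk3 ht := ⟨_, rfl⟩
  have hblk : Function.Injective blk := by rw [hblkdef]; exact blk3_inj ht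
  obtain ⟨bs, hbs⟩ : ∃ bs : Fin 6 → ι → F, bs = ![e (blk 0), f (blk 0), e (blk 1), f (blk 1),
      e (blk 2), f (blk 2)] := ⟨_, rfl⟩
  have hZ : ZP Q bs 0 := by
    rw [hbs]
    exact ZP_of_pairs hQ hD 0 blk hblk (fun a => e (blk a)) (fun a => f (blk a))
      (fun a => he _) (fun a => hf _) (fun a => by rw [heQ, map_zero])
      (fun a => by rw [hfQ, map_zero]) (fun a => hef _)
  have bs0 : bs 0 = e (blk 0) := by rw [hbs]; rfl
  have bs1 : bs 1 = f (blk 0) := by rw [hbs]; rfl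
  have bs2 : bs 2 = e (blk 1) := by rw [hbs]; rfl
  have bs3 : bs 3 = f (blk 1) := by rw [hbs]; rfl
  have bs4 : bs 4 = e (blk 2) := by rw [hbs]; rfl
  have bs5 : bs 5 = f (blk 2) := by rw [hbs]; rfl
  -- the unique non-singular vector of a block
  have F1 : ∀ j, ∀ φ ∈ D j, Q φ = 1 → φ = e j + f j := by
    intro j φ hφ hφQ
    have hee : B[Q] (e j) (e j) = 0 := by rw [polar_self hQ, heQ, mul_zero]
    have hff : B[Q] (f j) (f j) = 0 := by rw [polar_self hQ, hfQ, mul_zero]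
    obtain ⟨a, b, rfl⟩ := span_hyp_pair hQ (D j) (hD.decomp.decomp.finrank_eq j) (e j) (f j)
      (he j) (hf j) hee hff (by rw [hef]; exact one_ne_zero) φ hφ
    rw [hyp_Q hQ (heQ j) (hfQ j) (hef j)] at hφQ
    have ha : a = 1 := by
      apply S5705.eq_one_of_ne_zero hq
      intro h
      rw [h, zero_mul] at hφQ
      exact zero_ne_one hφQ
    have hb' : b = 1 := by rw [ha, one_mul] at hφQ; exact hφQ
    rw [ha, hb', one_smul, one_smul]
  have hn : ∀ φ ∈ PhiSet Q D 1, ∀ j, B[Q] φ (e j + f j) = 0 := by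
    intro φ hφ j
    obtain ⟨⟨j', hφj⟩, hφQ⟩ := hφ
    by_cases hj : j' = j
    · subst hj
      rw [F1 j' φ hφj hφQ, polar_self hQ, h2, zero_mul]
    · exact hD.decomp.orthogonal j' j hj φ hφj _ ((D j).add_mem (he j) (hf j))
  have hone : c2 F 1 = 1 := map_one _
  have hzero : c2 F 0 = 0 := map_zero _
  have hn' : ∀ φ ∈ PhiSet Q D 1, ∀ c : Fin 6 → ZMod 2, c 0 = c 1 → c 2 = c 3 → c 4 = c 5 →
      B[Q] φ (vecZ bs c) = 0 := by
    intro φ hφ c h01 h23 h45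
    have e0 := hn φ hφ (blk 0)
    have e1 := hn φ hφ (blk 1)
    have e2 := hn φ hφ (blk 2)
    rw [hb.add_right] at e0 e1 e2
    rw [vecZ_eq, bs0, bs1, bs2, bs3, bs4, bs5, h01, h23, h45]
    simp only [hb.add_right, hb.smul_right]
    linear_combination (c2 F (c 1)) * e0 + (c2 F (c 3)) * e1 + (c2 F (c 5)) * e2
  -- the first witness
  have qX : qZ 0 ![1, 1, 1, 1, 1, 1] = 1 := by decide
  have qX' : qZ 0 ![1, 1, 0, 0, 0, 0] = 1 := by decide
  have qP1 : qZ 0 ![0, 1, 0, 0, 1, 1] = 1 := by decide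
  have qP2 : qZ 0 ![0, 1, 1, 1, 0, 0] = 1 := by decide
  have hX := hZ.Q_ne hQ _ qX
  have hX' := hZ.Q_ne hQ _ qX'
  have hP1 := hZ.Q_ne hQ _ qP1
  have hP2 := hZ.Q_ne hQ _ qP2
  obtain ⟨s, hs⟩ : ∃ s : GL ι F, s = rQ hQ _ hP2 * rQ hQ _ hP1 := ⟨_, rfl⟩
  have hsiso : s ∈ isometryGroup F Q := by
    rw [hs]; exact Subgroup.mul_mem _ (rQ_mem hQ _ _) (rQ_mem hQ _ _)
  have hsX : (s : Matrix ι ι F) *ᵥ vecZ bs ![1, 1, 1, 1, 1, 1] = vecZ bs ![1, 1, 0, 0, 0, 0] := by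
    rw [hs, Units.val_mul, ← Matrix.mulVec_mulVec, hZ.refl hQ _ qP1, hZ.refl hQ _ qP2]
    congr 1
    decide
  obtain ⟨g₂, hg₂⟩ : ∃ g : GL ι F, g = ⁅rQ hQ _ hX, s⁆ := ⟨_, rfl⟩
  have hg₂Ω : g₂ ∈ omegaGL Q := by
    rw [hg₂]; exact comm_mem_omega (rQ_mem hQ _ hX) hsiso
  have hg₂act : ∀ v, (g₂ : Matrix ι ι F) *ᵥ v =
      ((rQ hQ _ hX : GL ι F) : Matrix ι ι F) *ᵥ (((rQ hQ _ hX' : GL ι F) : Matrix ι ι F) *ᵥ v) :=
    fun v => by rw [hg₂]; exact comm_refl_mulVec hQ _ hX s hsiso _ hsX hX' v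
  have hg₂Φ : ∀ φ ∈ PhiSet Q D 1, (g₂ : Matrix ι ι F) *ᵥ φ ∈ PhiSet Q D 1 := by
    intro φ hφ
    rw [hg₂act, rQ_fix hQ _ hX' φ (hn' φ hφ _ rfl rfl rfl),
      rQ_fix hQ _ hX φ (hn' φ hφ _ rfl rfl rfl)]
    exact hφ
  have hg₂e : (g₂ : Matrix ι ι F) *ᵥ vecZ bs (Pi.single 2 1) = vecZ bs ![1, 1, 0, 1, 1, 1] := by
    rw [hg₂act, hZ.refl hQ _ qX', hZ.refl hQ _ qX]
    congr 1
    decide
  have hg₂D : g₂ ∉ decompositionStabilizer D := by
    refine not_mem_stab hD g₂ (j := blk 1) (j₁ := blk 0) (j₂ := blk 2)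
      (hblk.ne (by decide)) (bs 2) (bs 2) (by rw [bs2]; exact he _) (by rw [bs2]; exact he _)
      (bs 0) (bs 4) (by rw [bs0]; exact he _) (by rw [bs4]; exact he _) ?_ ?_
    · rw [← vecZ_single bs 2, hg₂e, ← vecZ_single bs 0, hZ.polar hQ]
      have : bZ ![1, 1, 0, 1, 1, 1] (Pi.single 0 1) = 1 := by decide
      rw [this, hone]
      exact one_ne_zero
    · rw [← vecZ_single bs 2, hg₂e, ← vecZ_single bs 4, hZ.polar hQ]
      have : bZ ![1, 1, 0, 1, 1, 1] (Pi.single 4 1) = 1 := by decide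
      rw [this, hone]
      exact one_ne_zero
  -- the second witness
  have qU : qZ 0 ![1, 1, 0, 0, 0, 0] = 1 := by decide
  have qV : qZ 0 ![1, 0, 1, 0, 1, 1] = 1 := by decide
  have bUV : bZ ![1, 1, 0, 0, 0, 0] ![1, 0, 1, 0, 1, 1] = 1 := by decide
  have hV := hZ.Q_ne hQ _ qV
  obtain ⟨g₃, hg₃⟩ : ∃ g : GL ι F, g = ⁅rQ hQ _ hX', rQ hQ _ hV⁆ := ⟨_, rfl⟩
  have hg₃Ω : g₃ ∈ omegaGL Q := by
    rw [hg₃]; exact comm_mem_omega (rQ_mem hQ _ _) (rQ_mem hQ _ _)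
  have hg₃n : (g₃ : Matrix ι ι F) *ᵥ vecZ bs ![0, 0, 1, 1, 0, 0] = vecZ bs ![1, 0, 0, 1, 1, 1] := by
    rw [hg₃, hZ.rot hQ _ _ qU qV bUV]
    congr 1
    decide
  have hn1 : vecZ bs ![0, 0, 1, 1, 0, 0] = e (blk 1) + f (blk 1) := by
    rw [vecZ_eq, bs2, bs3]
    simp [hone, hzero]
  refine chain_of_set D (PhiSet Q D 1) (PhiSet_inv Q D 1) g₂ hg₂Ω hg₂Φ hg₂D g₃ hg₃Ω
    (vecZ bs ![0, 0, 1, 1, 0, 0]) ?_ ?_
  · refine ⟨⟨blk 1, ?_⟩, ?_⟩
    · rw [hn1]; exact (D _).add_mem (he _) (hf _)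
    · rw [hZ.Qval hQ]
      have : qZ 0 ![0, 0, 1, 1, 0, 0] = 1 := by decide
      rw [this, hone]
  · intro hmem
    obtain ⟨hblkm, _⟩ := hmem
    refine not_mem_blocks hD _ (hblk.ne (by decide : (0 : Fin 3) ≠ 2)) (bs 1) (bs 4)
      (by rw [bs1]; exact hf _) (by rw [bs4]; exact he _) ?_ ?_ hblkm
    · rw [hg₃n, ← vecZ_single bs 1, hZ.polar hQ]
      have : bZ ![1, 0, 0, 1, 1, 1] (Pi.single 1 1) = 1 := by decide
      rw [this, hone]
      exact one_ne_zero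
    · rw [hg₃n, ← vecZ_single bs 4, hZ.polar hQ]
      have : bZ ![1, 0, 0, 1, 1, 1] (Pi.single 4 1) = 1 := by decide
      rw [this, hone]
      exact one_ne_zero

/-- The case of plus-type planes over the field with four elements. -/
theorem case_q4_k2 {Q : (ι → F) → F} (hQ : IsNondegenerateQuadraticForm Q)
    (hq : Fintype.card F = 4) {t : ℕ} (ht : 3 ≤ t) (D : Fin t → Submodule F (ι → F))
    (hD : IsOrthogonalMDecomposition Q 2 D) (hplus : IsPlusTypeOn Q (D ⟨0, by omega⟩)) :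
    ∃ K : Subgroup (GL ι F), decompositionStabilizer D ⊓ omegaGL Q < K ∧ K < omegaGL Q := by
  classical
  have hb := hQ.polar_bilinear
  have h2 : (2 : F) = 0 := S5671.two_eq_zero hq
  haveI : CharP F 2 := CharTwo.of_one_ne_zero_of_two_eq_zero one_ne_zero h2
  obtain ⟨ω, hω⟩ := S5671.exists_omega hq
  have hω0 : ω ≠ 0 := by
    intro h
    rw [h] at hω
    simp at hω
  have hω1 : ω ≠ 1 := by
    intro h
    rw [h] at hω
    have : (1 : F) = 0 := by linear_combination h2 - hω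
    exact one_ne_zero this
  have hone : c2 F 1 = 1 := map_one _
  have hzero : c2 F 0 = 0 := map_zero _
  have hpairs := all_pairs hQ D hD _ hplus
  choose e f he hf heQ hfQ hef using hpairs
  obtain ⟨a, ha⟩ : ∃ a : Fin t → ι → F, ∀ j, a j = (1 : F) • e j + (1 : F) • f j :=
    ⟨_, fun _ => rfl⟩
  obtain ⟨b, hbd⟩ : ∃ b : Fin t → ι → F, ∀ j, b j = ω • e j + (ω ^ 2) • f j :=
    ⟨_, fun _ => rfl⟩
  have hmem : ∀ j (p r : F), p • e j + r • f j ∈ D j := fun j p r =>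
    (D j).add_mem ((D j).smul_mem _ (he j)) ((D j).smul_mem _ (hf j))
  have haD : ∀ j, a j ∈ D j := fun j => by rw [ha]; exact hmem _ _ _
  have hbD : ∀ j, b j ∈ D j := fun j => by rw [hbd]; exact hmem _ _ _
  have haQ : ∀ j, Q (a j) = 1 := fun j => by
    rw [ha, hyp_Q hQ (heQ j) (hfQ j) (hef j)]; ring
  have hbQ : ∀ j, Q (b j) = 1 := fun j => by
    rw [hbd, hyp_Q hQ (heQ j) (hfQ j) (hef j)]
    linear_combination (ω - 1) * hω + (ω - 1) * h2
  have habB : ∀ j, B[Q] (a j) (b j) = 1 := fun j => by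
    rw [ha, hbd, hyp_B hQ (heQ j) (hfQ j) (hef j)]
    linear_combination hω
  obtain ⟨blk, hblkdef⟩ : ∃ b : Fin 3 → Fin t, b = blk3 ht := ⟨_, rfl⟩
  have hblk : Function.Injective blk := by rw [hblkdef]; exact blk3_inj ht
  obtain ⟨bs, hbs⟩ : ∃ bs : Fin 6 → ι → F, bs = ![a (blk 0), b (blk 0), a (blk 1), b (blk 1),
      a (blk 2), b (blk 2)] := ⟨_, rfl⟩
  have hZ : ZP Q bs 1 := by
    rw [hbs]
    exact ZP_of_pairs hQ hD 1 blk hblk (fun i => a (blk i)) (fun i => b (blk i))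
      (fun i => haD _) (fun i => hbD _) (fun i => by rw [haQ, hone])
      (fun i => by rw [hbQ, hone]) (fun i => habB _)
  have bs0 : bs 0 = a (blk 0) := by rw [hbs]; rfl
  have bs1 : bs 1 = b (blk 0) := by rw [hbs]; rfl
  have bs2 : bs 2 = a (blk 1) := by rw [hbs]; rfl
  have bs3 : bs 3 = b (blk 1) := by rw [hbs]; rfl
  have bs4 : bs 4 = a (blk 2) := by rw [hbs]; rfl
  have bs5 : bs 5 = b (blk 2) := by rw [hbs]; rfl
  obtain ⟨S, hS⟩ : ∃ S : AddSubgroup (ι → F), S = AddSubgroup.closure (PhiSet Q D 1) := ⟨_, rfl⟩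
  have hΦS : ∀ φ ∈ PhiSet Q D 1, φ ∈ S := fun φ hφ => by
    rw [hS]; exact AddSubgroup.subset_closure hφ
  have haΦ : ∀ j, a j ∈ PhiSet Q D 1 := fun j => ⟨⟨j, haD j⟩, haQ j⟩
  have hbΦ : ∀ j, b j ∈ PhiSet Q D 1 := fun j => ⟨⟨j, hbD j⟩, hbQ j⟩
  have hbsS : ∀ i, bs i ∈ S := by
    intro i
    fin_cases i
    · exact hΦS _ (by rw [show bs (⟨0, by omega⟩ : Fin 6) = bs 0 from rfl, bs0]; exact haΦ _)
    · exact hΦS _ (by rw [show bs (⟨1, by omega⟩ : Fin 6) = bs 1 from rfl, bs1]; exact hbΦ _)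
    · exact hΦS _ (by rw [show bs (⟨2, by omega⟩ : Fin 6) = bs 2 from rfl, bs2]; exact haΦ _)
    · exact hΦS _ (by rw [show bs (⟨3, by omega⟩ : Fin 6) = bs 3 from rfl, bs3]; exact hbΦ _)
    · exact hΦS _ (by rw [show bs (⟨4, by omega⟩ : Fin 6) = bs 4 from rfl, bs4]; exact haΦ _)
    · exact hΦS _ (by rw [show bs (⟨5, by omega⟩ : Fin 6) = bs 5 from rfl, bs5]; exact hbΦ _)
  have hvecS : ∀ c : Fin 6 → ZMod 2, vecZ bs c ∈ S := by
    intro c
    rw [vecZ]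
    refine S.sum_mem fun i _ => ?_
    have hc : c i = 0 ∨ c i = 1 := by
      generalize c i = x
      revert x
      decide
    rcases hc with h | h
    · rw [h, hzero, zero_smul]; exact S.zero_mem
    · rw [h, hone, one_smul]; exact hbsS i
  -- values of the polar form on the subfield structure
  have P0 : ∀ φ ∈ PhiSet Q D 1, ∀ φ' ∈ PhiSet Q D 1, B[Q] φ φ' = 0 ∨ B[Q] φ φ' = 1 := by
    rintro φ ⟨⟨j, hφj⟩, hφQ⟩ φ' ⟨⟨j', hφ'j⟩, hφ'Q⟩
    by_cases hj : j = j'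
    · subst hj
      have hee : B[Q] (e j) (e j) = 0 := by rw [polar_self hQ, heQ, mul_zero]
      have hff : B[Q] (f j) (f j) = 0 := by rw [polar_self hQ, hfQ, mul_zero]
      obtain ⟨p, r, rfl⟩ := span_hyp_pair hQ (D j) (hD.decomp.decomp.finrank_eq j) (e j) (f j)
        (he j) (hf j) hee hff (by rw [hef]; exact one_ne_zero) φ hφj
      obtain ⟨p', r', rfl⟩ := span_hyp_pair hQ (D j) (hD.decomp.decomp.finrank_eq j) (e j) (f j)
        (he j) (hf j) hee hff (by rw [hef]; exact one_ne_zero) φ' hφ'j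
      rw [hyp_Q hQ (heQ j) (hfQ j) (hef j)] at hφQ hφ'Q
      rw [hyp_B hQ (heQ j) (hfQ j) (hef j)]
      have hp4 := S5671.pow_four hq p
      have hp'4 := S5671.pow_four hq p'
      have hp0 : p ≠ 0 := by
        intro h; rw [h, zero_mul] at hφQ; exact zero_ne_one hφQ
      have hp'0 : p' ≠ 0 := by
        intro h; rw [h, zero_mul] at hφ'Q; exact zero_ne_one hφ'Q
      have hp3 := S5671.cube_eq_one hq p hp0
      have hp'3 := S5671.cube_eq_one hq p' hp'0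
      have hr : r = p ^ 2 := by linear_combination (p ^ 2) * hφQ - r * hp3
      have hr' : r' = p' ^ 2 := by linear_combination (p' ^ 2) * hφ'Q - r' * hp'3
      apply S5671.zero_or_one_of_sq
      rw [hr, hr']
      linear_combination (-(p ^ 2)) * hp'4 + (-(p' ^ 2)) * hp4 + (-(p ^ 3 * p' ^ 3)) * h2
    · left
      exact hD.decomp.orthogonal j j' hj φ hφj φ' hφ'j
  have h01add : ∀ u v : F, (u = 0 ∨ u = 1) → (v = 0 ∨ v = 1) → (u + v = 0 ∨ u + v = 1) := by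
    rintro u v (rfl | rfl) (rfl | rfl)
    · left; ring
    · right; ring
    · right; ring
    · left; linear_combination h2
  have P1 : ∀ φ ∈ PhiSet Q D 1, ∀ w ∈ S, B[Q] φ w = 0 ∨ B[Q] φ w = 1 := by
    intro φ hφ w hw
    rw [hS] at hw
    induction hw using AddSubgroup.closure_induction with
    | mem x hx => exact P0 φ hφ x hx
    | zero => left; exact bil_zero_right hb φ
    | add x y _ _ hx hy =>
      rw [hb.add_right]
      exact h01add _ _ hx hy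
    | neg x _ hx =>
      have : B[Q] φ (-x) = B[Q] φ x := by
        have := hb.smul_right (-1) φ x
        rw [neg_one_smul] at this
        rw [this, neg_one_mul, S5705.neg_eq_self2 h2]
      rw [this]
      exact hx
  have P2 : ∀ z ∈ S, ∀ w ∈ S, B[Q] z w = 0 ∨ B[Q] z w = 1 := by
    intro z hz w hw
    rw [hS] at hz
    induction hz using AddSubgroup.closure_induction with
    | mem x hx => exact P1 x hx w hw
    | zero => left; exact bil_zero_left hb w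
    | add x y _ _ hx hy =>
      rw [hb.add_left]
      exact h01add _ _ hx hy
    | neg x _ hx =>
      have : B[Q] (-x) w = B[Q] x w := by
        have := hb.smul_left (-1) x w
        rw [neg_one_smul] at this
        rw [this, neg_one_mul, S5705.neg_eq_self2 h2]
      rw [this]
      exact hx
  have hsmulS : ∀ (u : F) (x : ι → F), (u = 0 ∨ u = 1) → x ∈ S → u • x ∈ S := by
    rintro u x (rfl | rfl) hx
    · rw [zero_smul]; exact S.zero_mem
    · rw [one_smul]; exact hx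
  -- invariance
  have hinv : ∀ g : GL ι F, g ∈ decompositionStabilizer D → g ∈ isometryGroup F Q →
      ∀ x ∈ (S : Set (ι → F)), (g : Matrix ι ι F) *ᵥ x ∈ (S : Set (ι → F)) := by
    intro g hgD hgQ x hx
    have hx' : x ∈ S := hx
    show (g : Matrix ι ι F) *ᵥ x ∈ S
    clear hx
    rw [hS] at hx'
    induction hx' using AddSubgroup.closure_induction with
    | mem y hy => exact hΦS _ (PhiSet_inv Q D 1 g hgD hgQ y hy)
    | zero => rw [Matrix.mulVec_zero]; exact S.zero_mem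
    | add y z _ _ hy hz => rw [Matrix.mulVec_add]; exact S.add_mem hy hz
    | neg y _ hy => rw [Matrix.mulVec_neg]; exact S.neg_mem hy
  -- the first witness
  have qX : qZ 1 (Pi.single 0 1) = 1 := by decide
  have qY : qZ 1 ![0, 1, 1, 0, 1, 0] = 1 := by decide
  have bXY : bZ (Pi.single 0 1) ![0, 1, 1, 0, 1, 0] = 1 := by decide
  have hX := hZ.Q_ne hQ _ qX
  have hY := hZ.Q_ne hQ _ qY
  obtain ⟨g₂, hg₂⟩ : ∃ g : GL ι F, g = ⁅rQ hQ _ hX, rQ hQ _ hY⁆ := ⟨_, rfl⟩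
  have hg₂Ω : g₂ ∈ omegaGL Q := by
    rw [hg₂]; exact comm_mem_omega (rQ_mem hQ _ _) (rQ_mem hQ _ _)
  have hg₂S : ∀ z ∈ (S : Set (ι → F)), (g₂ : Matrix ι ι F) *ᵥ z ∈ (S : Set (ι → F)) := by
    intro z hz
    show (g₂ : Matrix ι ι F) *ᵥ z ∈ S
    rw [hg₂, S5705.comm_refl_char2 hQ h2 _ _ (hZ.Q_one hQ _ qX) (hZ.Q_one hQ _ qY) hX hY
      (by rw [hZ.polar hQ, bXY, hone])]
    have h1 := P2 z hz _ (hvecS (Pi.single 0 1))
    have h2' := P2 z hz _ (hvecS ![0, 1, 1, 0, 1, 0])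
    exact S.add_mem (S.add_mem hz (hsmulS _ _ h1 (hvecS _)))
      (hsmulS _ _ (h01add _ _ h1 h2') (hvecS _))
  have hg₂e : (g₂ : Matrix ι ι F) *ᵥ vecZ bs (Pi.single 3 1) = vecZ bs ![0, 1, 1, 1, 1, 0] := by
    rw [hg₂, hZ.rot hQ _ _ qX qY bXY]
    congr 1
    decide
  have hg₂D : g₂ ∉ decompositionStabilizer D := by
    refine not_mem_stab hD g₂ (j := blk 1) (j₁ := blk 0) (j₂ := blk 2)
      (hblk.ne (by decide)) (bs 3) (bs 3) (by rw [bs3]; exact hbD _) (by rw [bs3]; exact hbD _)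
      (bs 0) (bs 5) (by rw [bs0]; exact haD _) (by rw [bs5]; exact hbD _) ?_ ?_
    · rw [← vecZ_single bs 3, hg₂e, ← vecZ_single bs 0, hZ.polar hQ]
      have : bZ ![0, 1, 1, 1, 1, 0] (Pi.single 0 1) = 1 := by decide
      rw [this, hone]
      exact one_ne_zero
    · rw [← vecZ_single bs 3, hg₂e, ← vecZ_single bs 5, hZ.polar hQ]
      have : bZ ![0, 1, 1, 1, 1, 0] (Pi.single 5 1) = 1 := by decide
      rw [this, hone]
      exact one_ne_zero
  -- the second witness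
  obtain ⟨x, hx⟩ : ∃ x : ι → F, x = vecZ bs (Pi.single 0 1) := ⟨_, rfl⟩
  obtain ⟨b₀, hb₀⟩ : ∃ v : ι → F, v = vecZ bs (Pi.single 1 1) := ⟨_, rfl⟩
  obtain ⟨cc, hcc⟩ : ∃ v : ι → F, v = vecZ bs ![0, 0, 1, 0, 1, 0] := ⟨_, rfl⟩
  obtain ⟨b₁, hb₁⟩ : ∃ v : ι → F, v = vecZ bs (Pi.single 3 1) := ⟨_, rfl⟩
  have hxQ : Q x = 1 := by rw [hx]; exact hZ.Q_one hQ _ qX
  have hxQ' : Q x ≠ 0 := by rw [hxQ]; exact one_ne_zero
  have hb₀Q : Q b₀ = 1 := by rw [hb₀]; exact hZ.Q_one hQ _ (by decide)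
  have hccQ : Q cc = 0 := by
    rw [hcc, hZ.Qval hQ]
    have : qZ 1 ![0, 0, 1, 0, 1, 0] = 0 := by decide
    rw [this, hzero]
  have hb₀cc : B[Q] b₀ cc = 0 := by
    rw [hb₀, hcc, hZ.polar hQ]
    have : bZ (Pi.single 1 1) ![0, 0, 1, 0, 1, 0] = 0 := by decide
    rw [this, hzero]
  have hxb₀ : B[Q] x b₀ = 1 := by
    rw [hx, hb₀, hZ.polar hQ]
    have : bZ (Pi.single 0 1) (Pi.single 1 1) = 1 := by decide
    rw [this, hone]
  have hxcc : B[Q] x cc = 0 := by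
    rw [hx, hcc, hZ.polar hQ]
    have : bZ (Pi.single 0 1) ![0, 0, 1, 0, 1, 0] = 0 := by decide
    rw [this, hzero]
  have hxx : B[Q] x x = 0 := by rw [polar_self hQ, h2, zero_mul]
  have hxb₁ : B[Q] x b₁ = 0 := by
    rw [hx, hb₁, hZ.polar hQ]
    have : bZ (Pi.single 0 1) (Pi.single 3 1) = 0 := by decide
    rw [this, hzero]
  have hb₀b₁ : B[Q] b₀ b₁ = 0 := by
    rw [hb₀, hb₁, hZ.polar hQ]
    have : bZ (Pi.single 1 1) (Pi.single 3 1) = 0 := by decide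
    rw [this, hzero]
  have hccb₁ : B[Q] cc b₁ = 1 := by
    rw [hcc, hb₁, hZ.polar hQ]
    have : bZ ![0, 0, 1, 0, 1, 0] (Pi.single 3 1) = 1 := by decide
    rw [this, hone]
  obtain ⟨y', hy'⟩ : ∃ v : ι → F, v = b₀ + ω • cc := ⟨_, rfl⟩
  have hy'Q : Q y' = 1 := by
    rw [hy', Q_add_smul hQ, hb₀Q, hccQ, hb₀cc]
    ring
  have hy'Q' : Q y' ≠ 0 := by rw [hy'Q]; exact one_ne_zero
  have hxy' : B[Q] x y' = 1 := by
    rw [hy', hb.add_right, hb.smul_right, hxb₀, hxcc]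
    ring
  obtain ⟨g₃, hg₃⟩ : ∃ g : GL ι F, g = ⁅rQ hQ x hxQ', rQ hQ y' hy'Q'⁆ := ⟨_, rfl⟩
  have hg₃Ω : g₃ ∈ omegaGL Q := by
    rw [hg₃]; exact comm_mem_omega (rQ_mem hQ _ _) (rQ_mem hQ _ _)
  have hg₃x : (g₃ : Matrix ι ι F) *ᵥ x = x + y' := by
    rw [hg₃, S5705.comm_refl_char2 hQ h2 x y' hxQ hy'Q hxQ' hy'Q' hxy', hxx, hxy', zero_smul,
      add_zero, zero_add, one_smul]
  refine chain_of_set D (S : Set (ι → F)) hinv g₂ hg₂Ω hg₂S hg₂D g₃ hg₃Ω x ?_ ?_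
  · rw [hx]; exact hvecS _
  · intro hmem
    have hmem' : (g₃ : Matrix ι ι F) *ᵥ x ∈ S := hmem
    have hb₁S : b₁ ∈ S := by rw [hb₁]; exact hvecS _
    have := P2 _ hmem' b₁ hb₁S
    rw [hg₃x, hy', hb.add_left, hb.add_left, hb.smul_left, hxb₁, hb₀b₁, hccb₁] at this
    rcases this with h | h
    · apply hω0
      linear_combination h
    · apply hω1
      linear_combination h

end cases

end Cfsg.Agent.Helper97.QD2
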