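import Mathlib
import Cfsg.Prelude.Def_GeometricClasses
import Cfsg.Agent.Lib.Helper97.QD2Even

set_option autoImplicit false
set_option linter.unusedSectionVars false
set_option linter.unusedSimpArgs false
set_option linter.unusedVariables false

namespace Cfsg.Agent.Helper97.QD2

open Matrix Cfsg Cfsg.Geo Cfsg.Agent.Helper97 Cfsg.Agent.S5667 Cfsg.Agent.Helper97.OT3
  Cfsg.Agent.Helper97.QG Cfsg.Agent.Helper97.QD
open scoped commutatorElement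

section four

variable {F : Type*} [Field F] [Fintype F] {ι : Type} [Fintype ι] [DecidableEq ι]

local notation "B[" Q "]" => QuadraticMap.polar Q

/-- A standard basis of a four-dimensional space of plus type. -/
structure Hyp4 (Q : (ι → F) → F) (e₁ f₁ e₂ f₂ : ι → F) : Prop where
  Qe₁ : Q e₁ = 0
  Qf₁ : Q f₁ = 0
  Qe₂ : Q e₂ = 0
  Qf₂ : Q f₂ = 0
  b₁ : B[Q] e₁ f₁ = 1
  b₂ : B[Q] e₂ f₂ = 1
  ee : B[Q] e₁ e₂ = 0
  ef : B[Q] e₁ f₂ = 0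
  fe : B[Q] f₁ e₂ = 0
  ff : B[Q] f₁ f₂ = 0

/-- Vectors by coordinates in a standard basis. -/
def v4 (e₁ f₁ e₂ f₂ : ι → F) (p₁ r₁ p₂ r₂ : F) : ι → F := p₁ • e₁ + r₁ • f₁ + p₂ • e₂ + r₂ • f₂

theorem Hyp4.polar {Q : (ι → F) → F} (hQ : IsNondegenerateQuadraticForm Q)
    {e₁ f₁ e₂ f₂ : ι → F} (h : Hyp4 Q e₁ f₁ e₂ f₂) (p₁ r₁ p₂ r₂ p₁' r₁' p₂' r₂' : F) :
    B[Q] (v4 e₁ f₁ e₂ f₂ p₁ r₁ p₂ r₂) (v4 e₁ f₁ e₂ f₂ p₁' r₁' p₂' r₂') =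
      p₁ * r₁' + r₁ * p₁' + p₂ * r₂' + r₂ * p₂' := by
  have hb := hQ.polar_bilinear
  have s1 : B[Q] f₁ e₁ = 1 := by rw [polar_symm]; exact h.b₁
  have s2 : B[Q] f₂ e₂ = 1 := by rw [polar_symm]; exact h.b₂
  have s3 : B[Q] e₂ e₁ = 0 := by rw [polar_symm]; exact h.ee
  have s4 : B[Q] f₂ e₁ = 0 := by rw [polar_symm]; exact h.ef
  have s5 : B[Q] e₂ f₁ = 0 := by rw [polar_symm]; exact h.fe
  have s6 : B[Q] f₂ f₁ = 0 := by rw [polar_symm]; exact h.ff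
  have d1 : B[Q] e₁ e₁ = 0 := by rw [polar_self hQ, h.Qe₁, mul_zero]
  have d2 : B[Q] f₁ f₁ = 0 := by rw [polar_self hQ, h.Qf₁, mul_zero]
  have d3 : B[Q] e₂ e₂ = 0 := by rw [polar_self hQ, h.Qe₂, mul_zero]
  have d4 : B[Q] f₂ f₂ = 0 := by rw [polar_self hQ, h.Qf₂, mul_zero]
  simp only [v4, hb.add_left, hb.add_right, hb.smul_left, hb.smul_right, h.b₁, h.b₂, h.ee, h.ef,
    h.fe, h.ff, s1, s2, s3, s4, s5, s6, d1, d2, d3, d4]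
  ring

theorem Hyp4.Qval {Q : (ι → F) → F} (hQ : IsNondegenerateQuadraticForm Q)
    {e₁ f₁ e₂ f₂ : ι → F} (h : Hyp4 Q e₁ f₁ e₂ f₂) (p₁ r₁ p₂ r₂ : F) :
    Q (v4 e₁ f₁ e₂ f₂ p₁ r₁ p₂ r₂) = p₁ * r₁ + p₂ * r₂ := by
  have hb := hQ.polar_bilinear
  simp only [v4]
  rw [Q_add Q, Q_add Q, Q_add Q, hQ.smul, hQ.smul, hQ.smul, hQ.smul, h.Qe₁, h.Qf₁, h.Qe₂, h.Qf₂]
  simp only [hb.add_left, hb.smul_left, hb.smul_right, h.b₁, h.b₂, h.ee, h.ef, h.fe, h.ff]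
  ring

theorem v4_add (e₁ f₁ e₂ f₂ : ι → F) (p₁ r₁ p₂ r₂ p₁' r₁' p₂' r₂' : F) :
    v4 e₁ f₁ e₂ f₂ p₁ r₁ p₂ r₂ + v4 e₁ f₁ e₂ f₂ p₁' r₁' p₂' r₂' =
      v4 e₁ f₁ e₂ f₂ (p₁ + p₁') (r₁ + r₁') (p₂ + p₂') (r₂ + r₂') := by
  simp only [v4]
  module

theorem v4_mem (X : Submodule F (ι → F)) {e₁ f₁ e₂ f₂ : ι → F} (h1 : e₁ ∈ X) (h2 : f₁ ∈ X)
    (h3 : e₂ ∈ X) (h4 : f₂ ∈ X) (p₁ r₁ p₂ r₂ : F) : v4 e₁ f₁ e₂ f₂ p₁ r₁ p₂ r₂ ∈ X :=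
  X.add_mem (X.add_mem (X.add_mem (X.smul_mem _ h1) (X.smul_mem _ h2)) (X.smul_mem _ h3))
    (X.smul_mem _ h4)

/-- A standard basis of a plus-type space of dimension four. -/
theorem exists_hyp4 {Q : (ι → F) → F} (hQ : IsNondegenerateQuadraticForm Q)
    (X : Submodule F (ι → F)) (hX : Module.finrank F X = 4)
    (hnd : IsNondegenerateOn (B[Q]) X) (hplus : IsPlusTypeOn Q X) :
    ∃ e₁ f₁ e₂ f₂ : ι → F, e₁ ∈ X ∧ f₁ ∈ X ∧ e₂ ∈ X ∧ f₂ ∈ X ∧ Hyp4 Q e₁ f₁ e₂ f₂ := by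
  have hb := hQ.polar_bilinear
  obtain ⟨U, hUX, hUs, hUd⟩ := hplus
  have hU2 : Module.finrank F U = 2 := by omega
  have hUnt : Nontrivial U := Module.nontrivial_of_finrank_pos (R := F) (by omega)
  obtain ⟨e₁', he₁'⟩ := exists_ne (0 : U)
  obtain ⟨e₁, he₁def⟩ : ∃ v : ι → F, v = (e₁' : ι → F) := ⟨_, rfl⟩
  have he₁0 : e₁ ≠ 0 := by rw [he₁def]; exact fun h => he₁' (Subtype.ext h)
  have he₁U : e₁ ∈ U := by rw [he₁def]; exact e₁'.2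
  have he₁X : e₁ ∈ X := hUX he₁U
  have he₁Q : Q e₁ = 0 := hUs _ he₁U
  have he₁e₁ : B[Q] e₁ e₁ = 0 := by rw [polar_self hQ, he₁Q, mul_zero]
  -- f₁
  obtain ⟨_, ⟨y, hyX, hy⟩⟩ := hnd _ he₁X he₁0
  obtain ⟨c, hc⟩ : ∃ c : F, c = B[Q] e₁ y := ⟨_, rfl⟩
  rw [← hc] at hy
  obtain ⟨y', hy'⟩ : ∃ y' : ι → F, y' = c⁻¹ • y := ⟨_, rfl⟩
  have hy'X : y' ∈ X := by rw [hy']; exact X.smul_mem _ hyX
  have hey' : B[Q] e₁ y' = 1 := by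
    rw [hy', hb.smul_right, ← hc, inv_mul_cancel₀ hy]
  have hy'e : B[Q] y' e₁ = 1 := by rw [polar_symm]; exact hey'
  obtain ⟨f₁, hf₁def⟩ : ∃ v : ι → F, v = y' + (-(Q y')) • e₁ := ⟨_, rfl⟩
  have hf₁X : f₁ ∈ X := by rw [hf₁def]; exact X.add_mem hy'X (X.smul_mem _ he₁X)
  have hf₁Q : Q f₁ = 0 := by
    rw [hf₁def, Q_add_smul hQ, he₁Q, hy'e]; ring
  have he₁f₁ : B[Q] e₁ f₁ = 1 := by
    rw [hf₁def, hb.add_right, hb.smul_right, hey', he₁e₁]; ring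
  have hf₁e₁ : B[Q] f₁ e₁ = 1 := by rw [polar_symm]; exact he₁f₁
  have hf₁f₁ : B[Q] f₁ f₁ = 0 := by rw [polar_self hQ, hf₁Q, mul_zero]
  -- e₂
  let ψ : U →ₗ[F] F :=
    { toFun := fun u => B[Q] (u : ι → F) f₁
      map_add' := by intro u v; simp only [Submodule.coe_add, hb.add_left]
      map_smul' := by intro a u; simp only [Submodule.coe_smul, hb.smul_left, RingHom.id_apply,
        smul_eq_mul] }
  have hker : LinearMap.ker ψ ≠ ⊥ := by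
    apply LinearMap.ker_ne_bot_of_finrank_lt
    rw [Module.finrank_self, hU2]
    norm_num
  obtain ⟨e₂', he₂'mem, he₂'0⟩ := (Submodule.ne_bot_iff _).mp hker
  obtain ⟨e₂, he₂def⟩ : ∃ v : ι → F, v = (e₂' : ι → F) := ⟨_, rfl⟩
  have he₂0 : e₂ ≠ 0 := by rw [he₂def]; exact fun h => he₂'0 (Subtype.ext h)
  have he₂U : e₂ ∈ U := by rw [he₂def]; exact e₂'.2
  have he₂X : e₂ ∈ X := hUX he₂U
  have he₂Q : Q e₂ = 0 := hUs _ he₂U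
  have he₂f₁ : B[Q] e₂ f₁ = 0 := by
    rw [he₂def]; exact LinearMap.mem_ker.mp he₂'mem
  have hf₁e₂ : B[Q] f₁ e₂ = 0 := by rw [polar_symm]; exact he₂f₁
  have he₁e₂ : B[Q] e₁ e₂ = 0 := by
    rw [QuadraticMap.polar, hUs _ (U.add_mem he₁U he₂U), he₁Q, he₂Q]; ring
  have he₂e₁ : B[Q] e₂ e₁ = 0 := by rw [polar_symm]; exact he₁e₂
  have he₂e₂ : B[Q] e₂ e₂ = 0 := by rw [polar_self hQ, he₂Q, mul_zero]
  -- f₂
  obtain ⟨_, ⟨z, hzX, hz⟩⟩ := hnd _ he₂X he₂0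
  obtain ⟨z₁, hz₁⟩ : ∃ v : ι → F, v = z + (-(B[Q] z f₁)) • e₁ + (-(B[Q] z e₁)) • f₁ := ⟨_, rfl⟩
  have hz₁X : z₁ ∈ X := by
    rw [hz₁]; exact X.add_mem (X.add_mem hzX (X.smul_mem _ he₁X)) (X.smul_mem _ hf₁X)
  have hz₁e₁ : B[Q] z₁ e₁ = 0 := by
    rw [hz₁, hb.add_left, hb.add_left, hb.smul_left, hb.smul_left, he₁e₁, hf₁e₁]; ring
  have hz₁f₁ : B[Q] z₁ f₁ = 0 := by
    rw [hz₁, hb.add_left, hb.add_left, hb.smul_left, hb.smul_left, he₁f₁, hf₁f₁]; ring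
  have he₂z₁ : B[Q] e₂ z₁ = B[Q] e₂ z := by
    rw [hz₁, hb.add_right, hb.add_right, hb.smul_right, hb.smul_right, he₂e₁, he₂f₁]; ring
  obtain ⟨d, hd⟩ : ∃ d : F, d = B[Q] e₂ z₁ := ⟨_, rfl⟩
  have hd0 : d ≠ 0 := by rw [hd, he₂z₁]; exact hz
  obtain ⟨z₂, hz₂⟩ : ∃ v : ι → F, v = d⁻¹ • z₁ := ⟨_, rfl⟩
  have hz₂X : z₂ ∈ X := by rw [hz₂]; exact X.smul_mem _ hz₁X
  have he₂z₂ : B[Q] e₂ z₂ = 1 := by
    rw [hz₂, hb.smul_right, ← hd, inv_mul_cancel₀ hd0]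
  have hz₂e₂ : B[Q] z₂ e₂ = 1 := by rw [polar_symm]; exact he₂z₂
  have hz₂e₁ : B[Q] z₂ e₁ = 0 := by rw [hz₂, hb.smul_left, hz₁e₁, mul_zero]
  have hz₂f₁ : B[Q] z₂ f₁ = 0 := by rw [hz₂, hb.smul_left, hz₁f₁, mul_zero]
  obtain ⟨f₂, hf₂def⟩ : ∃ v : ι → F, v = z₂ + (-(Q z₂)) • e₂ := ⟨_, rfl⟩
  have hf₂X : f₂ ∈ X := by rw [hf₂def]; exact X.add_mem hz₂X (X.smul_mem _ he₂X)
  refine ⟨e₁, f₁, e₂, f₂, he₁X, hf₁X, he₂X, hf₂X, ⟨he₁Q, hf₁Q, he₂Q, ?_, he₁f₁, ?_, he₁e₂, ?_,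
    hf₁e₂, ?_⟩⟩
  · rw [hf₂def, Q_add_smul hQ, he₂Q, hz₂e₂]; ring
  · rw [hf₂def, hb.add_right, hb.smul_right, he₂z₂, he₂e₂]; ring
  · rw [hf₂def, hb.add_right, hb.smul_right, polar_symm Q e₁ z₂, hz₂e₁, he₁e₂]; ring
  · rw [hf₂def, hb.add_right, hb.smul_right, polar_symm Q f₁ z₂, hz₂f₁, hf₁e₂]; ring

/-- A four-dimensional space containing a standard basis is spanned by it. -/
theorem Hyp4.span {Q : (ι → F) → F} (hQ : IsNondegenerateQuadraticForm Q)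
    {e₁ f₁ e₂ f₂ : ι → F} (h : Hyp4 Q e₁ f₁ e₂ f₂) (X : Submodule F (ι → F))
    (hX : Module.finrank F X = 4) (h1 : e₁ ∈ X) (h2 : f₁ ∈ X) (h3 : e₂ ∈ X) (h4 : f₂ ∈ X) :
    ∀ x ∈ X, ∃ p₁ r₁ p₂ r₂ : F, x = v4 e₁ f₁ e₂ f₂ p₁ r₁ p₂ r₂ := by
  have hb := hQ.polar_bilinear
  set w : Fin 4 → (ι → F) := ![e₁, f₁, e₂, f₂] with hw
  have hsum : ∀ c : Fin 4 → F, ∑ i, c i • w i = v4 e₁ f₁ e₂ f₂ (c 0) (c 1) (c 2) (c 3) := by
    intro c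
    simp [Fin.sum_univ_four, hw, v4]
  have hli : LinearIndependent F w := by
    rw [Fintype.linearIndependent_iff]
    intro c hc
    rw [hsum] at hc
    have k1 := congrArg (fun y => B[Q] y (v4 e₁ f₁ e₂ f₂ 0 1 0 0)) hc
    have k2 := congrArg (fun y => B[Q] y (v4 e₁ f₁ e₂ f₂ 1 0 0 0)) hc
    have k3 := congrArg (fun y => B[Q] y (v4 e₁ f₁ e₂ f₂ 0 0 0 1)) hc
    have k4 := congrArg (fun y => B[Q] y (v4 e₁ f₁ e₂ f₂ 0 0 1 0)) hc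
    simp only [h.polar hQ, bil_zero_left hb, mul_zero, mul_one, add_zero, zero_add] at k1 k2 k3 k4
    intro i
    fin_cases i
    · exact k1
    · exact k2
    · exact k3
    · exact k4
  have hspan_le : Submodule.span F (Set.range w) ≤ X := by
    rw [Submodule.span_le]
    rintro x ⟨p, rfl⟩
    fin_cases p
    · exact h1
    · exact h2
    · exact h3
    · exact h4
  have hfr : Module.finrank F (Submodule.span F (Set.range w)) = 4 := by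
    rw [finrank_span_eq_card hli, Fintype.card_fin]
  have hEq : Submodule.span F (Set.range w) = X :=
    Submodule.eq_of_le_of_finrank_eq hspan_le (by rw [hfr, hX])
  intro x hx
  rw [← hEq, Submodule.mem_span_range_iff_exists_fun] at hx
  obtain ⟨c, hc⟩ := hx
  exact ⟨c 0, c 1, c 2, c 3, by rw [← hc, hsum]⟩


theorem Hyp4.dich {Q : (ι → F) → F} (hQ : IsNondegenerateQuadraticForm Q)
    (hq : Fintype.card F = 2) {e₁ f₁ e₂ f₂ : ι → F} (h : Hyp4 Q e₁ f₁ e₂ f₂) (p₁ r₁ p₂ r₂ : F)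
    (hφQ : Q (v4 e₁ f₁ e₂ f₂ p₁ r₁ p₂ r₂) = 1) :
    (v4 e₁ f₁ e₂ f₂ p₁ r₁ p₂ r₂ = v4 e₁ f₁ e₂ f₂ 1 1 0 0 ∨
      v4 e₁ f₁ e₂ f₂ p₁ r₁ p₂ r₂ = v4 e₁ f₁ e₂ f₂ 1 0 1 1 ∨
      v4 e₁ f₁ e₂ f₂ p₁ r₁ p₂ r₂ = v4 e₁ f₁ e₂ f₂ 1 1 0 0 + v4 e₁ f₁ e₂ f₂ 1 0 1 1) ∨
    (B[Q] (v4 e₁ f₁ e₂ f₂ p₁ r₁ p₂ r₂) (v4 e₁ f₁ e₂ f₂ 1 1 0 0) = 0 ∧
      B[Q] (v4 e₁ f₁ e₂ f₂ p₁ r₁ p₂ r₂) (v4 e₁ f₁ e₂ f₂ 1 0 1 1) = 0) := by
  have h2 : (2 : F) = 0 := S5705.two_eq_zero2 hq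
  have h11 : (1 : F) + 1 = 0 := by linear_combination h2
  rw [h.Qval hQ] at hφQ
  rw [h.polar hQ, h.polar hQ, v4_add]
  rcases S5705.f2_cases hq p₁ with rfl | rfl <;> rcases S5705.f2_cases hq r₁ with rfl | rfl <;>
  rcases S5705.f2_cases hq p₂ with rfl | rfl <;> rcases S5705.f2_cases hq r₂ with rfl | rfl <;>
  simp [h2, h11] at hφQ ⊢

theorem forall_fin6 {P : Fin 6 → Prop} (h0 : P 0) (h1 : P 1) (h2 : P 2) (h3 : P 3) (h4 : P 4)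
    (h5 : P 5) : ∀ i, P i := by
  intro i
  fin_cases i
  · exact h0
  · exact h1
  · exact h2
  · exact h3
  · exact h4
  · exact h5

theorem forall_fin3 {P : Fin 3 → Prop} (h0 : P 0) (h1 : P 1) (h2 : P 2) : ∀ i, P i := by
  intro i
  fin_cases i
  · exact h0
  · exact h1
  · exact h2

/-- The case of plus-type spaces of dimension four over the field with two elements. -/
theorem case_q2_k4 {Q : (ι → F) → F} (hQ : IsNondegenerateQuadraticForm Q)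
    (hq : Fintype.card F = 2) {t : ℕ} (ht : 3 ≤ t) (D : Fin t → Submodule F (ι → F))
    (hD : IsOrthogonalMDecomposition Q 4 D) (hplus : ∀ i, IsPlusTypeOn Q (D i)) :
    ∃ K : Subgroup (GL ι F), decompositionStabilizer D ⊓ omegaGL Q < K ∧ K < omegaGL Q := by
  classical
  have hb := hQ.polar_bilinear
  have h2 : (2 : F) = 0 := S5705.two_eq_zero2 hq
  have h11 : (1 : F) + 1 = 0 := by linear_combination h2
  haveI : CharP F 2 := CharTwo.of_one_ne_zero_of_two_eq_zero one_ne_zero h2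
  have hone : c2 F 1 = 1 := map_one _
  have hzero : c2 F 0 = 0 := map_zero _
  have hbases := fun j => exists_hyp4 hQ (D j) (hD.decomp.decomp.finrank_eq j)
    (hD.decomp.nondegenerate j) (hplus j)
  choose E₁ F₁ E₂ F₂ hE₁ hF₁ hE₂ hF₂ hH using hbases
  obtain ⟨a, ha⟩ : ∃ a : Fin t → ι → F, ∀ j, a j = v4 (E₁ j) (F₁ j) (E₂ j) (F₂ j) 1 1 0 0 :=
    ⟨_, fun _ => rfl⟩
  obtain ⟨b, hbd⟩ : ∃ b : Fin t → ι → F, ∀ j, b j = v4 (E₁ j) (F₁ j) (E₂ j) (F₂ j) 1 0 1 1 :=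
    ⟨_, fun _ => rfl⟩
  obtain ⟨a', ha'⟩ : ∃ a : Fin t → ι → F, ∀ j, a j = v4 (E₁ j) (F₁ j) (E₂ j) (F₂ j) 0 0 1 1 :=
    ⟨_, fun _ => rfl⟩
  obtain ⟨b', hb'⟩ : ∃ b : Fin t → ι → F, ∀ j, b j = v4 (E₁ j) (F₁ j) (E₂ j) (F₂ j) 1 1 1 0 :=
    ⟨_, fun _ => rfl⟩
  have hmem : ∀ j (p₁ r₁ p₂ r₂ : F), v4 (E₁ j) (F₁ j) (E₂ j) (F₂ j) p₁ r₁ p₂ r₂ ∈ D j :=
    fun j _ _ _ _ => v4_mem (D j) (hE₁ j) (hF₁ j) (hE₂ j) (hF₂ j) _ _ _ _
  have haD : ∀ j, a j ∈ D j := fun j => by rw [ha]; exact hmem _ _ _ _ _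
  have hbD : ∀ j, b j ∈ D j := fun j => by rw [hbd]; exact hmem _ _ _ _ _
  have ha'D : ∀ j, a' j ∈ D j := fun j => by rw [ha']; exact hmem _ _ _ _ _
  have hb'D : ∀ j, b' j ∈ D j := fun j => by rw [hb']; exact hmem _ _ _ _ _
  have haQ : ∀ j, Q (a j) = 1 := fun j => by rw [ha, (hH j).Qval hQ]; ring
  have hbQ : ∀ j, Q (b j) = 1 := fun j => by rw [hbd, (hH j).Qval hQ]; ring
  have habB : ∀ j, B[Q] (a j) (b j) = 1 := fun j => by rw [ha, hbd, (hH j).polar hQ]; ring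
  have ha'b' : ∀ j, B[Q] (a' j) (b' j) = 1 := fun j => by
    rw [ha', hb', (hH j).polar hQ]; ring
  have ha'a : ∀ j, B[Q] (a' j) (a j) = 0 := fun j => by
    rw [ha', ha, (hH j).polar hQ]; ring
  have ha'b : ∀ j, B[Q] (a' j) (b j) = 0 := fun j => by
    rw [ha', hbd, (hH j).polar hQ]; linear_combination h2
  have haΦ : ∀ j, a j ∈ PhiSet Q D 1 := fun j => ⟨⟨j, haD j⟩, haQ j⟩
  have hbΦ : ∀ j, b j ∈ PhiSet Q D 1 := fun j => ⟨⟨j, hbD j⟩, hbQ j⟩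
  have hcΦ : ∀ j, a j + b j ∈ PhiSet Q D 1 := fun j => by
    refine ⟨⟨j, (D j).add_mem (haD j) (hbD j)⟩, ?_⟩
    rw [Q_add Q, haQ, hbQ, habB]
    linear_combination h2
  have dich : ∀ j, ∀ φ ∈ D j, Q φ = 1 →
      (φ = a j ∨ φ = b j ∨ φ = a j + b j) ∨ (B[Q] φ (a j) = 0 ∧ B[Q] φ (b j) = 0) := by
    intro j φ hφ hφQ
    obtain ⟨p₁, r₁, p₂, r₂, rfl⟩ := (hH j).span hQ (D j) (hD.decomp.decomp.finrank_eq j) (hE₁ j)
      (hF₁ j) (hE₂ j) (hF₂ j) φ hφ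
    rw [ha, hbd]
    exact (hH j).dich hQ hq _ _ _ _ hφQ
  obtain ⟨blk, hblkdef⟩ : ∃ b : Fin 3 → Fin t, b = blk3 ht := ⟨_, rfl⟩
  have hblk : Function.Injective blk := by rw [hblkdef]; exact blk3_inj ht
  obtain ⟨bs, hbs⟩ : ∃ bs : Fin 6 → ι → F, bs = ![a (blk 0), b (blk 0), a (blk 1), b (blk 1),
      a (blk 2), b (blk 2)] := ⟨_, rfl⟩
  have hZ : ZP Q bs 1 := by
    rw [hbs]
    exact ZP_of_pairs hQ hD 1 blk hblk (fun i => a (blk i)) (fun i => b (blk i))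
      (fun i => haD _) (fun i => hbD _) (fun i => by rw [haQ, hone])
      (fun i => by rw [hbQ, hone]) (fun i => habB _)
  have bs0 : bs 0 = a (blk 0) := by rw [hbs]; rfl
  have bs1 : bs 1 = b (blk 0) := by rw [hbs]; rfl
  have bs2 : bs 2 = a (blk 1) := by rw [hbs]; rfl
  have bs3 : bs 3 = b (blk 1) := by rw [hbs]; rfl
  have bs4 : bs 4 = a (blk 2) := by rw [hbs]; rfl
  have bs5 : bs 5 = b (blk 2) := by rw [hbs]; rfl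
  have orthblk : ∀ i i' : Fin 3, i ≠ i' → ∀ u ∈ D (blk i), ∀ v ∈ D (blk i'), B[Q] u v = 0 :=
    fun i i' hii u hu v hv => hD.decomp.orthogonal (blk i) (blk i') (hblk.ne hii) u hu v hv
  -- the dichotomy for the distinguished vectors
  have key : ∀ φ ∈ PhiSet Q D 1,
      (∃ i : Fin 3, φ = a (blk i) ∨ φ = b (blk i) ∨ φ = a (blk i) + b (blk i)) ∨
        (∀ i : Fin 3, B[Q] φ (a (blk i)) = 0 ∧ B[Q] φ (b (blk i)) = 0) := by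
    rintro φ ⟨⟨j', hφj⟩, hφQ⟩
    by_cases hex : ∃ i, j' = blk i
    · obtain ⟨i, rfl⟩ := hex
      rcases dich (blk i) φ hφj hφQ with h | h
      · left; exact ⟨i, h⟩
      · right
        intro i'
        by_cases hi : i' = i
        · subst hi; exact h
        · exact ⟨orthblk i i' (Ne.symm hi) φ hφj _ (haD _),
            orthblk i i' (Ne.symm hi) φ hφj _ (hbD _)⟩
    · right
      intro i
      have hne : j' ≠ blk i := fun h => hex ⟨i, h⟩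
      exact ⟨hD.decomp.orthogonal j' (blk i) hne φ hφj _ (haD _),
        hD.decomp.orthogonal j' (blk i) hne φ hφj _ (hbD _)⟩
  have orth6 : ∀ z : ι → F, (∀ i : Fin 3, B[Q] z (a (blk i)) = 0 ∧ B[Q] z (b (blk i)) = 0) →
      ∀ i : Fin 6, B[Q] z (bs i) = 0 := by
    intro z hz
    refine forall_fin6 ?_ ?_ ?_ ?_ ?_ ?_
    · rw [bs0]; exact (hz 0).1
    · rw [bs1]; exact (hz 0).2
    · rw [bs2]; exact (hz 1).1
    · rw [bs3]; exact (hz 1).2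
    · rw [bs4]; exact (hz 2).1
    · rw [bs5]; exact (hz 2).2
  -- the first witness
  have qx : qZ 1 ![1, 0, 1, 1, 0, 1] = 1 := by decide
  have qy : qZ 1 ![0, 1, 1, 0, 1, 1] = 1 := by decide
  have qx' : qZ 1 ![1, 0, 0, 1, 1, 1] = 1 := by decide
  have qy' : qZ 1 ![1, 1, 1, 0, 0, 1] = 1 := by decide
  have byx : bZ ![0, 1, 1, 0, 1, 1] ![1, 0, 1, 1, 0, 1] = 1 := by decide
  have by'x' : bZ ![1, 1, 1, 0, 0, 1] ![1, 0, 0, 1, 1, 1] = 1 := by decide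
  have hx := hZ.Q_ne hQ _ qx
  have hy := hZ.Q_ne hQ _ qy
  have hx' := hZ.Q_ne hQ _ qx'
  have hy' := hZ.Q_ne hQ _ qy'
  obtain ⟨g₂, hg₂⟩ : ∃ g : GL ι F, g = ⁅rQ hQ _ hy, rQ hQ _ hx⁆ * ⁅rQ hQ _ hy', rQ hQ _ hx'⁆ :=
    ⟨_, rfl⟩
  have hg₂Ω : g₂ ∈ omegaGL Q := by
    rw [hg₂]
    exact Subgroup.mul_mem _ (comm_mem_omega (rQ_mem hQ _ _) (rQ_mem hQ _ _))
      (comm_mem_omega (rQ_mem hQ _ _) (rQ_mem hQ _ _))
  have hg₂bs : ∀ i : Fin 6, (g₂ : Matrix ι ι F) *ᵥ bs i = bs (i + 2) := by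
    intro i
    rw [← vecZ_single bs i, ← vecZ_single bs (i + 2), hg₂, Units.val_mul,
      ← Matrix.mulVec_mulVec, hZ.rot hQ _ _ qy' qx' by'x', hZ.rot hQ _ _ qy qx byx]
    congr 1
    revert i
    decide
  have hfix : ∀ z : ι → F, (∀ i, B[Q] z (bs i) = 0) → (g₂ : Matrix ι ι F) *ᵥ z = z := by
    intro z hz
    rw [hg₂, Units.val_mul, ← Matrix.mulVec_mulVec, ZP.rot_fix_orth hQ z hz _ _ hy' hx',
      ZP.rot_fix_orth hQ z hz _ _ hy hx]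
  have hgA : ∀ i : Fin 3, (g₂ : Matrix ι ι F) *ᵥ a (blk i) = a (blk (i + 1)) := by
    refine forall_fin3 ?_ ?_ ?_
    · have := hg₂bs 0
      rw [show (0 : Fin 6) + 2 = 2 from rfl, bs0, bs2] at this
      exact this
    · have := hg₂bs 2
      rw [show (2 : Fin 6) + 2 = 4 from rfl, bs2, bs4] at this
      exact this
    · have := hg₂bs 4
      rw [show (4 : Fin 6) + 2 = 0 from rfl, bs4, bs0] at this
      exact this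
  have hgB : ∀ i : Fin 3, (g₂ : Matrix ι ι F) *ᵥ b (blk i) = b (blk (i + 1)) := by
    refine forall_fin3 ?_ ?_ ?_
    · have := hg₂bs 1
      rw [show (1 : Fin 6) + 2 = 3 from rfl, bs1, bs3] at this
      exact this
    · have := hg₂bs 3
      rw [show (3 : Fin 6) + 2 = 5 from rfl, bs3, bs5] at this
      exact this
    · have := hg₂bs 5
      rw [show (5 : Fin 6) + 2 = 1 from rfl, bs5, bs1] at this
      exact this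
  have hg₂Φ : ∀ φ ∈ PhiSet Q D 1, (g₂ : Matrix ι ι F) *ᵥ φ ∈ PhiSet Q D 1 := by
    intro φ hφ
    rcases key φ hφ with ⟨i, h | h | h⟩ | h
    · rw [h, hgA]; exact haΦ _
    · rw [h, hgB]; exact hbΦ _
    · rw [h, Matrix.mulVec_add, hgA, hgB]; exact hcΦ _
    · rw [hfix φ (orth6 φ h)]; exact hφ
  have hg₂D : g₂ ∉ decompositionStabilizer D := by
    have hfa' : (g₂ : Matrix ι ι F) *ᵥ a' (blk 0) = a' (blk 0) := by
      apply hfix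
      apply orth6
      refine forall_fin3 ?_ ?_ ?_
      · exact ⟨ha'a _, ha'b _⟩
      · exact ⟨orthblk 0 1 (by decide) _ (ha'D _) _ (haD _),
          orthblk 0 1 (by decide) _ (ha'D _) _ (hbD _)⟩
      · exact ⟨orthblk 0 2 (by decide) _ (ha'D _) _ (haD _),
          orthblk 0 2 (by decide) _ (ha'D _) _ (hbD _)⟩
    refine not_mem_stab hD g₂ (j := blk 0) (j₁ := blk 1) (j₂ := blk 0)
      (hblk.ne (by decide)) (a (blk 0)) (a' (blk 0)) (haD _) (ha'D _)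
      (b (blk 1)) (b' (blk 0)) (hbD _) (hb'D _) ?_ ?_
    · have := hgA 0
      rw [show (0 : Fin 3) + 1 = 1 from rfl] at this
      rw [this, habB]
      exact one_ne_zero
    · rw [hfa', ha'b']
      exact one_ne_zero
  -- the second witness
  have qX : qZ 1 (Pi.single 0 1) = 1 := by decide
  have qY : qZ 1 ![0, 1, 1, 0, 1, 0] = 1 := by decide
  have bXY : bZ (Pi.single 0 1) ![0, 1, 1, 0, 1, 0] = 1 := by decide
  have hX := hZ.Q_ne hQ _ qX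
  have hY := hZ.Q_ne hQ _ qY
  obtain ⟨g₃, hg₃⟩ : ∃ g : GL ι F, g = ⁅rQ hQ _ hX, rQ hQ _ hY⁆ := ⟨_, rfl⟩
  have hg₃Ω : g₃ ∈ omegaGL Q := by
    rw [hg₃]; exact comm_mem_omega (rQ_mem hQ _ _) (rQ_mem hQ _ _)
  have hg₃e : (g₃ : Matrix ι ι F) *ᵥ vecZ bs (Pi.single 3 1) = vecZ bs ![0, 1, 1, 1, 1, 0] := by
    rw [hg₃, hZ.rot hQ _ _ qX qY bXY]
    congr 1
    decide
  refine chain_of_set D (PhiSet Q D 1) (PhiSet_inv Q D 1) g₂ hg₂Ω hg₂Φ hg₂D g₃ hg₃Ω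
    (vecZ bs (Pi.single 3 1)) ?_ ?_
  · rw [vecZ_single, bs3]; exact hbΦ _
  · intro hmem
    obtain ⟨hblkm, _⟩ := hmem
    refine not_mem_blocks hD _ (hblk.ne (by decide : (0 : Fin 3) ≠ 2)) (bs 0) (bs 5)
      (by rw [bs0]; exact haD _) (by rw [bs5]; exact hbD _) ?_ ?_ hblkm
    · rw [hg₃e, ← vecZ_single bs 0, hZ.polar hQ]
      have : bZ ![0, 1, 1, 1, 1, 0] (Pi.single 0 1) = 1 := by decide
      rw [this, hone]
      exact one_ne_zero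
    · rw [hg₃e, ← vecZ_single bs 5, hZ.polar hQ]
      have : bZ ![0, 1, 1, 1, 1, 0] (Pi.single 5 1) = 1 := by decide
      rw [this, hone]
      exact one_ne_zero

end four

end Cfsg.Agent.Helper97.QD2
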