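import Mathlib
import Cfsg.Agent.Lib.Helper2.SR0

/-!
# SR project (S2281), piece (C1) `P_mul_Pinv` (helper97, for helper2's server).
-/

set_option autoImplicit false

namespace Cfsg.Agent.Helper97.SR

open Matrix Cfsg Cfsg.Agent.Helper13 Cfsg.Agent.Helper84.SpRoot Cfsg.Agent.Helper5.SpAut
open Cfsg.Agent.Helper2.SR

section C
variable {F : Type*} [Field F] {m : ℕ}

/-- (C1) -/
theorem P_mul_Pinv : Pm m F * Pinv m F = 1 ∧ Pinv m F * Pm m F = 1 := by
  have h1 : Pm m F * Pinv m F = 1 := by
    ext i j
    rw [Pm, Matrix.add_mul, Matrix.one_mul, Matrix.add_apply, Matrix.mul_apply]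
    by_cases hi : i.val + 1 < m + 2
    · have hsum : ∑ k, Nm m F i k * Pinv m F k j = Pinv m F ⟨i.val + 1, hi⟩ j := by
        rw [Finset.sum_eq_single (⟨i.val + 1, hi⟩ : Fin (m + 2))]
        · simp [Nm]
        · intro b _ hb
          have : ¬ (i.val + 1 = b.val) := fun h => hb (Fin.ext h.symm)
          simp [Nm, this]
        · intro h; exact absurd (Finset.mem_univ _) h
      rw [hsum]
      simp only [Pinv, Matrix.of_apply, Matrix.one_apply]
      rcases lt_trichotomy i.val j.val with hlt | heq | hgt
      · have h1 : i.val ≤ j.val := hlt.le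
        have h2 : i.val + 1 ≤ j.val := hlt
        have h3 : i ≠ j := fun h => by rw [h] at hlt; exact lt_irrefl _ hlt
        have h4 : j.val - i.val = (j.val - (i.val + 1)) + 1 := by omega
        simp only [h1, h2, h3, if_true, if_false]
        rw [h4, pow_succ]; ring
      · have h3 : i = j := Fin.ext heq
        subst h3
        simp
      · have h1 : ¬ i.val ≤ j.val := by omega
        have h2 : ¬ i.val + 1 ≤ j.val := by omega
        have h3 : i ≠ j := fun h => by rw [h] at hgt; exact lt_irrefl _ hgt
        simp [h1, h2, h3]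
    · have hsum : ∑ k, Nm m F i k * Pinv m F k j = 0 := by
        apply Finset.sum_eq_zero
        intro b _
        have : ¬ (i.val + 1 = b.val) := fun h => hi (h ▸ b.isLt)
        simp [Nm, this]
      rw [hsum, add_zero]
      simp only [Pinv, Matrix.of_apply, Matrix.one_apply]
      rcases lt_trichotomy i.val j.val with hlt | heq | hgt
      · exfalso; have := j.isLt; omega
      · have h3 : i = j := Fin.ext heq
        subst h3
        simp
      · have h1 : ¬ i.val ≤ j.val := by omega
        have h3 : i ≠ j := fun h => by rw [h] at hgt; exact lt_irrefl _ hgt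
        simp [h1, h3]
  exact ⟨h1, _root_.mul_eq_one_comm.mp h1⟩

end C

end Cfsg.Agent.Helper97.SR
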