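import Mathlib
import Cfsg.Agent.Lib.Helper62.SUO0

/-!
# SUO project (S2282), piece (C1) `exists_R` (helper97, for helper62's server).
-/

set_option autoImplicit false
set_option linter.unusedSectionVars false
set_option linter.unusedVariables false
set_option quotPrecheck false

namespace Cfsg.Agent.Helper97.SUO

open Matrix Cfsg Cfsg.Agent.Helper13 Cfsg.Agent.Helper87.PsuA Cfsg.Agent.Helper62.SUO
open Cfsg.Agent.Helper87.PsuB0

section U
variable {F : Type*} [Field F] [Fintype F] {q n : ℕ} (hF : Fintype.card F = q ^ 2)
  {b : Fin n → Fin n → F}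

include hF

/-- superdiagonal entries add (own copy of (U1)) -/
theorem h97_superdiag_mul (hb : HB q b) {g h : ↥(Cfsg.SU n F q)} (hg : g ∈ Usub hb) (hh : h ∈ Usub hb)
    (i j : Fin n) (hij : i.val + 1 = j.val) :
    co q b (actv (g * h) (b j)) i = co q b (actv g (b j)) i + co q b (actv h (b j)) i := by
  have hg' := (mem_Usub_iff hb).1 hg
  have hh' := (mem_Usub_iff hb).1 hh
  rw [← rhoM_apply, ← rhoM_apply, ← rhoM_apply, rhoM_mul hb, Matrix.mul_apply]
  have hne : i ≠ j := by
    intro h; rw [h] at hij; omega
  rw [Finset.sum_eq_add i j hne]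
  · rw [rhoM_apply, rhoM_apply, rhoM_apply, rhoM_apply, hg' i i le_rfl, hh' j j le_rfl]
    simp only [if_true, one_mul, mul_one]
    ring
  · intro k _ hk
    rw [rhoM_apply, rhoM_apply]
    rcases lt_or_ge k.val i.val with hlt | hge
    · have : co q b (actv g (b k)) i = 0 := by
        rw [hg' i k (Fin.le_def.2 hlt.le), if_neg (fun h => by rw [h] at hlt; exact lt_irrefl _ hlt)]
      rw [this, zero_mul]
    · have hkj : j.val ≤ k.val := by
        have h1 : k.val ≠ i.val := fun h => hk.1 (Fin.ext h)
        omega
      have : co q b (actv h (b j)) k = 0 := by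
        rw [hh' k j (Fin.le_def.2 hkj), if_neg hk.2]
      rw [this, mul_zero]
  · intro h; exact absurd (Finset.mem_univ _) h
  · intro h; exact absurd (Finset.mem_univ _) h

end U

section C
variable {F : Type*} [Field F] [Fintype F] {q m : ℕ} (hF : Fintype.card F = q ^ 2)
  {b : Fin (2 * m + 5) → Fin (2 * m + 5) → F}

local notation "V" => Fin (2 * m + 5) → F
local notation "G" => ↥(Cfsg.SU (2 * m + 5) F q)
local notation "H" => Cfsg.hermForm (2 * m + 5) F q

include hF

/-- the induction behind (C1) -/
theorem h97_exists_R_aux (hb : HB q b) : ∀ k : ℕ, k ≤ m →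
    ∃ R : G, R ∈ Usub hb ∧
      (∀ i : Fin (2 * m + 5), k < i.val → i.val < 2 * m + 5 - k → actv R (b i) = b i) ∧
      (∀ i j : Fin (2 * m + 5), i.val + 1 = j.val → (j.val ≤ k ∨ 2 * m + 5 - k ≤ j.val) →
        co q b (actv R (b j)) i ≠ 0) ∧
      (∀ i j : Fin (2 * m + 5), i.val + 1 = j.val → k + 1 ≤ j.val → j.val ≤ 2 * m + 4 - k →
        co q b (actv R (b j)) i = 0) := by
  intro k
  induction k with
  | zero =>
    intro _
    refine ⟨1, (Usub hb).one_mem, fun i _ _ => actv_one _, ?_, ?_⟩
    · intro i j hij h
      exfalso
      have := j.isLt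
      omega
    · intro i j hij _ _
      rw [actv_one, co_b hb]
      have : i ≠ j := by intro h; rw [h] at hij; omega
      rw [if_neg this]
  | succ k ih =>
    intro hk
    obtain ⟨R, hRU, hfix, hnz, hz⟩ := ih (by omega)
    -- the new factor
    set kk : Fin (2 * m + 5) := ⟨k, by omega⟩ with hkk
    set rr : Fin (2 * m + 5) := ⟨2 * m + 3 - k, by omega⟩ with hrr
    have hrevk : Fin.rev kk = ⟨2 * m + 4 - k, by omega⟩ := by
      apply Fin.ext
      simp [Fin.rev, hkk]
      try omega
    have hklt : kk < Fin.rev kk := by
      rw [hrevk, Fin.lt_def]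
      simp [hkk]
      omega
    have hcow : ∀ i : Fin (2 * m + 5), co q b (-(b rr)) i = if i = rr then -1 else 0 := by
      intro i
      rw [co_neg hF, co_b hb]
      split_ifs <;> simp
    have hrr_ne_rev : rr ≠ Fin.rev rr := by
      intro h
      have := congrArg Fin.val h
      simp [Fin.rev, hrr] at this
      omega
    have hww : H (-(b rr)) (-(b rr)) = 0 := by
      rw [H_neg_left hF, H_neg_right hF, neg_neg]
      exact b_isotropic hb hrr_ne_rev
    have ha : (0 : F) + (0 : F) ^ q + H (-(b rr)) (-(b rr)) = 0 := by
      rw [hww, frob_zero hF, add_zero, add_zero]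
    have hw0 : ∀ i : Fin (2 * m + 5), Fin.rev kk ≤ i → co q b (-(b rr)) i = 0 := by
      intro i hi
      rw [hcow, if_neg]
      intro h
      rw [h, hrevk, Fin.le_def] at hi
      simp [hrr] at hi
      omega
    have hEU : eich hF (b kk) (-(b rr)) 0 ∈ Usub hb := eich_mem_Usub hF hb kk hklt _ 0 hw0 ha
    have huw : H (b kk) (-(b rr)) = 0 := by
      rw [H_b_right hF, hw0 _ le_rfl, frob_zero hF]
    -- coordinates of E b_j
    have hcoE : ∀ j i : Fin (2 * m + 5), co q b (actv (eich hF (b kk) (-(b rr)) 0) (b j)) i =
        (if i = j then (1 : F) else 0) + (if kk = Fin.rev j then (1 : F) else 0) * (if i = rr then -1 else 0)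
          - (if Fin.rev j = rr then (-1 : F) else 0) ^ q * (if i = kk then (1 : F) else 0) := by
      intro j i
      rw [co_eich_b hF hb kk hklt.ne _ 0 huw ha j i, hcow, hcow]
      ring
    have hEfix : ∀ j : Fin (2 * m + 5), j.val ≠ k + 1 → j.val ≠ 2 * m + 4 - k →
        actv (eich hF (b kk) (-(b rr)) 0) (b j) = b j := by
      intro j h1 h2
      apply ext_co hb
      intro i
      rw [hcoE, co_b hb]
      have e1 : ¬ kk = Fin.rev j := by
        intro h
        have := congrArg Fin.val h
        simp [Fin.rev, hkk] at this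
        omega
      have e2 : ¬ Fin.rev j = rr := by
        intro h
        have := congrArg Fin.val h
        simp [Fin.rev, hrr] at this
        omega
      rw [if_neg e1, if_neg e2]
      have : (0 : F) ^ q = 0 := frob_zero hF
      rw [this]; ring
    refine ⟨eich hF (b kk) (-(b rr)) 0 * R, (Usub hb).mul_mem hEU hRU, ?_, ?_, ?_⟩
    · intro i h1 h2
      rw [actv_mul, hfix i (by omega) (by omega)]
      exact hEfix i (by omega) (by omega)
    · intro i j hij h
      rw [h97_superdiag_mul hF hb hEU hRU i j hij]
      by_cases hj1 : j.val = k + 1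
      · -- new entry at (k, k+1): E gives 1, R gives 0
        have hR0 : co q b (actv R (b j)) i = 0 := hz i j hij (by omega) (by omega)
        rw [hR0, add_zero, hcoE]
        have e0 : i ≠ j := by intro h'; rw [h'] at hij; omega
        have e1 : ¬ kk = Fin.rev j := by
          intro h'
          have := congrArg Fin.val h'
          simp [Fin.rev, hkk] at this
          omega
        have e2 : Fin.rev j = rr := by
          apply Fin.ext
          simp [Fin.rev, hrr]
          omega
        have e3 : i = kk := by
          apply Fin.ext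
          simp [hkk]
          omega
        rw [if_neg e0, if_neg e1, if_pos e2, if_pos e3]
        have hq1 : ((-1 : F)) ^ q ≠ 0 := pow_ne_zero _ (neg_ne_zero.2 one_ne_zero)
        simp only [zero_mul, add_zero, mul_one, zero_sub, ne_eq, neg_eq_zero]
        exact hq1
      · by_cases hj2 : j.val = 2 * m + 4 - k
        · -- new entry at (rev k - 1, rev k): E gives -1, R gives 0
          have hR0 : co q b (actv R (b j)) i = 0 := hz i j hij (by omega) (by omega)
          rw [hR0, add_zero, hcoE]
          have e0 : i ≠ j := by intro h'; rw [h'] at hij; omega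
          have e1 : kk = Fin.rev j := by
            apply Fin.ext
            simp [Fin.rev, hkk]
            omega
          have e2 : ¬ Fin.rev j = rr := by
            intro h'
            have := congrArg Fin.val h'
            simp [Fin.rev, hrr] at this
            omega
          have e3 : i = rr := by
            apply Fin.ext
            simp [hrr]
            omega
          rw [if_neg e0, if_pos e1, if_neg e2, if_pos e3]
          have : (0 : F) ^ q = 0 := frob_zero hF
          rw [this]
          simp
        · -- old entries: E gives 0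
          have hE0 : co q b (actv (eich hF (b kk) (-(b rr)) 0) (b j)) i = 0 := by
            rw [hEfix j hj1 hj2, co_b hb]
            have e0 : i ≠ j := by intro h'; rw [h'] at hij; omega
            rw [if_neg e0]
          rw [hE0, zero_add]
          apply hnz i j hij
          rcases h with h | h
          · left; omega
          · right; omega
    · intro i j hij h1 h2
      rw [h97_superdiag_mul hF hb hEU hRU i j hij]
      have hR0 : co q b (actv R (b j)) i = 0 := hz i j hij (by omega) (by omega)
      have hE0 : co q b (actv (eich hF (b kk) (-(b rr)) 0) (b j)) i = 0 := by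
        rw [hEfix j (by omega) (by omega), co_b hb]
        have e0 : i ≠ j := by intro h'; rw [h'] at hij; omega
        rw [if_neg e0]
      rw [hR0, hE0, add_zero]

/-- (C1) induction on `j ≤ m`: `R_0 = 1`, `R_{j+1} = eich (b j) (-(b (2m+3-j))) 0 * R_j`
(`eich_mem_Usub`, `co_eich_b`, U1) -/
theorem exists_R (hb : HB q b) :
    ∃ R : G, R ∈ Usub hb ∧
      actv R (b ⟨m + 3, by omega⟩) = b ⟨m + 3, by omega⟩ ∧
      actv R (b ⟨m + 4, by omega⟩) = b ⟨m + 4, by omega⟩ ∧
      (∀ i j : Fin (2 * m + 5), i.val + 1 = j.val → (j.val ≤ m ∨ m + 5 ≤ j.val) →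
        co q b (actv R (b j)) i ≠ 0) ∧
      (∀ i j : Fin (2 * m + 5), i.val + 1 = j.val → m + 1 ≤ j.val → j.val ≤ m + 4 →
        co q b (actv R (b j)) i = 0) := by
  obtain ⟨R, hRU, hfix, hnz, hz⟩ := h97_exists_R_aux hF hb m le_rfl
  refine ⟨R, hRU, hfix _ (by simp) (by simp; omega), hfix _ (by simp) (by simp; omega), ?_, ?_⟩
  · intro i j hij h
    apply hnz i j hij
    rcases h with h | h
    · left; exact h
    · right; omega
  · intro i j hij h1 h2
    exact hz i j hij h1 (by omega)

end C

end Cfsg.Agent.Helper97.SUO
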