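import Mathlib
import Cfsg.Agent.Lib.Helper12.SUOT_T14

/-!
# SUOT (S2282, concrete block), piece (T7b) `frame_v_uuv` (helper97, for helper12's sub-server).

`v = z + al^q N z` with `z = b_(n-1)`; `u v = z + al N z = w + al^q N w` for the explicit vector
`w = b_(n-1) + Σ_{i ≤ n-2} (al - al^q) (-al^q)^(n-2-i) b_i`, so `u (u v) = w + al N w` by the key relation
twice, and `H v X = (X_0 + al X_1)^q`.
-/

set_option autoImplicit false

namespace Cfsg.Agent.Helper97.SUOT

open Matrix Cfsg Cfsg.Agent.Helper13 Cfsg.Agent.Helper87.PsuA Cfsg.Agent.Helper12.SUOT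

variable {F : Type*} [Field F] [Fintype F] {q n : ℕ}

/-- coordinates of a linear combination of the hyperbolic basis -/
theorem h97_co_comb (hF : Fintype.card F = q ^ 2) {b : Fin n → Fin n → F} (hb : HB q b)
    (c : Fin n → F) (i : Fin n) : co q b (∑ j, c j • b j) i = c i := by
  rw [co_sum hF]
  rw [Finset.sum_eq_single i]
  · rw [co_smul, co_b hb, if_pos rfl, mul_one]
  · intro j _ hj
    rw [co_smul, co_b hb, if_neg (fun h => hj h.symm), mul_zero]
  · intro h; exact absurd (Finset.mem_univ _) h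

/-- the hard one: `H v (u² v) = ((al - al^q)^3 * y_3)^q ≠ 0`, `y = A(al^q)⁻¹ b_(n-1)` -/
theorem frame_v_uuv (hF : Fintype.card F = q ^ 2) {b : Fin n → Fin n → F} (hb : HB q b)
    (hn : 5 ≤ n) (al : F) (hal : al ^ q ≠ al) (hal0 : al ≠ 0) :
    Cfsg.hermForm n F q (vV q b al hn)
      (actv (uEl q b al) (actv (uEl q b al) (vV q b al hn))) ≠ 0 := by
  have hfadd : ∀ x y : F, (x + y) ^ q = x ^ q + y ^ q := fun x y => frob_add hF x y
  have hqq : (al ^ q) ^ q = al := by
    have := frobQ_frobQ hF al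
    simpa [frobQ_apply] using this
  -- the vector z = b_(n-1), N z = b_(n-2)
  have hNz : Nm q b *ᵥ b (Fin.rev ⟨0, by omega⟩) = b (Fin.rev ⟨1, by omega⟩) := by
    apply Nm_b_succ hF hb
    simp [Fin.rev]
    omega
  have hv : vV q b al hn = b (Fin.rev ⟨0, by omega⟩) + al ^ q • (Nm q b *ᵥ b (Fin.rev ⟨0, by omega⟩)) := by
    rw [hNz]; rfl
  have huv : actv (uEl q b al) (vV q b al hn) =
      b (Fin.rev ⟨0, by omega⟩) + al • (Nm q b *ᵥ b (Fin.rev ⟨0, by omega⟩)) := by
    rw [hv]; exact uEl_key hF hb al _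
  -- the explicit vector w
  set c : Fin n → F := fun i =>
    if i.val + 1 = n then 1 else (al - al ^ q) * (-(al ^ q)) ^ (n - 2 - i.val) with hc
  set w : Fin n → F := ∑ j, c j • b j with hw
  have hcow : ∀ i, co q b w i = c i := fun i => h97_co_comb hF hb c i
  have hweq : w + al ^ q • (Nm q b *ᵥ w) =
      b (Fin.rev ⟨0, by omega⟩) + al • (Nm q b *ᵥ b (Fin.rev ⟨0, by omega⟩)) := by
    apply ext_co hb
    intro i
    rw [hNz, co_add, co_smul, co_add, co_smul, hcow, co_b hb, co_b hb]
    by_cases hi : i.val + 1 = n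
    · rw [co_Nm_last hF hb w i hi]
      have e1 : i = Fin.rev ⟨0, by omega⟩ := by
        apply Fin.ext; simp [Fin.rev]; omega
      have e2 : i ≠ Fin.rev ⟨1, by omega⟩ := by
        intro h; have := congrArg Fin.val h; simp [Fin.rev] at this; omega
      rw [if_pos e1, if_neg e2]
      simp only [hc, if_pos hi]
      ring
    · have hlt : i.val + 1 < n := by have := i.isLt; omega
      rw [co_Nm_succ hF hb w i ⟨i.val + 1, hlt⟩ rfl, hcow]
      have e1 : i ≠ Fin.rev ⟨0, by omega⟩ := by
        intro h; have := congrArg Fin.val h; simp [Fin.rev] at this; omega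
      rw [if_neg e1]
      by_cases hi2 : i.val + 2 = n
      · have e2 : i = Fin.rev ⟨1, by omega⟩ := by
          apply Fin.ext; simp [Fin.rev]; omega
        rw [if_pos e2]
        have h1 : c i = al - al ^ q := by
          simp only [hc, if_neg hi]
          have : n - 2 - i.val = 0 := by omega
          rw [this, pow_zero, mul_one]
        have h2 : c ⟨i.val + 1, hlt⟩ = 1 := by
          simp only [hc]
          rw [if_pos (by omega)]
        rw [h1, h2]; ring
      · have e2 : i ≠ Fin.rev ⟨1, by omega⟩ := by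
          intro h; have := congrArg Fin.val h; simp [Fin.rev] at this; omega
        rw [if_neg e2]
        have h1 : c i = (al - al ^ q) * (-(al ^ q)) ^ (n - 3 - i.val + 1) := by
          simp only [hc, if_neg hi]
          have : n - 2 - i.val = n - 3 - i.val + 1 := by omega
          rw [this]
        have h2 : c ⟨i.val + 1, hlt⟩ = (al - al ^ q) * (-(al ^ q)) ^ (n - 3 - i.val) := by
          simp only [hc]
          rw [if_neg (by omega)]
          have : n - 2 - (i.val + 1) = n - 3 - i.val := by omega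
          rw [this]
        rw [h1, h2, pow_succ]; ring
  have huuv : actv (uEl q b al) (actv (uEl q b al) (vV q b al hn)) = w + al • (Nm q b *ᵥ w) := by
    rw [huv, ← hweq]; exact uEl_key hF hb al w
  rw [huuv]
  -- H v X = (X_0 + al X_1)^q
  have hform : ∀ X : Fin n → F, Cfsg.hermForm n F q (vV q b al hn) X =
      (co q b X ⟨0, by omega⟩ + al * co q b X ⟨1, by omega⟩) ^ q := by
    intro X
    rw [hv, hermForm_add_left, hermForm_smul_left, Nm_adj hF hb, H_b_right hF, H_b_right hF,
      Fin.rev_rev, co_Nm_succ hF hb X ⟨0, by omega⟩ ⟨1, by omega⟩ rfl, hfadd, mul_pow]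
  rw [hform]
  apply pow_ne_zero
  rw [co_add, co_smul, co_add, co_smul, hcow, hcow,
    co_Nm_succ hF hb w ⟨0, by omega⟩ ⟨1, by omega⟩ rfl,
    co_Nm_succ hF hb w ⟨1, by omega⟩ ⟨2, by omega⟩ rfl, hcow, hcow]
  have h0 : c ⟨0, by omega⟩ = (al - al ^ q) * (-(al ^ q)) ^ (n - 4 + 2) := by
    simp only [hc]
    rw [if_neg (by simp; omega)]
    have : n - 2 - 0 = n - 4 + 2 := by omega
    simp only [this]
  have h1 : c ⟨1, by omega⟩ = (al - al ^ q) * (-(al ^ q)) ^ (n - 4 + 1) := by
    simp only [hc]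
    rw [if_neg (by simp; omega)]
    have : n - 2 - 1 = n - 4 + 1 := by omega
    simp only [this]
  have h2 : c ⟨2, by omega⟩ = (al - al ^ q) * (-(al ^ q)) ^ (n - 4) := by
    simp only [hc]
    rw [if_neg (by simp; omega)]
    have : n - 2 - 2 = n - 4 := by omega
    simp only [this]
  rw [h0, h1, h2]
  have hfac : (al - al ^ q) * (-(al ^ q)) ^ (n - 4 + 2) +
      al * ((al - al ^ q) * (-(al ^ q)) ^ (n - 4 + 1)) +
      al * ((al - al ^ q) * (-(al ^ q)) ^ (n - 4 + 1) +
        al * ((al - al ^ q) * (-(al ^ q)) ^ (n - 4))) =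
      (al - al ^ q) ^ 3 * (-(al ^ q)) ^ (n - 4) := by
    rw [pow_add, pow_add]; ring
  rw [hfac]
  apply mul_ne_zero
  · apply pow_ne_zero
    exact sub_ne_zero.2 (fun h => hal h.symm)
  · apply pow_ne_zero
    exact neg_ne_zero.2 (pow_ne_zero _ hal0)

end Cfsg.Agent.Helper97.SUOT
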