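import Mathlib
import Cfsg.Agent.Lib.Helper97.PointStab

set_option autoImplicit false

namespace Cfsg.Agent.Helper97

open Equiv

set_option linter.unusedSectionVars false
set_option linter.unusedVariables false

theorem isSwap_eq {α : Type*} [DecidableEq α] {σ : Perm α} (h : σ.IsSwap) {x : α} (hx : σ x ≠ x) :
    σ = swap x (σ x) := by
  obtain ⟨a, b, hab, rfl⟩ := h
  by_cases hxa : x = a
  · subst hxa; rw [swap_apply_left]
  by_cases hxb : x = b
  · subst hxb; rw [swap_apply_right, swap_comm]
  exact absurd (swap_apply_of_ne_of_ne hxa hxb) hx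

theorem swap_eq_swap {α : Type*} [DecidableEq α] {a b c d : α} (hcd : c ≠ d)
    (h : swap c d = swap a b) : (c = a ∧ d = b) ∨ (c = b ∧ d = a) := by
  have h1 : swap a b c = d := by rw [← h, swap_apply_left]
  by_cases hca : c = a
  · subst hca
    rw [swap_apply_left] at h1
    exact Or.inl ⟨rfl, h1.symm⟩
  by_cases hcb : c = b
  · subst hcb
    rw [swap_apply_right] at h1
    exact Or.inr ⟨rfl, h1.symm⟩
  rw [swap_apply_of_ne_of_ne hca hcb] at h1
  exact absurd h1 hcd

variable {Ω : Type*} [Fintype Ω] [DecidableEq Ω]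

theorem stab_le (H : Subgroup (Perm Ω)) (ω : Ω)
    (h : ∀ b c, b ≠ ω → c ≠ ω → b ≠ c → swap b c ∈ H) : MulAction.stabilizer (Perm Ω) ω ≤ H := by
  rw [← range_ofSubtype_ne, MonoidHom.range_eq_map, ← Equiv.Perm.closure_isSwap, MonoidHom.map_closure,
    Subgroup.closure_le]
  rintro _ ⟨σ, ⟨x, y, hxy, rfl⟩, rfl⟩
  rw [Equiv.Perm.ofSubtype_swap_eq]
  exact h x.1 y.1 x.2 y.2 (fun h => hxy (Subtype.ext h))

theorem pigeon (H : Subgroup (Perm Ω))
    (hcount : Nat.card {τ : Perm Ω // τ.IsSwap ∧ τ ∉ H} + 1 ≤ Fintype.card Ω) :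
    ∃ a : Ω, ∀ b c, b ≠ a → c ≠ a → swap a b ∉ H → swap a c ∉ H → b = c := by
  classical
  rw [Nat.card_eq_fintype_card, Fintype.card_subtype] at hcount
  by_contra hcon
  simp only [not_exists, not_forall] at hcon
  choose b c hb hc hbH hcH hbc using hcon
  set T := Finset.univ.filter (fun τ : Perm Ω => τ.IsSwap ∧ τ ∉ H) with hT
  set P : Finset (Ω × Ω) := Finset.univ.filter (fun q => q.2 ≠ q.1 ∧ swap q.1 q.2 ∉ H) with hP
  -- lower bound
  have h1 : Fintype.card Ω * 2 ≤ P.card := by
    have : Fintype.card (Ω × Bool) = Fintype.card Ω * 2 := by simp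
    rw [← this, ← Finset.card_univ]
    apply Finset.card_le_card_of_injOn (fun q : Ω × Bool => (q.1, if q.2 then b q.1 else c q.1))
    · intro q _
      simp only [hP, Finset.coe_filter, Finset.mem_univ, true_and, Set.mem_ofPred_eq]
      rcases q with ⟨a, i⟩
      cases i
      · exact ⟨hc a, hcH a⟩
      · exact ⟨hb a, hbH a⟩
    · rintro ⟨a, i⟩ _ ⟨a', i'⟩ _ heq
      simp only [Prod.mk.injEq] at heq
      obtain ⟨rfl, h2⟩ := heq
      cases i <;> cases i'
      · rfl
      · exact absurd h2.symm (hbc a)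
      · exact absurd h2 (hbc a)
      · rfl
  -- upper bound
  have h2 : P.card ≤ 2 * T.card := by
    have h3 : P.card ≤ 2 * (P.image (fun q => swap q.1 q.2)).card := by
      apply Finset.card_le_mul_card_image
      intro τ hτ
      rw [Finset.mem_image] at hτ
      obtain ⟨⟨a0, b0⟩, _, rfl⟩ := hτ
      have : (P.filter fun q => swap q.1 q.2 = swap a0 b0) ⊆ {(a0, b0), (b0, a0)} := by
        intro q hq
        rw [Finset.mem_filter] at hq
        obtain ⟨hqP, hq2⟩ := hq
        simp only [hP, Finset.mem_filter, Finset.mem_univ, true_and] at hqP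
        rcases swap_eq_swap hqP.1.symm hq2 with ⟨h1, h2⟩ | ⟨h1, h2⟩
        · simp [Prod.ext_iff, h1, h2]
        · simp [Prod.ext_iff, h1, h2]
      exact (Finset.card_le_card this).trans Finset.card_le_two
    have h4 : (P.image (fun q => swap q.1 q.2)) ⊆ T := by
      intro τ hτ
      rw [Finset.mem_image] at hτ
      obtain ⟨⟨a0, b0⟩, hq, rfl⟩ := hτ
      simp only [hP, Finset.mem_filter, Finset.mem_univ, true_and] at hq
      simp only [hT, Finset.mem_filter, Finset.mem_univ, true_and]
      exact ⟨⟨a0, b0, hq.1.symm, rfl⟩, hq.2⟩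
    exact h3.trans (Nat.mul_le_mul_left 2 (Finset.card_le_card h4))
  omega


theorem card_centralizer_swap {α : Type*} [Fintype α] [DecidableEq α] (τ : Perm α) (hτ : τ.IsSwap) :
    Nat.card (Subgroup.centralizer {τ}) = (Fintype.card α - 2).factorial * 2 := by
  rw [Equiv.Perm.nat_card_centralizer, Equiv.Perm.isSwap_iff_cycleType.mp hτ]
  simp

theorem card_centralizer_invol {α : Type*} [Fintype α] [DecidableEq α] (σ : Perm α) (k : ℕ)
    (hσ : σ.cycleType = Multiset.replicate (k + 1) 2) :
    Nat.card (Subgroup.centralizer {σ}) =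
      (Fintype.card α - 2 * (k + 1)).factorial * 2 ^ (k + 1) * (k + 1).factorial := by
  rw [Equiv.Perm.nat_card_centralizer, hσ]
  have h1 : (Multiset.replicate (k + 1) 2).toFinset = {2} := by
    rw [Multiset.toFinset_replicate, if_neg (Nat.succ_ne_zero k)]
  rw [h1, Multiset.sum_replicate, Multiset.prod_replicate, smul_eq_mul, Finset.prod_singleton,
    Multiset.count_replicate_self, mul_comm (k + 1) 2]

theorem eq_of_stab_le (H : Subgroup (Perm Ω)) (hH : H.index = Fintype.card Ω) (ω : Ω)
    (hle : MulAction.stabilizer (Perm Ω) ω ≤ H) : H = MulAction.stabilizer (Perm Ω) ω := by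
  have h1 : (MulAction.stabilizer (Perm Ω) ω).index = Fintype.card Ω := by
    rw [MulAction.index_stabilizer_of_transitive, Nat.card_eq_fintype_card]
  have h2 := Subgroup.index_mul_card H
  have h3 := Subgroup.index_mul_card (MulAction.stabilizer (Perm Ω) ω)
  rw [hH] at h2
  rw [h1, ← h2] at h3
  have hn : 0 < Fintype.card Ω := Fintype.card_pos_iff.mpr ⟨ω⟩
  have h4 : Nat.card (MulAction.stabilizer (Perm Ω) ω) = Nat.card H := Nat.eq_of_mul_eq_mul_left hn h3
  exact (Subgroup.eq_of_le_of_card_ge hle (by rw [h4])).symm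

theorem eq_of_le_stab (H : Subgroup (Perm Ω)) (hH : H.index = Fintype.card Ω) (ω : Ω)
    (hle : H ≤ MulAction.stabilizer (Perm Ω) ω) : H = MulAction.stabilizer (Perm Ω) ω := by
  have h1 : (MulAction.stabilizer (Perm Ω) ω).index = Fintype.card Ω := by
    rw [MulAction.index_stabilizer_of_transitive, Nat.card_eq_fintype_card]
  have h2 := Subgroup.index_mul_card H
  have h3 := Subgroup.index_mul_card (MulAction.stabilizer (Perm Ω) ω)
  rw [hH] at h2
  rw [h1, ← h2] at h3
  have hn : 0 < Fintype.card Ω := Fintype.card_pos_iff.mpr ⟨ω⟩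
  have h4 : Nat.card (MulAction.stabilizer (Perm Ω) ω) = Nat.card H := Nat.eq_of_mul_eq_mul_left hn h3
  exact Subgroup.eq_of_le_of_card_ge hle (by rw [h4])

theorem core_eq_bot (h5 : 5 ≤ Fintype.card Ω) (H : Subgroup (Perm Ω))
    (hH : H.index = Fintype.card Ω) : H.normalCore = ⊥ := by
  by_contra hne
  have hnt : Nontrivial H.normalCore := (Subgroup.nontrivial_iff_ne_bot _).mpr hne
  have hA := Equiv.Perm.alternatingGroup_le_of_normal
    (by rw [Nat.card_eq_fintype_card]; exact h5) hnt
  have hAH : alternatingGroup Ω ≤ H := hA.trans (Subgroup.normalCore_le H)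
  have hd := Subgroup.index_dvd_of_le hAH
  have : Nontrivial Ω := Fintype.one_lt_card_iff_nontrivial.mp (by omega)
  rw [alternatingGroup.index_eq_two, hH] at hd
  have := Nat.le_of_dvd (by norm_num) hd
  omega


/-- If at most `n - 1` swaps are missing from an index-`n` subgroup of `Perm Ω`, it is a point stabiliser. -/
theorem stab_of_count (h2 : 2 ≤ Fintype.card Ω) (H : Subgroup (Perm Ω))
    (hH : H.index = Fintype.card Ω)
    (hcount : Nat.card {τ : Perm Ω // τ.IsSwap ∧ τ ∉ H} + 1 ≤ Fintype.card Ω) :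
    ∃ x : Ω, H = MulAction.stabilizer (Perm Ω) x := by
  obtain ⟨a, ha⟩ := pigeon H hcount
  have : Nontrivial Ω := Fintype.one_lt_card_iff_nontrivial.mp (by omega)
  obtain ⟨ω, hωa, hω⟩ : ∃ ω, ω ≠ a ∧ ∀ b, b ≠ a → b ≠ ω → swap a b ∈ H := by
    by_cases hall : ∀ b, b ≠ a → swap a b ∈ H
    · obtain ⟨ω, hω⟩ := exists_ne a
      exact ⟨ω, hω, fun b hb _ => hall b hb⟩
    · simp only [not_forall] at hall
      obtain ⟨ω, hωa, hωH⟩ := hall
      exact ⟨ω, hωa, fun b hb hbω => by
        by_contra h
        exact hbω (ha b ω hb hωa h hωH)⟩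
  refine ⟨ω, eq_of_stab_le H hH ω (stab_le H ω ?_)⟩
  intro b c hb hc hbc
  by_cases hba : b = a
  · subst hba
    exact hω c (Ne.symm hbc) hc
  by_cases hca : c = a
  · subst hca
    rw [swap_comm]
    exact hω b hba hb
  have h1 := hω b hba hb
  have h2 := hω c hca hc
  have : swap b c = swap a b * swap a c * swap a b := by
    have := swap_mul_swap_mul_swap (x := c) (y := a) (z := b) hca (Ne.symm hbc)
    rw [swap_comm c a] at this
    exact this.symm
  rw [this]
  exact H.mul_mem (H.mul_mem h1 h2) h1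

section quot
variable {G : Type*} [Group G] (H : Subgroup G)

theorem toPermHom_mk_one (g : G) :
    MulAction.toPermHom G (G ⧸ H) g (QuotientGroup.mk 1) = QuotientGroup.mk g := by
  show g • (QuotientGroup.mk 1 : G ⧸ H) = _
  rw [MulAction.Quotient.smul_mk, smul_eq_mul, mul_one]

theorem toPermHom_mk (g a : G) :
    MulAction.toPermHom G (G ⧸ H) g (QuotientGroup.mk a) = QuotientGroup.mk (g * a) := by
  show g • (QuotientGroup.mk a : G ⧸ H) = _
  rw [MulAction.Quotient.smul_mk, smul_eq_mul]

theorem mk_eq_mk_one_iff (g : G) : (QuotientGroup.mk g : G ⧸ H) = QuotientGroup.mk 1 ↔ g ∈ H := by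
  rw [QuotientGroup.eq, mul_one, inv_mem_iff]

end quot

/-- An injective homomorphism between symmetric groups of the same finite degree preserves
centraliser orders. -/
theorem card_centralizer_map {X : Type*} [Fintype X] [DecidableEq X]
    (hX : Fintype.card X = Fintype.card Ω) (φ : Perm Ω →* Perm X) (hφ : Function.Injective φ)
    (τ : Perm Ω) :
    Nat.card (Subgroup.centralizer {φ τ}) = Nat.card (Subgroup.centralizer {τ}) := by
  have hbij : Function.Bijective φ := by
    rw [Fintype.bijective_iff_injective_and_card]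
    refine ⟨hφ, ?_⟩
    rw [Fintype.card_perm, Fintype.card_perm, hX]
  have hmap : (Subgroup.centralizer {τ}).map φ = Subgroup.centralizer {φ τ} := by
    ext σ
    rw [Subgroup.mem_map, Subgroup.mem_centralizer_singleton_iff]
    constructor
    · rintro ⟨g, hg, rfl⟩
      rw [Subgroup.mem_centralizer_singleton_iff] at hg
      rw [← map_mul, ← map_mul, hg]
    · intro h
      obtain ⟨g, rfl⟩ := hbij.2 σ
      refine ⟨g, ?_, rfl⟩
      rw [Subgroup.mem_centralizer_singleton_iff]
      apply hφ
      rw [map_mul, map_mul, h]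
  rw [← hmap]
  exact Subgroup.card_map_of_injective hφ

theorem bijective_of_injective {X : Type*} [Fintype X] [DecidableEq X]
    (hX : Fintype.card X = Fintype.card Ω) (φ : Perm Ω →* Perm X) (hφ : Function.Injective φ) :
    Function.Bijective φ := by
  rw [Fintype.bijective_iff_injective_and_card]
  refine ⟨hφ, ?_⟩
  rw [Fintype.card_perm, Fintype.card_perm, hX]

end Cfsg.Agent.Helper97
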