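import Mathlib

set_option autoImplicit false

namespace Cfsg.Agent.Helper97.U6

/-- (CORE) of helper92's U6 server: the graph-subgroup argument. -/
theorem core {H S : Type*} [Group H] [Group S] [Finite H] [Finite S]
    (hP : IsSimpleGroup (S ⧸ Subgroup.center S))
    (hnp : ¬ (Nat.card (S ⧸ Subgroup.center S)).Prime)
    (hcard : Nat.card H = 2 * Nat.card (S ⧸ Subgroup.center S))
    (a : H) (ha : a ∈ Subgroup.center H) (ha1 : a ≠ 1)
    {n : ℕ} (τ : Fin n → S) (hτ : Function.Injective τ)
    (ρ : H →* Equiv.Perm (Fin n)) (hρa : ρ a = 1)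
    (Γ : Set H) (hΓ : Subgroup.closure Γ = ⊤)
    (heq : ∀ γ ∈ Γ, ∃ m : S, ∀ i, τ (ρ γ i) = m * τ i * m⁻¹)
    (htrans : ∀ i j, ∃ h : H, ρ h i = j)
    (i0 : Fin n) (γ0 : H) (h0 : ∀ i, τ (ρ γ0 i) = τ i0 * τ i * (τ i0)⁻¹)
    (hclosed : ∀ (s : S) (i : Fin n), ∃ j, s * τ i * s⁻¹ = τ j)
    (hnc : ∃ j, τ i0 * τ j ≠ τ j * τ i0) :
    Nat.card (Subgroup.center H) = 2 ∧
      Nonempty (H ⧸ Subgroup.center H ≃* S ⧸ Subgroup.center S) := by
  classical
  let T : Subgroup (H × S) :=
    { carrier := {p | ∀ i, τ (ρ p.1 i) = p.2 * τ i * p.2⁻¹}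
      one_mem' := by
        intro i
        simp
      mul_mem' := by
        intro p q hp hq i
        have hp' := hp (ρ q.1 i)
        have hq' := hq i
        simp only [Prod.fst_mul, Prod.snd_mul, map_mul, Equiv.Perm.coe_mul, Function.comp_apply]
        rw [hp', hq']
        group
      inv_mem' := by
        intro p hp i
        have hp' := hp ((ρ p.1)⁻¹ i)
        have e : (ρ p.1) ((ρ p.1)⁻¹ i) = i := by simp
        rw [e] at hp'
        show τ ((ρ p⁻¹.1) i) = p⁻¹.2 * τ i * p⁻¹.2⁻¹
        simp only [Prod.fst_inv, Prod.snd_inv, map_inv, inv_inv]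
        rw [hp']
        group }
  have hT : ∀ (h : H) (s : S), (h, s) ∈ T ↔ ∀ i, τ (ρ h i) = s * τ i * s⁻¹ :=
    fun h s => Iff.rfl
  -- (1) first projection is onto
  have hfst : ∀ h : H, ∃ s : S, (h, s) ∈ T := by
    have htop : T.map (MonoidHom.fst H S) = ⊤ := by
      rw [eq_top_iff, ← hΓ, Subgroup.closure_le]
      intro γ hγ
      obtain ⟨m, hm⟩ := heq γ hγ
      exact Subgroup.mem_map.mpr ⟨(γ, m), (hT γ m).mpr hm, rfl⟩
    intro h
    have hh : h ∈ T.map (MonoidHom.fst H S) := htop ▸ Subgroup.mem_top h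
    obtain ⟨p, hp, hph⟩ := Subgroup.mem_map.mp hh
    refine ⟨p.2, ?_⟩
    have : p = (h, p.2) := by
      ext
      · exact hph
      · rfl
    rw [← this]
    exact hp
  -- (2) every `τ j` is in the second projection
  have hτmem : ∀ j, ∃ h : H, (h, τ j) ∈ T := by
    intro j
    obtain ⟨h, hh⟩ := htrans i0 j
    obtain ⟨s, hs⟩ := hfst h
    have h1 : (γ0, τ i0) ∈ T := (hT _ _).mpr h0
    have h2 : (h, s) * (γ0, τ i0) * (h, s)⁻¹ ∈ T := T.mul_mem (T.mul_mem hs h1) (T.inv_mem hs)
    have e : s * τ i0 * s⁻¹ = τ j := by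
      rw [← (hT h s).mp hs i0, hh]
    refine ⟨h * γ0 * h⁻¹, ?_⟩
    rw [← e]
    exact h2
  -- central elements
  have hZmem : ∀ z ∈ Subgroup.center S, ((1 : H), z) ∈ T := by
    intro z hz
    rw [hT]
    intro i
    have := Subgroup.mem_center_iff.mp hz (τ i)
    simp only [map_one, Equiv.Perm.coe_one, id_eq]
    rw [← this]
    group
  -- N
  set N : Subgroup S := Subgroup.closure (Set.range τ) with hNdef
  have hNnormal : N.Normal := by
    constructor
    intro x hx g
    induction hx using Subgroup.closure_induction with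
    | mem y hy =>
      obtain ⟨i, rfl⟩ := hy
      obtain ⟨j, hj⟩ := hclosed g i
      rw [hj]
      exact Subgroup.subset_closure ⟨j, rfl⟩
    | one => simp
    | mul x y _ _ hx hy =>
      have : g * (x * y) * g⁻¹ = (g * x * g⁻¹) * (g * y * g⁻¹) := by group
      rw [this]
      exact N.mul_mem hx hy
    | inv x _ hx =>
      have : g * x⁻¹ * g⁻¹ = (g * x * g⁻¹)⁻¹ := by group
      rw [this]
      exact N.inv_mem hx
  have hNle : N ≤ T.map (MonoidHom.snd H S) := by
    rw [hNdef, Subgroup.closure_le]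
    rintro _ ⟨j, rfl⟩
    obtain ⟨h, hh⟩ := hτmem j
    exact Subgroup.mem_map.mpr ⟨(h, τ j), hh, rfl⟩
  -- (3) decomposition
  have hdecomp : ∀ s : S, ∃ x ∈ N, ∃ z ∈ Subgroup.center S, s = x * z := by
    have hMn : (N.map (QuotientGroup.mk' (Subgroup.center S))).Normal :=
      Subgroup.Normal.map hNnormal _ (QuotientGroup.mk'_surjective _)
    rcases hMn.eq_bot_or_eq_top with hbot | htop
    · exfalso
      obtain ⟨j, hj⟩ := hnc
      have hi0 : τ i0 ∈ N := Subgroup.subset_closure ⟨i0, rfl⟩
      have : (QuotientGroup.mk' (Subgroup.center S)) (τ i0) ∈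
          N.map (QuotientGroup.mk' (Subgroup.center S)) := Subgroup.mem_map_of_mem _ hi0
      rw [hbot, Subgroup.mem_bot] at this
      have hc : τ i0 ∈ Subgroup.center S := (QuotientGroup.eq_one_iff _).mp this
      exact hj (Subgroup.mem_center_iff.mp hc (τ j)).symm
    · intro s
      have : (QuotientGroup.mk' (Subgroup.center S)) s ∈
          N.map (QuotientGroup.mk' (Subgroup.center S)) := htop ▸ Subgroup.mem_top _
      obtain ⟨x, hx, hxs⟩ := Subgroup.mem_map.mp this
      refine ⟨x, hx, x⁻¹ * s, ?_, by group⟩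
      exact QuotientGroup.eq.mp hxs
  -- second projection onto
  have hsnd : ∀ s : S, ∃ h : H, (h, s) ∈ T := by
    intro s
    obtain ⟨x, hx, z, hz, rfl⟩ := hdecomp s
    obtain ⟨p, hp, hpx⟩ := Subgroup.mem_map.mp (hNle hx)
    refine ⟨p.1, ?_⟩
    have h2 : p * ((1 : H), z) ∈ T := T.mul_mem hp (hZmem z hz)
    have : p * ((1 : H), z) = (p.1, x * z) := by
      ext
      · simp
      · simp only [Prod.snd_mul]
        rw [← hpx]
        rfl
    rw [← this]
    exact h2
  -- (4) kernel of the first projection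
  have hker : ∀ s : S, ((1 : H), s) ∈ T → s ∈ Subgroup.center S := by
    intro s hs
    have hcomm : ∀ i, s * τ i = τ i * s := by
      intro i
      have := (hT 1 s).mp hs i
      simp only [map_one, Equiv.Perm.coe_one, id_eq] at this
      calc s * τ i = s * τ i * s⁻¹ * s := by group
        _ = τ i * s := by rw [← this]
    have hNc : N ≤ Subgroup.centralizer {s} := by
      rw [hNdef, Subgroup.closure_le]
      rintro _ ⟨i, rfl⟩
      rw [SetLike.mem_coe, Subgroup.mem_centralizer_iff]
      intro h hh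
      rw [Set.mem_singleton_iff] at hh
      rw [hh]
      exact hcomm i
    rw [Subgroup.mem_center_iff]
    intro g
    obtain ⟨x, hx, z, hz, rfl⟩ := hdecomp g
    have hxs : s * x = x * s := by
      have := Subgroup.mem_centralizer_iff.mp (hNc hx) s (Set.mem_singleton s)
      exact this
    have hzs : s * z = z * s := Subgroup.mem_center_iff.mp hz s
    calc x * z * s = x * (z * s) := by group
      _ = x * (s * z) := by rw [hzs]
      _ = (x * s) * z := by group
      _ = (s * x) * z := by rw [hxs]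
      _ = s * (x * z) := by group
  -- (5) the homomorphism θ
  let π1 : T →* H := (MonoidHom.fst H S).comp T.subtype
  let ψ : T →* S ⧸ Subgroup.center S :=
    (QuotientGroup.mk' (Subgroup.center S)).comp ((MonoidHom.snd H S).comp T.subtype)
  have hπ1 : Function.Surjective π1 := by
    intro h
    obtain ⟨s, hs⟩ := hfst h
    exact ⟨⟨(h, s), hs⟩, rfl⟩
  have hle : π1.ker ≤ ψ.ker := by
    intro p hp
    rw [MonoidHom.mem_ker] at hp ⊢
    have hp1 : (p : H × S).1 = 1 := hp
    have : ((1 : H), (p : H × S).2) ∈ T := by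
      have : (p : H × S) = ((1 : H), (p : H × S).2) := by
        ext
        · exact hp1
        · rfl
      rw [← this]
      exact p.2
    exact (QuotientGroup.eq_one_iff _).mpr (hker _ this)
  let θ : H →* S ⧸ Subgroup.center S := π1.liftOfSurjective hπ1 ⟨ψ, hle⟩
  have hθ : ∀ (h : H) (s : S), (h, s) ∈ T → θ h = QuotientGroup.mk' (Subgroup.center S) s := by
    intro h s hs
    have := MonoidHom.liftOfRightInverse_comp_apply π1 (Function.surjInv hπ1)
      (Function.rightInverse_surjInv hπ1) ⟨ψ, hle⟩ ⟨(h, s), hs⟩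
    exact this
  have hθsurj : Function.Surjective θ := by
    intro q
    obtain ⟨s, rfl⟩ := QuotientGroup.mk'_surjective (Subgroup.center S) q
    obtain ⟨h, hh⟩ := hsnd s
    exact ⟨h, hθ h s hh⟩
  have haker : a ∈ θ.ker := by
    rw [MonoidHom.mem_ker]
    have : (a, (1 : S)) ∈ T := by
      rw [hT]
      intro i
      rw [hρa]
      simp
    rw [hθ a 1 this]
    exact map_one _
  -- cardinality of the kernel
  have hcardker : Nat.card θ.ker = 2 := by
    have e1 : Nat.card (H ⧸ θ.ker) = Nat.card (S ⧸ Subgroup.center S) :=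
      Nat.card_congr (QuotientGroup.quotientKerEquivOfSurjective θ hθsurj).toEquiv
    have e2 := Subgroup.card_eq_card_quotient_mul_card_subgroup θ.ker
    rw [e1, hcard] at e2
    have hpos : 0 < Nat.card (S ⧸ Subgroup.center S) := Nat.card_pos
    have : Nat.card (S ⧸ Subgroup.center S) * 2 = Nat.card (S ⧸ Subgroup.center S) * Nat.card θ.ker := by
      rw [← e2]; ring
    exact (Nat.eq_of_mul_eq_mul_left hpos this).symm
  have hkerz : Subgroup.zpowers a = θ.ker := by
    apply Subgroup.eq_of_le_of_card_ge (Subgroup.zpowers_le.mpr haker)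
    rw [hcardker, Nat.card_zpowers]
    have h1 : orderOf a ≠ 1 := fun h => ha1 (orderOf_eq_one_iff.mp h)
    have h2 : 0 < orderOf a := orderOf_pos a
    omega
  have hker_le : θ.ker ≤ Subgroup.center H := by
    rw [← hkerz]
    exact Subgroup.zpowers_le.mpr ha
  -- centre of the simple quotient is trivial
  have hcQ : Subgroup.center (S ⧸ Subgroup.center S) = ⊥ := by
    rcases (inferInstance : (Subgroup.center (S ⧸ Subgroup.center S)).Normal).eq_bot_or_eq_top
      with hb | ht
    · exact hb
    · exfalso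
      let _ : CommGroup (S ⧸ Subgroup.center S) := Group.commGroupOfCenterEqTop ht
      exact hnp (IsSimpleGroup.prime_card)
  have hcenter_le : Subgroup.center H ≤ θ.ker := by
    intro z hz
    rw [MonoidHom.mem_ker]
    have : θ z ∈ Subgroup.center (S ⧸ Subgroup.center S) := by
      rw [Subgroup.mem_center_iff]
      intro q
      obtain ⟨h, rfl⟩ := hθsurj q
      rw [← map_mul, ← map_mul, Subgroup.mem_center_iff.mp hz h]
    rw [hcQ, Subgroup.mem_bot] at this
    exact this
  have hEq : Subgroup.center H = θ.ker := le_antisymm hcenter_le hker_le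
  refine ⟨by rw [hEq]; exact hcardker, ⟨?_⟩⟩
  exact (QuotientGroup.quotientMulEquivOfEq hEq).trans
    (QuotientGroup.quotientKerEquivOfSurjective θ hθsurj)

end Cfsg.Agent.Helper97.U6
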