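import Mathlib
import Cfsg.Agent.Lib.Helper98.WR0

/-!
# WR pieces W1, W1b, W1c (helper97) for helper98's WR server (S2347)
-/

set_option autoImplicit false

namespace Cfsg.Agent.Helper97.WR

open Matrix Cfsg.Agent.Helper98.SPE Cfsg.Agent.Helper98.WR

section WEYL

variable {F : Type*} [Field F] {n : ℕ} (ψ : AddChar F ℂ)

theorem h97_sympForm_eq (u v : Fin n ⊕ Fin n → F) :
    Cfsg.sympForm n F u v =
      (v ∘ Sum.inl) ⬝ᵥ (u ∘ Sum.inr) - (u ∘ Sum.inl) ⬝ᵥ (v ∘ Sum.inr) := by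
  unfold Cfsg.sympForm Matrix.J
  have hv : v = Sum.elim (v ∘ Sum.inl) (v ∘ Sum.inr) := by
    funext i; cases i <;> rfl
  conv_lhs => rw [hv]
  rw [Matrix.fromBlocks_mulVec]
  simp only [dotProduct, Fintype.sum_sum_type, Sum.elim_inl, Sum.elim_inr, Matrix.zero_mulVec,
    Matrix.neg_mulVec, Matrix.one_mulVec, Pi.neg_apply, zero_add,
    add_zero, Function.comp_apply, mul_neg, Finset.sum_neg_distrib]
  have h1 : ∑ x, v (Sum.inl x) * u (Sum.inr x) = ∑ x, u (Sum.inr x) * v (Sum.inl x) :=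
    Finset.sum_congr rfl (fun x _ => mul_comm _ _)
  rw [h1]
  ring

theorem wOp_mul (h2 : (2 : F) ≠ 0) (u v : Fin n ⊕ Fin n → F) :
    wOp ψ u * wOp ψ v = ψ (Cfsg.sympForm n F u v / 2) • wOp ψ (u + v) := by
  apply LinearMap.ext
  intro f
  funext x
  rw [Module.End.mul_apply, wOp_apply, wOp_apply, LinearMap.smul_apply, Pi.smul_apply, wOp_apply,
    smul_eq_mul, h97_sympForm_eq]
  have hinl : (u + v) ∘ Sum.inl = u ∘ Sum.inl + v ∘ Sum.inl := rfl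
  have hinr : (u + v) ∘ Sum.inr = u ∘ Sum.inr + v ∘ Sum.inr := rfl
  rw [hinl, hinr, ← add_assoc x]
  rw [← mul_assoc, ← mul_assoc, ← AddChar.map_add_eq_mul, ← AddChar.map_add_eq_mul]
  congr 2
  simp only [add_dotProduct, dotProduct_add]
  have hc : (v ∘ Sum.inl) ⬝ᵥ (u ∘ Sum.inr) = (u ∘ Sum.inr) ⬝ᵥ (v ∘ Sum.inl) := dotProduct_comm _ _
  field_simp
  ring

theorem wOp_zero : wOp ψ (0 : Fin n ⊕ Fin n → F) = 1 := by
  apply LinearMap.ext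
  intro f
  funext x
  rw [wOp_apply]
  have h1 : ((0 : Fin n ⊕ Fin n → F) ∘ Sum.inl) = 0 := rfl
  have h2 : ((0 : Fin n ⊕ Fin n → F) ∘ Sum.inr) = 0 := rfl
  rw [h1, h2]
  simp

theorem wOp_mul_neg (h2 : (2 : F) ≠ 0) (v : Fin n ⊕ Fin n → F) :
    wOp ψ v * wOp ψ (-v) = 1 := by
  rw [wOp_mul ψ h2, add_neg_cancel, wOp_zero, h97_sympForm_eq]
  have h1 : ((-v) ∘ Sum.inl) = -(v ∘ Sum.inl) := rfl
  have h3 : ((-v) ∘ Sum.inr) = -(v ∘ Sum.inr) := rfl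
  rw [h1, h3]
  simp

end WEYL

end Cfsg.Agent.Helper97.WR
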